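import Groth.Agent.SubAdjLib.FewNodes
import Groth.Agent.DCohLib.PerfLocFree
import Groth.Agent.H1ZeroLib.Global
import Groth.Agent.HilbObsLib.Lift
import Groth.Agent.PullbackMod.LocFree

/-!
# Peeling rational components off a locally free module
-/

set_option autoImplicit false
set_option backward.isDefEq.respectTransparency false
set_option backward.isDefEq.respectTransparency.types false
set_option linter.style.haveILetI false
set_option maxHeartbeats 1000000

universe u

open CategoryTheory CategoryTheory.Limits AlgebraicGeometry TopologicalSpace Opposite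
open Groth.Agent.PullbackMod Groth.Agent.DCohLib Groth.Agent.CurveLib Groth.Agent.H1ZeroLib
open Groth.Agent.CliffCurveLib
open scoped TensorProduct

noncomputable section

namespace Groth.Agent.SubAdjLib

variable {X : Scheme.{u}}

theorem killed_kernel_qmap {S T Z : Closeds X} (h : T ≤ S) (hS : S ≤ T ⊔ Z) :
    Killed (vI Z) (kernel (qmap (vI_mono h))) := fun y a ha n => by
  refine (mono_iff_stalk (kernel.ι (qmap (vI_mono h)))).1 inferInstance y ?_
  rw [map_smul, map_zero]
  obtain ⟨r, hr⟩ := qv_surjective (vI S) y (stalkLin (kernel.ι (qmap (vI_mono h))) y n)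
  have hT := HilbObsLib.stalk_kernel_ι_comp (qmap (vI_mono h)) y n
  rw [← hr, stalk_qmap, qv_eq_zero_iff] at hT
  rw [← hr, qv_eq_smul, smul_smul, ← qv_eq_smul, qv_eq_zero_iff]
  refine stalkIdeal_mono (vI_mono hS) y ?_
  rw [show vI (T ⊔ Z) = vI T ⊓ vI Z from Scheme.IdealSheafData.vanishingIdeal_sup T Z, H1ZeroLib.stalkIdeal_inf]
  exact ⟨Ideal.mul_mem_left _ _ hT, Ideal.mul_mem_right _ _ ha⟩

variable {k : Type u} [Field k] [X.Over (Spec (CommRingCat.of k))] [IsProper (X ↘ Spec (CommRingCat.of k))]

include k in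
/-- `H¹(N ⊗ E) = 0` when `H¹(N) = 0` and `E` is generated by global sections where `N` lives. -/
theorem subsingleton_H1_tensor_killed (hdim : topologicalKrullDim X ≤ 1) {A : X.IdealSheafData} {N : X.Modules}
    (hN : Killed A N) [Subsingleton (Coh.HH X N 1)] (E : X.Modules) {n : ℕ}
    (σ : Fin n → (Coh.structureModule X ⟶ LJ A E))
    (hσ : ∀ x ∈ A.support, (⨆ i, LinearMap.range (stalkLin (σ i) x)) = ⊤) :
    Subsingleton (Coh.HH X (tmod N E) 1) := by
  let φ := tmap (ClSub.toSubscheme A) E
  haveI hiso : IsIso (((DCoh.tensorBi (X := X)).obj N).map φ) := by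
    haveI : Epi (ClSub.toSubscheme A) := HilbObsLib.epi_toSubscheme A
    have hq : ∀ x, Function.Surjective (stalkLin (ClSub.toSubscheme A) x) := (epi_iff_stalk _).1 inferInstance
    refine isIso_mulR _ (fun x z => ?_) fun x m a ha => ?_
    · obtain ⟨z, rfl⟩ := (stalkTensor x (ClSub.quotMod A) E).surjective z
      obtain ⟨w, rfl⟩ := LinearMap.rTensor_surjective (E.presheaf.stalk x) (hq x) z
      exact ⟨stalkTensor x _ E w, stalkTensor_natural_left x _ w⟩
    · obtain ⟨z, rfl⟩ := (stalkTensor x (Coh.structureModule X) E).surjective a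
      rw [stalkTensor_natural_left, LinearEquiv.map_eq_zero_iff] at ha
      obtain ⟨w, rfl⟩ := (rTensor_exact (E.presheaf.stalk x)
        (LinearMap.exact_subtype_ker_map (stalkLin (ClSub.toSubscheme A) x)) (hq x) z).1 ha
      clear ha
      induction w with
      | zero => rw [map_zero, map_zero, TensorProduct.tmul_zero]
      | add a b ha hb => rw [map_add, map_add, TensorProduct.tmul_add, ha, hb, add_zero]
      | tmul r f =>
        obtain ⟨c, hc⟩ := (ParaFLib.bijective_oneG x).2 r.1
        dsimp only at hc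
        have hcA : c ∈ IntMult.stalkIdeal A x := (qv_eq_zero_iff A x c).1 (by
          have h := r.2
          rw [LinearMap.mem_ker, ← hc] at h
          exact h)
        rw [LinearMap.rTensor_tmul, Submodule.coe_subtype, ← hc, ← TensorProduct.smul_tmul', map_smul,
          ← TensorProduct.smul_tmul, hN x c hcA m, TensorProduct.zero_tmul]
  haveI : Subsingleton (Coh.HH X (tmod N (tmod (Coh.structureModule X) E)) 1) := by
    refine subsingleton_H1_of_jointly (k := k) hdim n _
      (fun i => (tensorStructureIso N).inv ≫ mulS N (σ i) ≫ inv (((DCoh.tensorBi (X := X)).obj N).map φ)) fun x => ?_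
    by_cases hx : x ∈ A.support
    · refine eq_top_iff.2 fun z hz => ?_
      clear hz
      obtain ⟨z, rfl⟩ := ((isIso_iff_stalk (inv (((DCoh.tensorBi (X := X)).obj N).map φ))).1 inferInstance x).2 z
      obtain ⟨z, rfl⟩ := (stalkTensor x N (LJ A E)).surjective z
      induction z with
      | zero => rw [map_zero, map_zero]; exact zero_mem _
      | add a b ha hb => rw [map_add, map_add]; exact add_mem ha hb
      | tmul a b =>
        have hb : b ∈ ⨆ i, LinearMap.range (stalkLin (σ i) x) := (hσ x hx).symm ▸ Submodule.mem_top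
        induction hb using Submodule.iSup_induction' with
        | zero => rw [TensorProduct.tmul_zero, map_zero, map_zero]; exact zero_mem _
        | add b c _ _ hb hc => rw [TensorProduct.tmul_add, map_add, map_add]; exact add_mem hb hc
        | mem i b hb =>
          obtain ⟨v, rfl⟩ := hb
          refine Submodule.mem_iSup_of_mem i ?_
          obtain ⟨w, hw⟩ := ((isIso_iff_stalk (tensorStructureIso N).inv).1 inferInstance x).2
            (stalkTensor x N _ (a ⊗ₜ[X.presheaf.stalk x] v))
          refine ⟨w, ?_⟩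
          rw [stalkLin_comp, stalkLin_comp, LinearMap.comp_apply, LinearMap.comp_apply, hw]
          refine congrArg _ ?_
          exact stalkTensor_natural_right x (σ i) _
    · haveI : Subsingleton (N.presheaf.stalk x) := ⟨fun a b => by
        have key : ∀ m : N.presheaf.stalk x, m = 0 := fun m => by
          have h := hN x 1 (by rw [IdealMulLib.stalkIdeal_eq_top A hx]; trivial) m
          rwa [one_smul] at h
        rw [key a, key b]⟩
      haveI : Subsingleton ((tmod N (tmod (Coh.structureModule X) E)).presheaf.stalk x) :=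
        (stalkTensor x N _).symm.injective.subsingleton
      exact Subsingleton.elim _ _
  exact ProjCoh.subsingleton_of_iso (((DCoh.tensorBi (X := X)).obj N).mapIso (tmodUnit E)) 1

include k in
/-- A locally free module, globally generated on a closed subset, has jointly generating sections there. -/
theorem exists_sections_on {Z : Closeds X} {F : X.Modules} (hF : Coh.IsCoh ((Scheme.Modules.pullback (vI Z).subschemeι).obj F))
    (h : Curv2.IsGloballyGenerated ((Scheme.Modules.pullback (vI Z).subschemeι).obj F)) :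
    ∃ (n : ℕ) (σ : Fin n → (Coh.structureModule X ⟶ LJ (vI Z) F)),
      ∀ x ∈ (vI Z).support, (⨆ i, LinearMap.range (stalkLin (σ i) x)) = ⊤ := by
  letI : (vI Z).subscheme.Over (Spec (CommRingCat.of k)) := ⟨(vI Z).subschemeι ≫ (X ↘ Spec (CommRingCat.of k))⟩
  haveI : IsProper ((vI Z).subscheme ↘ Spec (CommRingCat.of k)) :=
    inferInstanceAs (IsProper ((vI Z).subschemeι ≫ (X ↘ Spec (CommRingCat.of k))))
  set i := (vI Z).subschemeι
  obtain ⟨n, σ, hσ⟩ := exists_fin_sections (k := k) hF h
  refine ⟨n, fun j => ClSub.toSubscheme (vI Z) ≫ (Scheme.Modules.pushforward i).map (σ j) ≫ (ljIso F Z).inv,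
    fun x hx => eq_top_iff.2 fun z _ => ?_⟩
  obtain ⟨w, rfl⟩ : ∃ w, i w = x := by
    rw [← Set.mem_range, Scheme.IdealSheafData.range_subschemeι]; exact hx
  obtain ⟨z, rfl⟩ := ((isIso_iff_stalk (ljIso F Z).inv).1 inferInstance (i w)).2 z
  haveI : Epi (ClSub.toSubscheme (vI Z)) := HilbObsLib.epi_toSubscheme _
  have hq : ∀ x, Function.Surjective (stalkLin (ClSub.toSubscheme (vI Z)) x) := (epi_iff_stalk _).1 inferInstance
  have key : ∀ v, v ∈ ⨆ j, LinearMap.range (stalkLin (σ j) w) → ∀ z, pushStalk i _ w z = v →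
      stalkLin (ljIso F Z).inv (i w) z ∈ ⨆ j, LinearMap.range
        (stalkLin (ClSub.toSubscheme (vI Z) ≫ (Scheme.Modules.pushforward i).map (σ j) ≫ (ljIso F Z).inv) (i w)) := by
    intro v hv
    induction hv using Submodule.iSup_induction' with
    | zero => intro z hz; rw [(bijective_pushStalk i _ w).1 (hz.trans (map_zero _).symm), map_zero]; exact zero_mem _
    | add b c _ _ hb hc =>
      intro z hz
      obtain ⟨zb, hzb⟩ := (bijective_pushStalk i _ w).2 b
      obtain ⟨zc, hzc⟩ := (bijective_pushStalk i _ w).2 c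
      rw [(bijective_pushStalk i _ w).1 (hz.trans (by rw [map_add, hzb, hzc])) (a₂ := zb + zc), map_add]
      exact add_mem (hb zb hzb) (hc zc hzc)
    | mem j b hb =>
      intro z hz
      obtain ⟨v, rfl⟩ := hb
      obtain ⟨v', rfl⟩ := (bijective_pushStalk i (Coh.structureModule (vI Z).subscheme) w).2 v
      obtain ⟨u, rfl⟩ := hq (i w) v'
      refine Submodule.mem_iSup_of_mem j ⟨u, ?_⟩
      rw [stalkLin_comp, stalkLin_comp, LinearMap.comp_apply, LinearMap.comp_apply]
      exact congrArg _ ((bijective_pushStalk i _ w).1 ((HilbObsLib.pushStalk_map i (σ j) w _).trans hz.symm))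
  exact key _ (by rw [hσ w]; trivial) z rfl

variable [IsAlgClosed k]

include k in
/-- Removing a part where the module is globally generated does not change `h¹` on trees. -/
theorem finrank_H1_peel (hdim : topologicalKrullDim X ≤ 1) {S T Z : Closeds X}
    (hT : IsSub T) (hS : IsSub S) (h : T ≤ S) (hle : S ≤ T ⊔ Z) (hg : gS k S = 0) {F : X.Modules}
    (hF : FlatMod.IsFinLocFree F)
    (hFZ : Curv2.IsGloballyGenerated ((Scheme.Modules.pullback (vI Z).subschemeι).obj F)) :
    Module.finrank k (Coh.HH X (LJ (vI S) F) 1) = Module.finrank k (Coh.HH X (LJ (vI T) F) 1) := by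
  haveI := EulerIneqLib.isNoetherian_proper (X := X) k
  let q := qmap (vI_mono h)
  have hq := surjective_qmap (vI_mono h)
  have hse := kerSeq_shortExact q hq
  haveI h0S := EulerIneqLib.finite_HH (k := k) (IntLib.isCoh_quotMod (vI S)) 0
  haveI h0T := EulerIneqLib.finite_HH (k := k) (IntLib.isCoh_quotMod (vI T)) 0
  haveI h1S : Subsingleton (Coh.HH X (ClSub.quotMod (vI S)) 1) := by
    haveI := EulerIneqLib.finite_HH (k := k) (IntLib.isCoh_quotMod (vI S)) 1
    exact (Module.finrank_eq_zero_iff_of_free k _).1 hg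
  obtain ⟨x₀, hx₀⟩ := hT.1.1
  let c := (secOf (ClSub.quotMod (vI S))).symm (AmpleLib.sec (ClSub.toSubscheme (vI S)))
  have hc : hMap (k := k) q 0 c ≠ 0 := fun hc => by
    have h1 := (secOf_hMap (k := k) q c).symm.trans (congrArg (secOf (ClSub.quotMod (vI T))) hc)
    rw [AddEquiv.apply_symm_apply, map_zero] at h1
    have h2 : ClSub.toSubscheme (vI T) = 0 := by
      rw [← toSubscheme_qmap (vI_mono h)]
      exact DCohLib.hom_unit_ext (h1.trans rfl)
    have h3 : qv (vI T) x₀ 1 = 0 := by
      show stalkLin (ClSub.toSubscheme (vI T)) x₀ _ = 0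
      rw [h2, DevLib.stalkLin_zero, LinearMap.zero_apply]
    exact (H1ZeroLib.mem_support_iff_stalk _ _).1 (mem_support_vI.2 hx₀)
      ((Ideal.eq_top_iff_one _).2 ((qv_eq_zero_iff _ _ _).1 h3))
  have hsurj : Function.Surjective (hMap (k := k) q 0) := by
    rw [← LinearMap.range_eq_top]
    refine Submodule.eq_top_of_finrank_eq (le_antisymm (Submodule.finrank_le _) ?_)
    rw [h0_quot k hT]
    haveI : Nontrivial (LinearMap.range (hMap (k := k) q 0)) :=
      ⟨⟨_, LinearMap.mem_range_self _ c⟩, 0, fun e => hc (congrArg Subtype.val e)⟩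
    exact Module.finrank_pos
  haveI : Subsingleton (Coh.HH X (kernel q) 1) := by
    refine subsingleton_of_forall_eq 0 fun z => ?_
    have hz : z ∈ LinearMap.ker (hMap (k := k) (kerSeq q).f 1) :=
      LinearMap.mem_ker.2 (Subsingleton.elim (α := Coh.HH X (ClSub.quotMod (vI S)) 1) _ _)
    rw [← range_hδ hse] at hz
    obtain ⟨y, rfl⟩ := hz
    obtain ⟨y, rfl⟩ := hsurj y
    exact LinearMap.mem_ker.1 ((range_hMap_g (k := k) hse 0).le (LinearMap.mem_range_self _ y))
  haveI : IsLocallyNoetherian (vI Z).subscheme := LocallyOfFiniteType.isLocallyNoetherian (vI Z).subschemeι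
  obtain ⟨n, σ, hσ⟩ := exists_sections_on (k := k) (CurveLib.isCoh_of_isFinLocFree
    (PullbackMod.isFinLocFree_pullback (vI Z).subschemeι F hF)) hFZ
  haveI hK : Subsingleton (Coh.HH X (tmod (kernel q) F) 1) :=
    subsingleton_H1_tensor_killed (k := k) hdim (killed_kernel_qmap h hle) F σ hσ
  have hse' : ((kerSeq q).map (tensR F)).ShortExact := by
    haveI := hse.epi_g
    haveI := hse.mono_f
    refine { exact := hse.exact.map_of_epi_of_preservesCokernel _ hse.epi_g inferInstance
             mono_f := (mono_iff_stalk _).2 fun x a b hab => ?_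
             epi_g := (inferInstance : Epi ((tensR F).map (kerSeq q).g)) }
    obtain ⟨a, rfl⟩ := (stalkTensor x (kernel q) F).surjective a
    obtain ⟨b, rfl⟩ := (stalkTensor x (kernel q) F).surjective b
    haveI := (free_finite_stalk_of_flf hF x).1
    have hab' := (stalkTensor_natural_left x (kerSeq q).f a).symm.trans
      (hab.trans (stalkTensor_natural_left x (kerSeq q).f b))
    exact congrArg _ (Module.Flat.rTensor_preserves_injective_linearMap _
      ((mono_iff_stalk (kerSeq q).f).1 hse.mono_f x) ((stalkTensor x _ F).injective hab'))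
  have hinj : Function.Injective (hMap (k := k) ((kerSeq q).map (tensR F)).g 1) := by
    rw [injective_iff_map_eq_zero]
    intro z hz
    obtain ⟨y, rfl⟩ := (range_hMap_f (k := k) hse' 1).ge hz
    rw [Subsingleton.elim (α := Coh.HH X (tmod (kernel q) F) 1) y 0, map_zero]
  have hsur : Function.Surjective (hMap (k := k) ((kerSeq q).map (tensR F)).g 1) :=
    hMap_one_surjective (k := k) hdim _ isClosed_empty (topologicalKrullDim_zero_of_discreteTopology (∅ : Set X))
      fun x _ => (epi_iff_stalk _).1 hse'.epi_g x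
  exact (LinearEquiv.ofBijective _ ⟨hinj, hsur⟩).finrank_eq

end Groth.Agent.SubAdjLib
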