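import Groth.Agent.SubAdjLib.NodalSub
import Groth.Agent.DeltaBCLib.SepNode
import Groth.Agent.DivisorialLib.Basic

/-!
# The intersection with the rest consists of reduced points at nodes
-/

set_option autoImplicit false
set_option backward.isDefEq.respectTransparency false
set_option backward.isDefEq.respectTransparency.types false
set_option linter.style.haveILetI false
set_option maxHeartbeats 1000000

universe u

open CategoryTheory CategoryTheory.Limits AlgebraicGeometry TopologicalSpace Opposite
open Groth.Agent.PullbackMod Groth.Agent.DCohLib Groth.Agent.CurveLib Groth.Agent.H1ZeroLib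
open Groth.Agent.CliffCurveLib

noncomputable section

namespace Groth.Agent.SubAdjLib

variable {X : Scheme.{u}}

/-- The generic point of a component has no further generalisation. -/
theorem eq_of_specializes_generic {Z : Set X} (hZ : Z ∈ irreducibleComponents (X : Type u)) {ξ : X}
    (hξ : IsGenericPoint ξ Z) {w : X} (hw : w ⤳ ξ) : w = ξ := by
  have h1 : Z ⊆ closure ({w} : Set X) := by
    rw [← hξ.def]
    exact closure_minimal (Set.singleton_subset_iff.2 hw.mem_closure) isClosed_closure
  have h2 := hZ.2 isIrreducible_singleton.closure h1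
  exact (IsGenericPoint.eq (show IsGenericPoint w Z from le_antisymm h2 h1) hξ)

/-- A point of the closure of an open set is a specialisation of a generic point in it. -/
theorem exists_generic_of_mem_closure [NoetherianSpace X] {T : Set X} (hT : IsClosed T) {x : X}
    (hx : x ∈ closure Tᶜ) : ∃ ξ : X, ξ ∉ T ∧ ξ ⤳ x ∧ ∀ w : X, w ⤳ ξ → w = ξ := by
  let F : Set (Set X) := {Z ∈ irreducibleComponents (X : Type u) | ¬ Z ⊆ T}
  have hF : F.Finite := NoetherianSpace.finite_irreducibleComponents.subset fun Z hZ => hZ.1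
  have hsub : Tᶜ ⊆ ⋃ Z ∈ F, Z := fun y hy => Set.mem_biUnion
    (show irreducibleComponent y ∈ F from ⟨irreducibleComponent_mem_irreducibleComponents y,
      fun h => hy (h mem_irreducibleComponent)⟩) mem_irreducibleComponent
  obtain ⟨Z, hZ, hxZ⟩ := Set.mem_iUnion₂.1 (closure_minimal hsub
    (hF.isClosed_biUnion fun Z hZ => isClosed_of_mem_irreducibleComponents Z hZ.1) hx)
  obtain ⟨ξ, hξ⟩ := QuasiSober.sober hZ.1.1 (isClosed_of_mem_irreducibleComponents Z hZ.1)
  refine ⟨ξ, fun h => hZ.2 ?_, hξ.specializes hxZ, fun w hw => eq_of_specializes_generic hZ.1 hξ hw⟩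
  rw [← hξ.def]
  exact closure_minimal (Set.singleton_subset_iff.2 h) hT

/-- At a point with a domain as local ring all minimal generalisations agree. -/
theorem eq_of_isDomain_stalk {x : X} [IsDomain (X.presheaf.stalk x)] {ξ η : X} (hξ : ξ ⤳ x) (hη : η ⤳ x)
    (h1 : ∀ w : X, w ⤳ ξ → w = ξ) (h2 : ∀ w : X, w ⤳ η → w = η) : ξ = η := by
  let p₀ : Spec (X.presheaf.stalk x) := (⟨⊥, Ideal.isPrime_bot⟩ : PrimeSpectrum (X.presheaf.stalk x))
  have key : ∀ w : X, w ⤳ x → (∀ v : X, v ⤳ w → v = w) → X.fromSpecStalk x p₀ = w := fun w hw hmin => by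
    obtain ⟨p, rfl⟩ : w ∈ Set.range (X.fromSpecStalk x) := by rw [Scheme.range_fromSpecStalk]; exact hw
    exact hmin _ (((PrimeSpectrum.le_iff_specializes p₀ p).1 bot_le).map (X.fromSpecStalk x).continuous)
  rw [← key ξ hξ h1, ← key η hη h2]

variable (k : Type u) [Field k] [X.Over (Spec (CommRingCat.of k))] [IsProper (X ↘ Spec (CommRingCat.of k))]

/-- A reduced finite subscheme has one section per point. -/
theorem h0_quot_finite [IsAlgClosed k] {F : Closeds X} (hd : topologicalKrullDim (F : Set X) ≤ 0) :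
    Module.finrank k (Coh.HH X (ClSub.quotMod (vI F)) 0) = Nat.card (F : Set X) := by
  haveI := EulerIneqLib.isNoetherian_proper (X := X) k
  haveI : IsReduced (vI F).subscheme := DVRCrit.isReduced_vanishingIdeal F
  letI : (vI F).subscheme.Over (Spec (CommRingCat.of k)) := ⟨(vI F).subschemeι ≫ (X ↘ Spec (CommRingCat.of k))⟩
  haveI : IsProper ((vI F).subscheme ↘ Spec (CommRingCat.of k)) :=
    inferInstanceAs (IsProper ((vI F).subschemeι ≫ (X ↘ Spec (CommRingCat.of k))))
  haveI : Coh.IsQCoh (Coh.structureModule (vI F).subscheme) := CohBase.isQCoh_structureModule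
  refine (IntLib.finrank_push k (vI F).subschemeι rfl (Coh.structureModule (vI F).subscheme) 0).trans ?_
  rw [DeltaBC.finrank_H0_eq_card_components k (vI F).subscheme]
  have hrange : Set.range (vI F).subschemeι = (F : Set X) := by
    rw [Scheme.IdealSheafData.range_subschemeι, Scheme.IdealSheafData.coe_support_vanishingIdeal]
  let e : (vI F).subscheme ≃ₜ (F : Set X) :=
    (vI F).subschemeι.isEmbedding.toHomeomorph.trans (Homeomorph.setCongr hrange)
  haveI := (CurveLib.finite_of_dim_le_zero F.isClosed hd).to_subtype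
  haveI : T1Space (F : Set X) := ⟨fun z => by
    have h : IsClosed ({(z : X)} : Set X) := by
      rw [← CurveLib.closure_singleton_eq F.isClosed hd z.2]; exact isClosed_closure
    have h' := h.preimage (continuous_subtype_val (p := fun y => y ∈ (F : Set X)))
    have e' : (Subtype.val : {y // y ∈ (F : Set X)} → X) ⁻¹' ({(z : X)} : Set X) = ({z} : Set {y // y ∈ (F : Set X)}) :=
      Set.ext fun w => ⟨fun hw => Subtype.ext hw, fun hw => congrArg Subtype.val hw⟩
    exact e' ▸ h'⟩
  haveI : DiscreteTopology (F : Set X) := inferInstance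
  haveI : DiscreteTopology (vI F).subscheme := e.symm.discreteTopology
  refine (Nat.card_congr ((Equiv.ofBijective _ ⟨fun a b hab => ?_, _root_.ConnectedComponents.surjective_coe⟩).symm.trans
    e.toEquiv))
  exact Set.mem_singleton_iff.1 (connectedComponent_eq_singleton b ▸ _root_.ConnectedComponents.coe_eq_coe'.1 hab)

include k in
/-- The intersection of a subcurve with the rest is reduced. -/
theorem vI_sup_compl [IsAlgClosed k] [IsReduced X] [ConnectedSpace X] (hdim : topologicalKrullDim X = 1)
    (hX : Curv2.AtWorstNodal k X) {S : Closeds X} (hS : IsSub S) :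
    vI S ⊔ vI (compl S) = vI (S ⊓ compl S) := by
  haveI := EulerIneqLib.isNoetherian_proper (X := X) k
  refine DivisorialLib.ext_stalk fun x => le_antisymm ?_ ?_
  · exact stalkIdeal_mono (sup_le (vI_mono inf_le_left) (vI_mono inf_le_right)) x
  rw [stalkIdeal_sup]
  by_cases hx : x ∈ S ⊓ compl S
  swap
  · by_cases hxS : x ∈ S
    · rw [stalkIdeal_vI_top (S := compl S) fun h => hx ⟨hxS, h⟩, sup_top_eq]; exact le_top
    · rw [stalkIdeal_vI_top hxS, top_sup_eq]; exact le_top
  have hun : (S : Set X) ∪ compl S = Set.univ := by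
    rw [← Closeds.coe_sup, sup_compl, Closeds.coe_top]
  have hB : (compl S : Set X) = closure ((S : Set X)ᶜ) := rfl
  have hA : (S : Set X) = closure ((compl S : Set X)ᶜ) := by
    refine le_antisymm (fun y hy => closure_mono ?_ (dense_of_isSub k hdim.le hS hy))
      (closure_minimal (fun y hy => ((Set.ext_iff.1 hun y).2 trivial).resolve_right hy) S.isClosed)
    exact fun z hz => hz.2
  have hc : ∀ Z ∈ irreducibleComponents (X : Type u), topologicalKrullDim Z = 1 := fun Z hZ =>
    TwistShriek.dim_irreducibleComponent k hdim hZ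
  rcases NodePtLib.smooth_or_node_at hc hX x with hs | hn
  · exfalso
    haveI := NodePtLib.regular_of_smooth_nhd hs
    obtain ⟨d, hd⟩ : ∃ d : ℕ, ringKrullDim (X.presheaf.stalk x) = d :=
      ⟨_, (IsRegularLocalRing.spanFinrank_maximalIdeal (R := X.presheaf.stalk x)).symm⟩
    haveI : IsDomain (X.presheaf.stalk x) := RegLocal.isDomain_aux d _ hd
    obtain ⟨ξ, hξ, hξx, hξm⟩ := exists_generic_of_mem_closure S.isClosed (hB.le hx.2)
    obtain ⟨η, hη, hηx, hηm⟩ := exists_generic_of_mem_closure (compl S).isClosed (hA.le hx.1)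
    obtain rfl := eq_of_isDomain_stalk hξx hηx hξm hηm
    exact hη (((Set.ext_iff.1 hun ξ).2 trivial).resolve_left hξ)
  have hmin : ∀ η : X, (∀ w : X, w ⤳ η → w = η) → (η ∈ S ↔ η ∉ compl S) := fun η hη =>
    ⟨fun h1 h2 => by
      obtain ⟨Z, hZ, hηZ⟩ : ∃ Z ∈ irreducibleComponents (X : Type u), η ∈ Z :=
        ⟨irreducibleComponent η, irreducibleComponent_mem_irreducibleComponents η, mem_irreducibleComponent⟩
      obtain ⟨ξ, hξ⟩ := QuasiSober.sober hZ.1 (isClosed_of_mem_irreducibleComponents Z hZ)
      obtain rfl := hη ξ (hξ.specializes hηZ)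
      have hC : IsClosed ((S : Set X) ∩ compl S) := S.isClosed.inter (compl S).isClosed
      have hZsub : Z ⊆ (S : Set X) ∩ compl S := by
        rw [← hξ.def]; exact closure_minimal (Set.singleton_subset_iff.2 ⟨h1, h2⟩) hC
      have h0 := dim_mono hZsub (dim_compl_inter k hdim.le S)
      rw [hc Z hZ] at h0
      exact absurd h0 (by decide),
    fun h => ((Set.ext_iff.1 hun η).2 trivial).resolve_right h⟩
  have hm : IntMult.stalkIdeal (vI (S ⊓ compl S)) x ≤ IsLocalRing.maximalIdeal (X.presheaf.stalk x) :=
    IsLocalRing.le_maximalIdeal ((mem_support_iff_stalk _ _).1 (mem_support_vI.2 hx))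
  refine hm.trans fun z hz => ?_
  obtain ⟨a, b, ha, hb, rfl⟩ := DeltaBC.exists_split hun hmin hA hB (DeltaBC.deltaInv_node (k := k) hc hn) hz
  exact Submodule.add_mem_sup ha hb

include k in
/-- The intersection number counts points. -/
theorem kc_eq_card [IsAlgClosed k] [IsReduced X] [ConnectedSpace X] (hdim : topologicalKrullDim X = 1)
    (hX : Curv2.AtWorstNodal k X) {S : Closeds X} (hS : IsSub S) :
    kc k S = Nat.card ((S : Set X) ∩ compl S : Set X) := by
  show Module.finrank k (Coh.HH X (ClSub.quotMod (vI S ⊔ vI (compl S))) 0) = _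
  rw [vI_sup_compl k hdim hX hS, h0_quot_finite k (F := S ⊓ compl S) (dim_compl_inter k hdim.le S)]
  rfl

end Groth.Agent.SubAdjLib
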