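import Groth.Agent.SubAdjLib.TreeBundle
import Groth.Agent.SubAdjLib.Nodes

/-!
# Peeling a part without first cohomology off a locally free module
-/

set_option autoImplicit false
set_option backward.isDefEq.respectTransparency false
set_option backward.isDefEq.respectTransparency.types false
set_option linter.style.haveILetI false
set_option maxHeartbeats 1000000

universe u

open CategoryTheory CategoryTheory.Limits AlgebraicGeometry TopologicalSpace Opposite
open Groth.Agent.PullbackMod Groth.Agent.DCohLib Groth.Agent.CurveLib Groth.Agent.H1ZeroLib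
open Groth.Agent.CliffCurveLib
open scoped TensorProduct

noncomputable section

namespace Groth.Agent.SubAdjLib

variable {X : Scheme.{u}} (k : Type u) [Field k] [X.Over (Spec (CommRingCat.of k))] [IsProper (X ↘ Spec (CommRingCat.of k))]

include k in
/-- The intersection of a subcurve with the rest is reduced. -/
theorem vI_sup_compl_of_dense [IsAlgClosed k] [IsReduced X] [ConnectedSpace X] (hdim : topologicalKrullDim X = 1)
    (hX : Curv2.AtWorstNodal k X) {S : Closeds X} (hSd : (S : Set X) ⊆ closure ((S : Set X) \ compl S)) :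
    vI S ⊔ vI (compl S) = vI (S ⊓ compl S) := by
  haveI := EulerIneqLib.isNoetherian_proper (X := X) k
  refine DivisorialLib.ext_stalk fun x => le_antisymm ?_ ?_
  · exact stalkIdeal_mono (sup_le (vI_mono inf_le_left) (vI_mono inf_le_right)) x
  rw [stalkIdeal_sup]
  by_cases hx : x ∈ S ⊓ compl S
  swap
  · by_cases hxS : x ∈ S
    · rw [stalkIdeal_vI_top (S := compl S) fun h => hx ⟨hxS, h⟩, sup_top_eq]; exact le_top
    · rw [stalkIdeal_vI_top hxS, top_sup_eq]; exact le_top
  have hun : (S : Set X) ∪ compl S = Set.univ := by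
    rw [← Closeds.coe_sup, sup_compl, Closeds.coe_top]
  have hB : (compl S : Set X) = closure ((S : Set X)ᶜ) := rfl
  have hA : (S : Set X) = closure ((compl S : Set X)ᶜ) := by
    refine le_antisymm (fun y hy => closure_mono ?_ (hSd hy))
      (closure_minimal (fun y hy => ((Set.ext_iff.1 hun y).2 trivial).resolve_right hy) S.isClosed)
    exact fun z hz => hz.2
  have hc : ∀ Z ∈ irreducibleComponents (X : Type u), topologicalKrullDim Z = 1 := fun Z hZ =>
    TwistShriek.dim_irreducibleComponent k hdim hZ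
  rcases NodePtLib.smooth_or_node_at hc hX x with hs | hn
  · exfalso
    haveI := NodePtLib.regular_of_smooth_nhd hs
    obtain ⟨d, hd⟩ : ∃ d : ℕ, ringKrullDim (X.presheaf.stalk x) = d :=
      ⟨_, (IsRegularLocalRing.spanFinrank_maximalIdeal (R := X.presheaf.stalk x)).symm⟩
    haveI : IsDomain (X.presheaf.stalk x) := RegLocal.isDomain_aux d _ hd
    obtain ⟨ξ, hξ, hξx, hξm⟩ := exists_generic_of_mem_closure S.isClosed (hB.le hx.2)
    obtain ⟨η, hη, hηx, hηm⟩ := exists_generic_of_mem_closure (compl S).isClosed (hA.le hx.1)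
    obtain rfl := eq_of_isDomain_stalk hξx hηx hξm hηm
    exact hη (((Set.ext_iff.1 hun ξ).2 trivial).resolve_left hξ)
  have hmin : ∀ η : X, (∀ w : X, w ⤳ η → w = η) → (η ∈ S ↔ η ∉ compl S) := fun η hη =>
    ⟨fun h1 h2 => by
      obtain ⟨Z, hZ, hηZ⟩ : ∃ Z ∈ irreducibleComponents (X : Type u), η ∈ Z :=
        ⟨irreducibleComponent η, irreducibleComponent_mem_irreducibleComponents η, mem_irreducibleComponent⟩
      obtain ⟨ξ, hξ⟩ := QuasiSober.sober hZ.1 (isClosed_of_mem_irreducibleComponents Z hZ)
      obtain rfl := hη ξ (hξ.specializes hηZ)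
      have hC : IsClosed ((S : Set X) ∩ compl S) := S.isClosed.inter (compl S).isClosed
      have hZsub : Z ⊆ (S : Set X) ∩ compl S := by
        rw [← hξ.def]; exact closure_minimal (Set.singleton_subset_iff.2 ⟨h1, h2⟩) hC
      have h0 := dim_mono hZsub (dim_compl_inter k hdim.le S)
      rw [hc Z hZ] at h0
      exact absurd h0 (by decide),
    fun h => ((Set.ext_iff.1 hun η).2 trivial).resolve_right h⟩
  have hm : IntMult.stalkIdeal (vI (S ⊓ compl S)) x ≤ IsLocalRing.maximalIdeal (X.presheaf.stalk x) :=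
    IsLocalRing.le_maximalIdeal ((mem_support_iff_stalk _ _).1 (mem_support_vI.2 hx))
  refine hm.trans fun z hz => ?_
  obtain ⟨a, b, ha, hb, rfl⟩ := DeltaBC.exists_split hun hmin hA hB (DeltaBC.deltaInv_node (k := k) hc hn) hz
  exact Submodule.add_mem_sup ha hb

/-- The ideal of `Z` on the other part is the ideal of the common points, pushed forward. -/
theorem nonempty_idealMod_iso [IsReduced X] {T Z : Closeds X} (hun : T ⊔ Z = ⊤)
    (hsup : vI T ⊔ vI Z = vI (T ⊓ Z)) (P : (vI T).subscheme.IdealSheafData) [IsReduced P.subscheme]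
    (hP : ∀ w, w ∈ (P.support : Set (vI T).subscheme) ↔ (vI T).subschemeι w ∈ (Z : Set X)) :
    Nonempty (ClSub.idealMod (vI Z) ≅ (Scheme.Modules.pushforward (vI T).subschemeι).obj (ClSub.idealMod P)) := by
  set i := (vI T).subschemeι
  set j := P.subschemeι
  let F := Scheme.Modules.pushforward i
  haveI := (Scheme.Modules.pullbackPushforwardAdjunction i).rightAdjoint_preservesLimits
  let e : F.obj (ClSub.idealMod P) ≅ kernel (F.map (ClSub.toSubscheme P)) := PreservesKernel.iso F _
  have hker : (j ≫ i).ker = vI (T ⊓ Z) := by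
    haveI : IsReduced (j ≫ i).ker.subscheme := isReduced_of_isOpenImmersion (inv (j ≫ i).toImage)
    rw [← radical_eq (j ≫ i).ker, ← Scheme.IdealSheafData.vanishingIdeal_support]
    refine congrArg Scheme.IdealSheafData.vanishingIdeal (SetLike.coe_injective ?_)
    rw [Scheme.Hom.support_ker]
    show closure (Set.range (i.base ∘ j.base)) = ((T : Set X) ∩ Z)
    have hr : Set.range (i.base ∘ j.base) = (T : Set X) ∩ Z := by
      rw [Set.range_comp, show Set.range j.base = (P.support : Set (vI T).subscheme) from P.range_subschemeι]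
      ext x
      constructor
      · rintro ⟨w, hw, rfl⟩
        refine ⟨?_, (hP w).1 hw⟩
        exact mem_support_vI.1 ((vI T).range_subschemeι.le ⟨w, rfl⟩)
      · rintro ⟨hxT, hxZ⟩
        obtain ⟨w, rfl⟩ := (vI T).range_subschemeι.ge (mem_support_vI.2 hxT)
        exact ⟨w, (hP w).2 hxZ, rfl⟩
    rw [hr, (T.isClosed.inter Z.isClosed).closure_eq]
  -- the composite to the common points
  have hval : ∀ (x : X) (r : X.presheaf.stalk x),
      stalkLin (F.map (ClSub.toSubscheme P)) x (qv (vI T) x r) = 0 ↔ r ∈ IntMult.stalkIdeal (vI (T ⊓ Z)) x := by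
    intro x r
    by_cases hx : x ∈ (vI T).support
    · obtain ⟨w, rfl⟩ := (vI T).range_subschemeι.ge hx
      rw [← (bijective_pushStalk i _ w).1.eq_iff, map_zero, HilbObsLib.pushStalk_map, qv,
        HilbObsLib.pushStalk_toSubscheme]
      change qv P w (i.stalkMap w r) = 0 ↔ _
      rw [qv_eq_zero_iff, ← hker]
      constructor
      · intro h
        by_cases hw : w ∈ P.support
        · obtain ⟨v, rfl⟩ := P.range_subschemeι.ge hw
          have h' : i.stalkMap (j v) r ∈ IntMult.stalkIdeal j.ker (j v) := by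
            rw [Scheme.IdealSheafData.ker_subschemeι]; exact h
          rw [EtAlgEasy.ConormalStalk.stalkIdeal_ker, RingHom.mem_ker] at h'
          show r ∈ IntMult.stalkIdeal (j ≫ i).ker ((j ≫ i) v)
          rw [EtAlgEasy.ConormalStalk.stalkIdeal_ker, RingHom.mem_ker, Scheme.Hom.stalkMap_comp]
          exact h'
        · rw [hker, stalkIdeal_vI_top (S := T ⊓ Z) (fun hh => hw ((hP w).2 hh.2))]; trivial
      · intro h
        by_cases hw : w ∈ P.support
        · obtain ⟨v, rfl⟩ := P.range_subschemeι.ge hw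
          have h' : r ∈ IntMult.stalkIdeal (j ≫ i).ker ((j ≫ i) v) := h
          rw [EtAlgEasy.ConormalStalk.stalkIdeal_ker, RingHom.mem_ker, Scheme.Hom.stalkMap_comp] at h'
          have h'' : i.stalkMap (j v) r ∈ IntMult.stalkIdeal j.ker (j v) := by
            rw [EtAlgEasy.ConormalStalk.stalkIdeal_ker, RingHom.mem_ker]; exact h'
          rw [Scheme.IdealSheafData.ker_subschemeι] at h''
          exact h''
        · rw [IdealMulLib.stalkIdeal_eq_top P hw]; trivial
    · rw [stalkIdeal_vI_top (S := T ⊓ Z) (fun h => hx (mem_support_vI.2 h.1))]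
      refine iff_of_true ?_ trivial
      rw [show qv (vI T) x r = 0 from (qv_eq_zero_iff _ _ _).2 (by rw [IdealMulLib.stalkIdeal_eq_top _ hx]; trivial), map_zero]
  let v : ClSub.idealMod (vI Z) ⟶ F.obj (Coh.structureModule (vI T).subscheme) :=
    ClSub.idealModι (vI Z) ≫ ClSub.toSubscheme (vI T)
  have hv : v ≫ F.map (ClSub.toSubscheme P) = 0 := by
    refine hom_ext_stalk fun x => LinearMap.ext fun n => ?_
    obtain ⟨r, hr⟩ := (ParaFLib.bijective_oneG x).2 (stalkLin (ClSub.idealModι (vI Z)) x n)
    rw [DevLib.stalkLin_zero, LinearMap.zero_apply, stalkLin_comp, stalkLin_comp, LinearMap.comp_apply,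
      LinearMap.comp_apply, ← hr]
    refine (hval x r).2 (stalkIdeal_mono (vI_mono inf_le_right) x ?_)
    exact (HilbObsLib.mem_range_idealModι (vI Z) x r).1 ⟨n, hr.symm⟩
  let u := kernel.lift _ v hv
  haveI : IsIso u := (isIso_iff_stalk u).2 fun x => by
    refine ⟨(injective_iff_map_eq_zero _).2 fun n hn => ?_, fun z => ?_⟩
    · obtain ⟨r, hr⟩ := (ParaFLib.bijective_oneG x).2 (stalkLin (ClSub.idealModι (vI Z)) x n)
      have h1 : r ∈ IntMult.stalkIdeal (vI Z) x := (HilbObsLib.mem_range_idealModι (vI Z) x r).1 ⟨n, hr.symm⟩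
      have h2 : qv (vI T) x r = 0 := by
        have e' : stalkLin v x n = 0 := by
          rw [← kernel.lift_ι _ v hv, stalkLin_comp, LinearMap.comp_apply]
          exact (congrArg _ hn).trans (map_zero _)
        rw [stalkLin_comp, LinearMap.comp_apply, ← hr] at e'
        exact e'
      rw [qv_eq_zero_iff] at h2
      have h3 : r ∈ IntMult.stalkIdeal (vI (⊤ : Closeds X)) x := by
        rw [← hun, show vI (T ⊔ Z) = vI T ⊓ vI Z from Scheme.IdealSheafData.vanishingIdeal_sup T Z,
          H1ZeroLib.stalkIdeal_inf]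
        exact ⟨h2, h1⟩
      rw [vI_top] at h3
      haveI := isIso_toSubscheme_bot (X := X)
      have h4 : r • ParaFLib.oneG x = 0 :=
        ((isIso_iff_stalk (ClSub.toSubscheme (⊥ : X.IdealSheafData))).1 inferInstance x).1
          (((qv_eq_zero_iff _ _ _).2 h3).trans (map_zero _).symm)
      refine (mono_iff_stalk (ClSub.idealModι (vI Z))).1 (by unfold ClSub.idealModι; infer_instance) x ?_
      rw [map_zero, ← hr]
      exact h4
    · obtain ⟨r, hr⟩ := qv_surjective (vI T) x (stalkLin (kernel.ι (F.map (ClSub.toSubscheme P))) x z)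
      have h0 := HilbObsLib.stalk_kernel_ι_comp (F.map (ClSub.toSubscheme P)) x z
      rw [← hr] at h0
      have h1 := (hval x r).1 h0
      rw [← hsup, stalkIdeal_sup] at h1
      obtain ⟨a, ha, b, hb, rfl⟩ := Submodule.mem_sup.1 h1
      obtain ⟨n, hn⟩ := (HilbObsLib.mem_range_idealModι (vI Z) x b).2 hb
      refine ⟨n, (mono_iff_stalk (kernel.ι (F.map (ClSub.toSubscheme P)))).1 inferInstance x ?_⟩
      rw [← LinearMap.comp_apply, ← stalkLin_comp, kernel.lift_ι, stalkLin_comp, LinearMap.comp_apply, hn, ← hr]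
      show qv (vI T) x b = qv (vI T) x (a + b)
      rw [qv_eq_smul _ _ (a + b), add_smul, ← qv_eq_smul, ← qv_eq_smul, (qv_eq_zero_iff _ _ _).2 ha, zero_add]
  exact ⟨asIso u ≪≫ e.symm⟩

end Groth.Agent.SubAdjLib
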