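import Groth.Agent.DegDevLib.Comp
import Groth.Agent.CurveGlueLib.Ample
import Groth.Agent.AmpleEmb.Generated
import Groth.Agent.ProjBundleLib.FTQuot
import Groth.Agent.PullbackMod.LimFree
import Groth.Agent.DCohLib.FreeInd
import Groth.Agent.DCohLib.StalkTensor
import Groth.Agent.CurveLib.TensorDeg
import Groth.Agent.CurveLib.StalkDim
import Groth.Agent.CurveLib.CurveVanish
import Groth.Agent.CurveLib.SmulPow
import Groth.Agent.NumBddLib.Cut
import Groth.Agent.NodePtLib.Gor
import Groth.Agent.FibreDualLib.BCLocal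
import Groth.Agent.ProjSerreLib.RankOne

/-!
# Euler characteristics of tensor products of rank one sheaves on a reduced curve
-/

set_option autoImplicit false
set_option backward.isDefEq.respectTransparency false
set_option backward.isDefEq.respectTransparency.types false
set_option linter.style.haveILetI false
set_option maxHeartbeats 1600000

universe u

open CategoryTheory CategoryTheory.Limits AlgebraicGeometry TopologicalSpace Opposite
open Groth.Agent.PullbackMod Groth.Agent.DCohLib Groth.Agent.ParaFLib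
open scoped TensorProduct

attribute [local instance] HasDerivedCategory.standard

noncomputable section

namespace Groth.Agent.SubAdjLib

variable (k : Type u) [Field k] {X : Scheme.{u}} [X.Over (Spec (CommRingCat.of k))]
  [IsProper (X ↘ Spec (CommRingCat.of k))]

/-- The locus where a module is locally the structure sheaf. -/
def invSet (L : X.Modules) : Set X :=
  {P | ∃ U : X.Opens, P ∈ U ∧ Nonempty (L.restrict U.ι ≅ Coh.structureModule (↑U : Scheme.{u}))}

theorem isOpen_invSet (L : X.Modules) : IsOpen (invSet L) :=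
  isOpen_iff_forall_mem_open.2 fun _ ⟨U, hx, he⟩ => ⟨U, fun _ hy => ⟨U, hy, he⟩, U.2, hx⟩

theorem nonempty_stalk_invSet {L : X.Modules} [Coh.IsQCoh L] {x : X} (hx : x ∈ invSet L) :
    Nonempty (L.presheaf.stalk x ≃ₗ[X.presheaf.stalk x] X.presheaf.stalk x) := by
  obtain ⟨U, hxU, ⟨e⟩⟩ := hx
  obtain ⟨d⟩ := freeAt_of_restrict_iso (M := L) (e ≪≫ (DCohLib.freeModOne _).symm) hxU
  exact ⟨d.trans (LinearEquiv.funUnique (Fin 1) _ _)⟩

/-- The generic points of the components. -/
def genPts (X : Scheme.{u}) : Set X := {η | closure ({η} : Set X) ∈ irreducibleComponents (X : Type u)}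

include k in
/-- A closed set avoiding the generic points of a curve is a finite set of closed points. -/
theorem finite_of_disjoint_genPts (hdim : topologicalKrullDim X ≤ 1) {C : Set X} (hC : IsClosed C)
    (hd : ∀ η ∈ genPts X, η ∉ C) : topologicalKrullDim C ≤ 0 ∧ C.Finite := by
  haveI := EulerIneqLib.isNoetherian_proper (X := X) k
  let U : X.Opens := ⟨Cᶜ, hC.isOpen_compl⟩
  obtain ⟨hfin, hpts⟩ := CurveGlueLib.compl_props hdim U fun Z hZ => by
    obtain ⟨ξ, hξ⟩ := QuasiSober.sober hZ.1 (isClosed_of_mem_irreducibleComponents Z hZ)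
    have hξg : ξ ∈ genPts X := by
      show closure ({ξ} : Set X) ∈ irreducibleComponents (X : Type u)
      rw [hξ.def]
      exact hZ
    exact ⟨ξ, hd ξ hξg, hξ⟩
  have hU : ((U : Set X)ᶜ) = C := compl_compl C
  rw [hU] at hfin
  haveI := hfin.to_subtype
  haveI : T1Space C := ⟨fun x => by
    have h := ((hpts x.1 (fun h => h x.2)).1).preimage (continuous_subtype_val (p := fun y => y ∈ C))
    convert h using 1
    ext y
    simp [Subtype.ext_iff]⟩
  exact ⟨topologicalKrullDim_zero_of_discreteTopology _, hfin⟩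

include k in
/-- A twist by a power of an ample module has a section generating at finitely many good points. -/
theorem exists_section_twist [Infinite k] {A M : X.Modules} (hA : CohB1.IsAmple A) (hM : Coh.IsCoh M)
    {S : Set X} (hS : S.Finite) (hSM : S ⊆ invSet M) :
    ∃ (n : ℕ) (φ : Coh.structureModule X ⟶ CohB1.tensorMod M (CohB1.tensorPow A n)),
      ∀ x ∈ S, Function.Bijective (stalkLin φ x) := by
  haveI := EulerIneqLib.isNoetherian_proper (X := X) k
  obtain ⟨N, hN⟩ := AmpleEmb.eventually_isGloballyGenerated hA hM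
  let G := CohB1.tensorMod M (CohB1.tensorPow A N)
  have hfree : ∀ z ∈ S, Nonempty (G.presheaf.stalk z ≃ₗ[X.presheaf.stalk z] X.presheaf.stalk z) := fun z hz => by
    haveI := hM.1
    obtain ⟨a⟩ := nonempty_stalk_invSet (hSM hz)
    obtain ⟨g, hg⟩ := ParaFLib.exists_stalk_gen (AmpleLib.isInvertible_tensorPow hA.1 N) z
    let b := (LinearEquiv.ofBijective (LinearMap.toSpanSingleton _ _ g) hg).symm
    exact ⟨(DCohLib.stalkTensor z M (CohB1.tensorPow A N)).symm.trans ((TensorProduct.congr a b).trans
      (TensorProduct.lid _ _))⟩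
  haveI := hS.to_subtype
  let gm : ∀ z : X, Coh.HH X G 0 → G.presheaf.stalk z := fun z c =>
    G.presheaf.germ ⊤ z trivial (CurveLib.secOf G c)
  let e : ∀ z : S, G.presheaf.stalk z.1 ≃ₗ[X.presheaf.stalk z.1] X.presheaf.stalk z.1 := fun z => (hfree z.1 z.2).some
  let W : S → Submodule k (Coh.HH X G 0) := fun z =>
    { carrier := {c | ¬ IsUnit (e z (gm z.1 c))}
      add_mem' := fun {a b} ha hb => by
        show ¬ IsUnit (e z (G.presheaf.germ ⊤ z.1 trivial (CurveLib.secOf G (a + b))))
        rw [map_add, map_add, map_add]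
        exact (IsLocalRing.maximalIdeal (X.presheaf.stalk z.1)).add_mem ha hb
      zero_mem' := by
        show ¬ IsUnit (e z (G.presheaf.germ ⊤ z.1 trivial (CurveLib.secOf G 0)))
        rw [map_zero, map_zero, map_zero]
        exact not_isUnit_zero
      smul_mem' := fun r c hc => by
        show ¬ IsUnit (e z (G.presheaf.germ ⊤ z.1 trivial (CurveLib.secOf G (r • c))))
        rw [CurveLib.secOf_smul,
          show G.presheaf.germ ⊤ z.1 trivial ((show Γ(X, ⊤) from Coh.toGlobal (X ↘ Spec (CommRingCat.of k)) r) •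
              CurveLib.secOf G c) = X.presheaf.germ ⊤ z.1 trivial (Coh.toGlobal (X ↘ Spec (CommRingCat.of k)) r) •
              gm z.1 c from PresheafOfModules.germ_smul (R := X.presheaf) G.val z.1 ⊤ trivial _ _,
          map_smul, smul_eq_mul]
        exact fun h => hc (isUnit_of_mul_isUnit_right h) }
  obtain ⟨c, hc⟩ := Submodule.exists_forall_notMem_of_forall_ne_top W fun z htop => by
    have hle : Submodule.span (X.presheaf.stalk z.1)
        (Set.range fun σ : Γ(G, ⊤) => G.presheaf.germ ⊤ z.1 (Opens.mem_top z.1) σ) ≤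
        Submodule.comap (e z).toLinearMap (IsLocalRing.maximalIdeal (X.presheaf.stalk z.1)) := Submodule.span_le.2 (by
      rintro _ ⟨σ, rfl⟩
      have hm : (CurveLib.secOf G).symm σ ∈ W z := htop ▸ Submodule.mem_top
      change ¬ IsUnit (e z (G.presheaf.germ ⊤ z.1 trivial (CurveLib.secOf G ((CurveLib.secOf G).symm σ)))) at hm
      rw [AddEquiv.apply_symm_apply] at hm
      exact hm)
    rw [ProjBundleLib.span_germ_of_isGloballyGenerated (hN N le_rfl) z.1] at hle
    have h1 := hle (Submodule.mem_top : (e z).symm 1 ∈ (⊤ : Submodule _ (G.presheaf.stalk z.1)))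
    rw [Submodule.mem_comap, LinearEquiv.coe_coe, LinearEquiv.apply_symm_apply] at h1
    exact (IsLocalRing.maximalIdeal.isMaximal (X.presheaf.stalk z.1)).ne_top ((Ideal.eq_top_iff_one _).2 h1)
  refine ⟨N, DCohLib.secHom G (CurveLib.secOf G c), fun x hx => ?_⟩
  have hu : IsUnit (e ⟨x, hx⟩ (gm x c)) := not_not.1 fun h => hc ⟨x, hx⟩ h
  let one : X.presheaf.stalk x ≃ₗ[X.presheaf.stalk x] (Coh.structureModule X).presheaf.stalk x :=
    LinearEquiv.ofBijective (LinearMap.toSpanSingleton _ _ _) (ParaFLib.bijective_oneG x)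
  have h1 : ∀ r : X.presheaf.stalk x, e ⟨x, hx⟩ (stalkLin (DCohLib.secHom G (CurveLib.secOf G c)) x (one r)) =
      r * e ⟨x, hx⟩ (gm x c) := fun r => by
    show e ⟨x, hx⟩ (stalkLin _ x (r • oneG x)) = _
    rw [map_smul, map_smul, smul_eq_mul]
    refine congrArg (fun v => r * e ⟨x, hx⟩ v) ((stalkLin_germ _ (U := ⊤) x (Opens.mem_top x) _).trans
      (congrArg _ ((DCohLib.secHom_app_one G _ ⊤).trans ?_)))
    exact ParaFLib.res_self _ _
  have hb : Function.Bijective fun r : X.presheaf.stalk x => r * e ⟨x, hx⟩ (gm x c) := IsUnit.isUnit_iff_mulRight_bijective.1 hu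
  have hb' : Function.Bijective (e ⟨x, hx⟩ ∘ stalkLin (DCohLib.secHom G (CurveLib.secOf G c)) x ∘ one) := by
    convert hb using 1
    exact funext h1
  exact (Function.Bijective.of_comp_iff _ one.bijective).1
    ((Function.Bijective.of_comp_iff' (e ⟨x, hx⟩).bijective _).1 hb')

include k in
/-- A module supported on finitely many points where `L` is trivial keeps its Euler characteristic. -/
theorem euler_tmod_of_invSet {L Q : X.Modules} (hL : Coh.IsCoh L) (hQ : Coh.IsCoh Q) {C : Set X}
    (hC : IsClosed C) (hd : topologicalKrullDim C ≤ 0) (hQC : CohB1.support Q ⊆ C) (hCL : C ⊆ invSet L) :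
    Curv2.euler k X (tmod L Q) = Curv2.euler k X Q := by
  haveI := EulerIneqLib.isNoetherian_proper (X := X) k
  rw [CurveLib.euler_eq_mul (k := k) hQ (CurveLib.isCoh_tmod hL hQ) hC hQC hd 1 fun x => ?_, Nat.cast_one, one_mul]
  by_cases hx : x ∈ C
  · haveI := hL.1
    obtain ⟨a⟩ := nonempty_stalk_invSet (hCL hx)
    exact ⟨(DCohLib.stalkTensor x L Q).symm.trans ((TensorProduct.congr a (LinearEquiv.refl _ _)).trans
      ((TensorProduct.lid _ _).trans (LinearEquiv.funUnique (Fin 1) _ _).symm))⟩
  · haveI : Subsingleton (Q.presheaf.stalk x) := not_not.1 fun h => hx (hQC h)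
    haveI : Subsingleton (L.presheaf.stalk x ⊗[X.presheaf.stalk x] Q.presheaf.stalk x) :=
      subsingleton_of_forall_eq 0 fun z => by
        induction z using TensorProduct.induction_on with
        | zero => rfl
        | tmul a b => rw [Subsingleton.elim b 0, TensorProduct.tmul_zero]
        | add a b ha hb => rw [ha, hb, add_zero]
    haveI : Subsingleton ((tmod L Q).presheaf.stalk x) := (DCohLib.stalkTensor x L Q).symm.toEquiv.subsingleton
    exact ⟨LinearEquiv.ofSubsingleton _ _⟩

include k in
/-- Twisting rank one modules by an invertible module. -/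
theorem euler_twist_sub (hdim : topologicalKrullDim X ≤ 1) {P : X.Modules} (hP : PicF.IsInvertible P)
    {F : X.Modules} (hF : Coh.IsCoh F)
    (hr : ∀ η ∈ genPts X, Nonempty (F.presheaf.stalk η ≃ₗ[X.presheaf.stalk η] X.presheaf.stalk η)) :
    Curv2.euler k X (tmod F P) - Curv2.euler k X F =
      Curv2.euler k X P - Curv2.euler k X (Coh.structureModule X) := by
  haveI := EulerIneqLib.isNoetherian_proper (X := X) k
  have h1 : FlatMod.IsFinLocFreeOfRank 1 P := CurveLib.isFinLocFreeOfRank_one hP
  have hu : ∀ x : X, Nonempty ((Coh.structureModule X).presheaf.stalk x ≃ₗ[X.presheaf.stalk x] X.presheaf.stalk x) :=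
    fun x => ⟨(LinearEquiv.ofBijective (LinearMap.toSpanSingleton _ _ _) (ParaFLib.bijective_oneG x)).symm⟩
  have e1 := DegDevLib.twEuler_components k hdim h1 hF
  have e2 := DegDevLib.twEuler_components k hdim h1 (DevLib.isCoh_structureModule X)
  have e3 : DegDevLib.twEuler k 1 P F = DegDevLib.twEuler k 1 P (Coh.structureModule X) := by
    rw [e1, e2]
    refine finsum_congr fun Z => ?_
    have hg : Z.2.1.genericPoint ∈ genPts X := by
      show closure _ ∈ irreducibleComponents (X : Type u)
      rw [Z.2.1.closure_genericPoint (isClosed_of_mem_irreducibleComponents _ Z.2)]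
      exact Z.2
    obtain ⟨a⟩ := hr _ hg
    obtain ⟨b⟩ := hu Z.2.1.genericPoint
    rw [a.length_eq, b.length_eq]
  simp only [DegDevLib.twEuler, Nat.cast_one, one_mul] at e3
  rw [e3]
  exact congrArg₂ (· - ·) (CurveLib.euler_iso (K := k) (CurveLib.tmodUnit P)) rfl

omit [X.Over (Spec (CommRingCat.of k))] [IsProper (X ↘ Spec (CommRingCat.of k))] in
theorem nonempty_equiv_of_finrank_one {R : Type u} [CommRing R] (hf : IsField R) {W : Type u} [AddCommGroup W]
    [Module R W] (h : Module.finrank R W = 1) : Nonempty (W ≃ₗ[R] R) := by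
  letI := hf.toField
  haveI : Module.Finite R W := Module.finite_of_finrank_eq_succ h
  exact FiniteDimensional.nonempty_linearEquiv_of_finrank_eq (h.trans (Module.finrank_self R).symm)

omit [X.Over (Spec (CommRingCat.of k))] [IsProper (X ↘ Spec (CommRingCat.of k))] in
/-- A map out of the structure sheaf of a reduced scheme, injective at the generic points, is a monomorphism. -/
theorem mono_of_genPts [IsReduced X] {G : X.Modules} (φ : Coh.structureModule X ⟶ G)
    (hφ : ∀ η ∈ genPts X, Function.Injective (stalkLin φ η)) : Mono φ := by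
  refine (PullbackMod.mono_iff_stalk φ).2 fun x => (injective_iff_map_eq_zero _).2 fun z hz => ?_
  obtain ⟨U, hxU, σ, rfl⟩ := TopCat.Presheaf.exists_germ_eq (Coh.structureModule X).presheaf z
  rw [stalkLin_germ] at hz
  obtain ⟨V, hxV, i, hV⟩ : ∃ (V : X.Opens) (_ : x ∈ V) (i : V ⟶ U), G.presheaf.map i.op (φ.app U σ) = 0 := by
    obtain ⟨V, hxV, i₁, i₂, e⟩ := TopCat.Presheaf.germ_eq G.presheaf x hxU hxU (φ.app U σ) 0
      (hz.trans (map_zero _).symm)
    exact ⟨V, hxV, i₁, e.trans (map_zero _)⟩
  let σ' : Γ(X, V) := X.presheaf.map i.op (σ : Γ(X, U))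
  suffices h0 : σ' = 0 by
    rw [← TopCat.Presheaf.germ_res_apply (Coh.structureModule X).presheaf i x hxV σ]
    show (Coh.structureModule X).presheaf.germ V x hxV (σ' : Γ(X, V)) = 0
    rw [h0]
    exact map_zero ((Coh.structureModule X).presheaf.germ V x hxV).hom
  refine (basicOpen_eq_bot_iff σ').1 (eq_bot_iff.2 fun y hy => ?_)
  obtain ⟨η, hη, hηy⟩ : ∃ η ∈ genPts X, η ⤳ y := by
    obtain ⟨Z, hZ, hyZ⟩ := exists_mem_irreducibleComponents_subset_of_isIrreducible {y} isIrreducible_singleton
    obtain ⟨ξ, hξ⟩ := QuasiSober.sober hZ.1 (isClosed_of_mem_irreducibleComponents Z hZ)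
    refine ⟨ξ, ?_, hξ.specializes (hyZ rfl)⟩
    show closure ({ξ} : Set X) ∈ irreducibleComponents (X : Type u)
    rw [hξ.def]
    exact hZ
  have hηV : η ∈ X.basicOpen σ' := hηy.mem_open (X.basicOpen σ').2 hy
  have hu := (X.mem_basicOpen σ' η (X.basicOpen_le σ' hηV)).1 hηV
  have h0 : (Coh.structureModule X).presheaf.germ V η (X.basicOpen_le σ' hηV) (σ' : Γ(X, V)) = 0 := hφ η hη (by
    rw [map_zero, stalkLin_germ]
    refine (congrArg _ ?_).trans (map_zero (G.presheaf.germ V η (X.basicOpen_le σ' hηV)).hom)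
    exact (ConcreteCategory.congr_hom (φ.mapPresheaf.naturality i.op) σ).trans hV)
  have hu0 : X.presheaf.germ V η (X.basicOpen_le σ' hηV) σ' = 0 := by
    obtain ⟨W, hW, i₁, i₂, e⟩ := TopCat.Presheaf.germ_eq (Coh.structureModule X).presheaf η
      (X.basicOpen_le σ' hηV) (X.basicOpen_le σ' hηV) (σ' : Γ(X, V)) 0 (h0.trans (map_zero _).symm)
    rw [← TopCat.Presheaf.germ_res_apply X.presheaf i₁ η hW σ']
    exact (congrArg (X.presheaf.germ W η hW) (e.trans (map_zero _))).trans (map_zero _)
  rw [hu0] at hu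
  exact (not_isUnit_zero hu).elim

include k in
/-- The degree of a tensor product of two rank one modules, one of which is invertible at each point. -/
theorem euler_tmod_rankOne [IsAlgClosed k] [IsReduced X] (hdim : topologicalKrullDim X ≤ 1)
    {L M : X.Modules} (hL : Coh.IsCoh L) (hM : Coh.IsCoh M) (hLt : TorSh.IsTorsionFree L)
    (hLr : ∀ η ∈ genPts X, Module.finrank (X.presheaf.stalk η) (L.presheaf.stalk η) = 1)
    (hMr : ∀ η ∈ genPts X, Module.finrank (X.presheaf.stalk η) (M.presheaf.stalk η) = 1)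
    (hLM : ∀ P : X, P ∈ invSet L ∨ P ∈ invSet M) :
    Curv2.euler k X (tmod L M) - Curv2.euler k X L =
      Curv2.euler k X M - Curv2.euler k X (Coh.structureModule X) := by
  classical
  haveI := EulerIneqLib.isNoetherian_proper (X := X) k
  haveI : X.IsSeparated := ⟨by
    rw [← terminal.comp_from (X ↘ Spec (CommRingCat.of k))]
    infer_instance⟩
  haveI : JacobsonSpace X := LocallyOfFiniteType.jacobsonSpace (X ↘ Spec (CommRingCat.of k))
  haveI := hL.1
  haveI := hM.1
  have hfield : ∀ η ∈ genPts X, IsField (X.presheaf.stalk η) := fun η hη =>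
    ProjSerreLib.isField_stalk_of_component hη
  have hgenL : ∀ η ∈ genPts X, η ∈ invSet L := fun η hη => by
    obtain ⟨a⟩ := nonempty_equiv_of_finrank_one (hfield η hη) (hLr η hη)
    exact FibreDualLib.invertibleAt_of_stalk_equiv hL a.symm
  have hgenM : ∀ η ∈ genPts X, η ∈ invSet M := fun η hη => by
    obtain ⟨a⟩ := nonempty_equiv_of_finrank_one (hfield η hη) (hMr η hη)
    exact FibreDualLib.invertibleAt_of_stalk_equiv hM a.symm
  -- the finitely many points to generate at
  obtain ⟨-, hBfin⟩ := finite_of_disjoint_genPts k hdim (isOpen_invSet L).isClosed_compl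
    fun η hη h => h (hgenL η hη)
  have hGfin : (genPts X).Finite := by
    haveI := (NoetherianSpace.finite_irreducibleComponents (α := X)).to_subtype
    refine Set.Finite.of_injOn (f := fun η => closure ({η} : Set X)) (fun η hη => hη) (fun a _ b _ e => ?_)
      (NoetherianSpace.finite_irreducibleComponents (α := X))
    exact ((isGenericPoint_closure (x := a)).eq (show IsGenericPoint b (closure {a}) from e.symm))
  have hch : ∀ η : genPts X, ∃ q : X, η.1 ⤳ q ∧ q ∈ invSet L ∧ q ∈ invSet M := fun η => by
    obtain ⟨q, hq, -⟩ := nonempty_inter_closedPoints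
      (Z := closure ({η.1} : Set X) ∩ (invSet L ∩ invSet M)) ⟨η.1, subset_closure rfl, hgenL _ η.2, hgenM _ η.2⟩
      (isClosed_closure.isLocallyClosed.inter ((isOpen_invSet L).inter (isOpen_invSet M)).isLocallyClosed)
    exact ⟨q, specializes_iff_mem_closure.2 hq.1, hq.2.1, hq.2.2⟩
  choose q hq using hch
  haveI := hGfin.to_subtype
  let S : Set X := (invSet L)ᶜ ∪ Set.range q
  have hS : S.Finite := hBfin.union (Set.finite_range q)
  have hSM : S ⊆ invSet M := by
    rintro x (hx | ⟨η, rfl⟩)
    · exact (hLM x).resolve_left hx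
    · exact (hq η).2.2
  obtain ⟨A, hA⟩ := CurveGlueLib.exists_isAmple (X := X) hdim
  obtain ⟨n, φ, hφ⟩ := exists_section_twist k hA hM hS hSM
  let P := CohB1.tensorPow A n
  have hP : PicF.IsInvertible P := AmpleLib.isInvertible_tensorPow hA.1 n
  let G := tmod M P
  have hG : Coh.IsCoh G := CMRegLib.isCoh_tensor_inv hM hP
  have hO := DevLib.isCoh_structureModule X
  obtain ⟨hK, hC⟩ := QCohLib.isCoh_kernel_cokernel φ hO hG
  have hcex : ∀ x : X, Function.Exact (stalkLin φ x) (stalkLin (cokernel.π φ) x) := fun x =>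
    DCohLib.exact_stalkLin _ (ShortComplex.exact_of_g_is_cokernel
      (ShortComplex.mk φ (cokernel.π φ) (cokernel.condition φ)) (cokernelIsCokernel φ)) x
  have hcsur : ∀ x : X, Function.Surjective (stalkLin (cokernel.π φ) x) :=
    (PullbackMod.epi_iff_stalk _).1 inferInstance
  have hbij : ∀ η ∈ genPts X, Function.Bijective (stalkLin φ η) := fun η hη => by
    have hqS := hφ _ (Or.inr ⟨⟨η, hη⟩, rfl⟩)
    suffices hsur : Function.Surjective (stalkLin φ η) by
      refine ⟨?_, hsur⟩
      obtain ⟨a⟩ := nonempty_stalk_invSet (hgenM η hη)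
      obtain ⟨g, hg⟩ := ParaFLib.exists_stalk_gen hP η
      let eG : G.presheaf.stalk η ≃ₗ[X.presheaf.stalk η] X.presheaf.stalk η :=
        (stalkTensor η M P).symm.trans ((TensorProduct.congr a
          (LinearEquiv.ofBijective (LinearMap.toSpanSingleton _ _ g) hg).symm).trans (TensorProduct.lid _ _))
      let one : X.presheaf.stalk η ≃ₗ[X.presheaf.stalk η] (Coh.structureModule X).presheaf.stalk η :=
        LinearEquiv.ofBijective (LinearMap.toSpanSingleton _ _ _) (ParaFLib.bijective_oneG η)
      have hi : Function.Injective ((eG.toLinearMap.comp (stalkLin φ η)).comp one.toLinearMap) :=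
        OrzechProperty.injective_of_surjective_endomorphism _ ((eG.surjective.comp hsur).comp one.surjective)
      intro z w hzw
      obtain ⟨z, rfl⟩ := one.surjective z
      obtain ⟨w, rfl⟩ := one.surjective w
      exact congrArg one (hi (congrArg eG hzw))
    intro z
    by_contra hz
    have hmem : η ∈ CohB1.support (cokernel φ) := fun hs =>
      hz ((hcex η z).1 (hs.elim _ _))
    have hqm : q ⟨η, hη⟩ ∈ CohB1.support (cokernel φ) :=
      (hq ⟨η, hη⟩).1.mem_closed (DevLib.isClosed_support hC) hmem
    refine hqm (subsingleton_of_forall_eq 0 fun w => ?_)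
    obtain ⟨v, rfl⟩ := hcsur _ w
    exact (hcex _ v).2 (hqS.2 v)
  haveI := mono_of_genPts φ fun η hη => (hbij η hη).1
  have hCs : ∀ x ∈ CohB1.support (cokernel φ), x ∈ invSet L := fun x hx => by_contra fun hxL =>
    hx (subsingleton_of_forall_eq 0 fun w => by
      obtain ⟨v, rfl⟩ := hcsur _ w
      exact (hcex _ v).2 ((hφ x (Or.inl hxL)).2 v))
  obtain ⟨hCd, -⟩ := finite_of_disjoint_genPts k hdim (DevLib.isClosed_support hC) fun η hη hx =>
    hx (subsingleton_of_forall_eq 0 fun w => by
      obtain ⟨v, rfl⟩ := hcsur _ w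
      exact (hcex _ v).2 ((hbij η hη).2 v))
  -- tensor with `L`
  have hmono : Mono (CurveLib.tmap φ L) := (PullbackMod.mono_iff_stalk _).2 fun x a b hab => by
    obtain ⟨a, rfl⟩ := (stalkTensor x (Coh.structureModule X) L).surjective a
    obtain ⟨b, rfl⟩ := (stalkTensor x (Coh.structureModule X) L).surjective b
    rw [stalkTensor_natural_left, stalkTensor_natural_left] at hab
    refine congrArg _ (?_ : a = b)
    have hab' := (stalkTensor x G L).injective hab
    by_cases hx : x ∈ invSet L
    · obtain ⟨e⟩ := nonempty_stalk_invSet hx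
      haveI : Module.Flat (X.presheaf.stalk x) (L.presheaf.stalk x) := Module.Flat.of_linearEquiv e
      exact Module.Flat.rTensor_preserves_injective_linearMap _ ((PullbackMod.mono_iff_stalk φ).1 inferInstance x) hab'
    · exact (TensorProduct.congr (LinearEquiv.ofBijective _ (hφ x (Or.inl hx))) (LinearEquiv.refl _ _)).injective hab'
  haveI := hmono
  have hTO := CurveLib.isCoh_tmod hO hL
  have hTG := CurveLib.isCoh_tmod hG hL
  obtain ⟨-, hC'⟩ := QCohLib.isCoh_kernel_cokernel (CurveLib.tmap φ L) hTO hTG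
  have hcok : ∀ x, Nonempty ((cokernel (CurveLib.tmap φ L)).presheaf.stalk x ≃ₗ[X.presheaf.stalk x]
      (Fin 1 → (cokernel φ).presheaf.stalk x)) := fun x => by
    let g' : G.presheaf.stalk x ⊗[X.presheaf.stalk x] L.presheaf.stalk x →ₗ[X.presheaf.stalk x]
        (cokernel (CurveLib.tmap φ L)).presheaf.stalk x :=
      (stalkLin (cokernel.π (CurveLib.tmap φ L)) x).comp (stalkTensor x G L).toLinearMap
    let g : G.presheaf.stalk x ⊗[X.presheaf.stalk x] L.presheaf.stalk x →ₗ[X.presheaf.stalk x]
        (cokernel φ).presheaf.stalk x ⊗[X.presheaf.stalk x] L.presheaf.stalk x :=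
      (stalkLin (cokernel.π φ) x).rTensor _
    have hg' : Function.Surjective g' :=
      (DevLib.coker_surjective (CurveLib.tmap φ L) x).comp (stalkTensor x G L).surjective
    have hg : Function.Surjective g := LinearMap.rTensor_surjective _ (DevLib.coker_surjective φ x)
    have hexg : Function.Exact ((stalkLin φ x).rTensor (L.presheaf.stalk x)) g :=
      rTensor_exact _ (DevLib.coker_exact φ x) (DevLib.coker_surjective φ x)
    have hker : LinearMap.ker g' = LinearMap.ker g := by
      ext z
      rw [LinearMap.mem_ker, LinearMap.mem_ker, hexg z]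
      refine ⟨fun h => ?_, ?_⟩
      · obtain ⟨w, hw⟩ := (DevLib.coker_exact (CurveLib.tmap φ L) x (stalkTensor x G L z)).1 h
        obtain ⟨w, rfl⟩ := (stalkTensor x _ L).surjective w
        rw [stalkTensor_natural_left] at hw
        exact ⟨w, (stalkTensor x G L).injective hw⟩
      · rintro ⟨w, rfl⟩
        exact (DevLib.coker_exact (CurveLib.tmap φ L) x _).2 ⟨stalkTensor x _ L w, stalkTensor_natural_left x φ w⟩
    let E := (g'.quotKerEquivOfSurjective hg').symm ≪≫ₗ Submodule.quotEquivOfEq _ _ hker ≪≫ₗ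
      g.quotKerEquivOfSurjective hg
    by_cases hx : x ∈ invSet L
    · obtain ⟨e⟩ := nonempty_stalk_invSet hx
      exact ⟨E ≪≫ₗ LinearEquiv.lTensor _ e ≪≫ₗ TensorProduct.rid _ _ ≪≫ₗ (LinearEquiv.funUnique (Fin 1) _ _).symm⟩
    · haveI : Subsingleton ((cokernel φ).presheaf.stalk x) := not_not.1 fun h => hx (hCs x h)
      haveI : Subsingleton ((cokernel φ).presheaf.stalk x ⊗[X.presheaf.stalk x] L.presheaf.stalk x) :=
        subsingleton_of_forall_eq 0 fun z => by
          induction z using TensorProduct.induction_on with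
          | zero => rfl
          | tmul a b => rw [Subsingleton.elim a 0, TensorProduct.zero_tmul]
          | add a b ha hb => rw [ha, hb, add_zero]
      haveI := E.toEquiv.subsingleton
      exact ⟨LinearEquiv.ofSubsingleton _ _⟩
  have h1 := CurveLib.euler_shortExact (K := k) (DevLib.cokerSeq_shortExact φ) hO hG hC
  have h2 := CurveLib.euler_shortExact (K := k) (DevLib.cokerSeq_shortExact (CurveLib.tmap φ L)) hTO hTG hC'
  change Curv2.euler k X G = Curv2.euler k X (Coh.structureModule X) + Curv2.euler k X (cokernel φ) at h1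
  change Curv2.euler k X (tmod G L) = Curv2.euler k X (tmod (Coh.structureModule X) L) +
    Curv2.euler k X (cokernel (CurveLib.tmap φ L)) at h2
  rw [CurveLib.euler_eq_mul (k := k) hC hC' (DevLib.isClosed_support hC) subset_rfl hCd 1 hcok, Nat.cast_one,
    one_mul, CurveLib.euler_iso (K := k) (CurveLib.tmodUnit L)] at h2
  -- remove the twist
  have h3 := euler_twist_sub k hdim hP hM fun η hη => nonempty_stalk_invSet (hgenM η hη)
  have h4 := euler_twist_sub k hdim hP (CurveLib.isCoh_tmod hL hM) fun η hη => by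
    obtain ⟨a⟩ := nonempty_stalk_invSet (hgenL η hη)
    obtain ⟨b⟩ := nonempty_stalk_invSet (hgenM η hη)
    exact ⟨(stalkTensor η L M).symm.trans ((TensorProduct.congr a b).trans (TensorProduct.lid _ _))⟩
  have e : tmod (tmod L M) P ≅ tmod G L := (ModTensor.tensorAssoc X.sheaf M P).app L ≪≫ CurveLib.tmodComm L G
  rw [CurveLib.euler_iso (K := k) e] at h4
  linarith

end Groth.Agent.SubAdjLib
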