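import Groth.Agent.SubAdjLib.Stable
import Groth.Agent.AmpleLib.FinProd

/-!
# Semistable pointed curves
-/

set_option autoImplicit false
set_option backward.isDefEq.respectTransparency false
set_option backward.isDefEq.respectTransparency.types false
set_option linter.style.haveILetI false
set_option maxHeartbeats 1000000

universe u

open CategoryTheory CategoryTheory.Limits AlgebraicGeometry TopologicalSpace Opposite
open Groth.Agent.PullbackMod Groth.Agent.DCohLib Groth.Agent.CurveLib Groth.Agent.H1ZeroLib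
open Groth.Agent.CliffCurveLib

attribute [local instance] HasDerivedCategory.standard

noncomputable section

namespace Groth.Agent.SubAdjLib

variable {X : Scheme.{u}} (k : Type u) [Field k] [X.Over (Spec (CommRingCat.of k))]
  [IsProper (X ↘ Spec (CommRingCat.of k))]

theorem degS_iso {L L' : X.Modules} (e : L ≅ L') (S : Closeds X) : degS k L S = degS k L' S := by
  unfold degS
  rw [CurveLib.euler_iso (K := k) (((DCoh.tensorBi (X := X)).obj (ClSub.quotMod (vI S))).mapIso e :
    LJ (vI S) L ≅ LJ (vI S) L')]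

/-- The genus of a subcurve is at most the genus. -/
theorem gS_le_genus [IsReduced X] (hdim : topologicalKrullDim X ≤ 1) (S : Closeds X) :
    gS k S ≤ Curv2.genus k X := by
  haveI := EulerIneqLib.isNoetherian_proper (X := X) k
  haveI := EulerIneqLib.finite_HH (k := k) (DevLib.isCoh_structureModule X) 1
  exact LinearMap.finrank_le_finrank_of_surjective (f := hMap (k := k) (ClSub.toSubscheme (vI S)) 1)
    (hMap_one_surjective (k := k) hdim (ClSub.toSubscheme (vI S)) isClosed_empty
      (topologicalKrullDim_zero_of_discreteTopology (∅ : Set X))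
      fun y _ => (epi_iff_stalk _).1 (HilbObsLib.epi_toSubscheme _) y)

/-- A globally generated invertible module has nonnegative degree on every component. -/
theorem degS_nonneg_of_gg [IsReduced X] (hdim : topologicalKrullDim X ≤ 1) {L : X.Modules} (hL : PicF.IsInvertible L)
    (h : Curv2.IsGloballyGenerated L) {S : Closeds X} (hS : IsSub S) (hi : IsIrreducible (S : Set X)) :
    0 ≤ degS k L S := by
  haveI : IsIntegral (vI S).subscheme := isIntegral_vanishingIdeal S.isClosed hi
  letI : (vI S).subscheme.Over (Spec (CommRingCat.of k)) := ⟨(vI S).subschemeι ≫ (X ↘ Spec (CommRingCat.of k))⟩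
  haveI : IsProper ((vI S).subscheme ↘ Spec (CommRingCat.of k)) :=
    inferInstanceAs (IsProper ((vI S).subschemeι ≫ (X ↘ Spec (CommRingCat.of k))))
  obtain ⟨w⟩ : Nonempty (vI S).subscheme := inferInstance
  obtain ⟨t, ht⟩ := AmpleLib.exists_genLocus_of_isGloballyGenerated hL h ((vI S).subschemeι w)
  let e₀ : LJ (vI (⊤ : Closeds X)) L ≅ L := eqToIso (congrArg (fun J => LJ J L) (vI_top (X := X))) ≪≫ ljBot L
  let σ := t ≫ e₀.inv ≫ qmapL (vI_mono (le_top : S ≤ ⊤)) L
  have hσ : Function.Surjective (stalkLin σ ((vI S).subschemeι w)) := by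
    have ht' : Function.Surjective (stalkLin t ((vI S).subschemeι w)) := fun z => by
      obtain ⟨r, hr⟩ := ((AmpleLib.mem_genLocus_iff hL).1 ht).2 z
      refine ⟨r • ParaFLib.oneG _, ?_⟩
      rw [map_smul]
      exact Eq.trans (congrArg (r • ·) (stalkLin_germ t (U := ⊤) _ trivial _)) hr
    obtain ⟨e, he⟩ := ParaFLib.exists_stalk_gen hL ((vI S).subschemeι w)
    simp only [σ, stalkLin_comp, LinearMap.coe_comp]
    exact ((surjective_qmapL he (vI_mono (le_top : S ≤ ⊤))).comp ((isIso_iff_stalk e₀.inv).1 inferInstance _).2).comp ht'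
  have hM := AmpleLib.isInvertible_pullback (vI S).subschemeι hL
  have hφ : DCohLib.secHom _ (subSec σ) ≠ 0 := fun hh => by
    have hw := (surjective_iff_mem_genLocus hL σ w).1 hσ
    rw [hh, AmpleLib.mem_genLocus_iff hM] at hw
    have hz : AmpleLib.sec (0 : Coh.structureModule (vI S).subscheme ⟶ (Scheme.Modules.pullback (vI S).subschemeι).obj L) = 0 := rfl
    rw [hz] at hw
    exact one_ne_zero (hw.1 (show (1 : (vI S).subscheme.presheaf.stalk w) • _ = (0 : (vI S).subscheme.presheaf.stalk w) • _ by
      rw [map_zero, smul_zero, smul_zero]))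
  have h1 := (deg_le_of_ne_zero (k := k) (dim_vI_eq_one hdim hS.2).le ParaFLib.isInvertible_structureModule hM hφ).1
  rw [deg_eq_degS k hL] at h1
  refine le_trans (le_of_eq ?_) h1
  unfold Curv2.deg
  simp

variable [IsReduced X] [ConnectedSpace X] [IsAlgClosed k] (hdim : topologicalKrullDim X = 1)
  (hX : Curv2.AtWorstNodal k X)
  [DCoh.HasRpush (X ↘ Spec (CommRingCat.of k))] (h : DCoh.RpushPreservesQCoh (X ↘ Spec (CommRingCat.of k)))
  [DCoh.HasShriek (X ↘ Spec (CommRingCat.of k)) h] (OY : DCoh.DQCoh (Spec (CommRingCat.of k)))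
  (hOY : Nonempty (OY.obj ≅ DCoh.inD (Spec (CommRingCat.of k)) (Coh.structureModule (Spec (CommRingCat.of k)))))
  (hGor : PicF.IsInvertible (DCoh.dualizingMod (X ↘ Spec (CommRingCat.of k)) h OY 1))

/-- The dualizing module. -/
local notation "ωX" => DCoh.dualizingMod (X ↘ Spec (CommRingCat.of k)) h OY 1

variable {n : ℕ} {p : Fin n → X} (hpinj : Function.Injective p) (hpcl : ∀ i, IsClosed ({p i} : Set X))
  {N : X.Modules} (hN : ClSub.IsInverseOf N (ClSub.idealMod
      (Scheme.IdealSheafData.vanishingIdeal ⟨⋃ i, ({p i} : Set X), isClosed_iUnion_of_finite hpcl⟩)))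
  {M : X.Modules} (hM : Nonempty (M ≅ CohB1.tensorMod (DCoh.dualizingMod (X ↘ Spec (CommRingCat.of k)) h OY 1) N))

include hdim hX hOY hGor hpinj hN hM in
theorem degS_marked {E : Set X} (hE : E ∈ irreducibleComponents (X : Type u)) :
    degS k M (compo hE) = 2 * (gS k (compo hE) : ℤ) - 2 + (E ∩ closure Eᶜ).ncard + (p ⁻¹' E).ncard := by
  have hNi : PicF.IsInvertible N := AmpleLib.isInvertible_of_tensor_iso hN.some
  have hS := isSub_compo k hdim hE
  let D : Closeds X := ⟨⋃ i, ({p i} : Set X), isClosed_iUnion_of_finite hpcl⟩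
  have hd : topologicalKrullDim (D : Set X) ≤ 0 :=
    dim_le_zero_of_finite k (Set.finite_iUnion fun _ => Set.finite_singleton _) D.isClosed
  rw [degS_iso k hM.some, degS_omegaD k hdim h OY hOY hGor hNi hS,
    degS_inverse_points k hdim.le hd hNi hN hS hE.1, vI_sup_finite k hd,
    h0_quot_finite k (F := compo hE ⊓ D) (CliffCurveLib.dim_mono (fun z hz => hz.2) hd), kc_eq_card k hdim hX hS,
    Nat.card_coe_set_eq, Nat.card_coe_set_eq]
  have e : ((compo hE ⊓ D : Closeds X) : Set X) = p '' (p ⁻¹' E) := by
    rw [Set.image_preimage_eq_inter_range]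
    show E ∩ (⋃ i, ({p i} : Set X)) = E ∩ Set.range p
    rw [Set.iUnion_singleton_eq_range]
  rw [e, Set.ncard_image_of_injective _ hpinj]
  rfl

include hdim hX hOY hGor hpinj hN hM in
/-- Semistability gives nonnegative degrees. -/
theorem degS_marked_nonneg
    (hss : ∀ (E : Set X) (hE : E ∈ irreducibleComponents (X : Type u)), gS k (compo hE) = 0 →
        2 ≤ (E ∩ closure Eᶜ).ncard + (p ⁻¹' E).ncard) {S : Closeds X} (hS : IsSub S) :
    0 ≤ degS k M S := by
  have hMi : PicF.IsInvertible M := ParaFLib.isInvertible_of_iso hM.some.symm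
    (AmpleLib.isInvertible_tensor hGor (AmpleLib.isInvertible_of_tensor_iso hN.some))
  refine sub_induction k hdim.le (P := fun S => 0 ≤ degS k M S) (fun S hS hi => ?_)
    (fun A B S _ _ _ hAB hd hA hB => by rw [degS_union k hMi hAB hd]; omega) S hS
  have hC : (S : Set X) ∈ irreducibleComponents (X : Type u) :=
    CurveLib.mem_irreducibleComponents hdim.le S.isClosed hi
      (eq_one_of_le ((topologicalKrullDim_subspace_le X _).trans hdim.le) hS.2)
  rw [show S = compo hC from rfl, degS_marked k hdim hX h OY hOY hGor hpinj hpcl hN hM hC]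
  rcases Nat.eq_zero_or_pos (gS k (compo hC)) with hg | hg
  · have h1 := hss _ hC hg
    omega
  · omega

include hdim hX hOY hGor hpinj hN hM in
/-- On a semistable curve of positive total degree, powers `≥ 2` have degree at least `2g`. -/
theorem two_genus_le_pow
    (hss : ∀ (E : Set X) (hE : E ∈ irreducibleComponents (X : Type u)), gS k (compo hE) = 0 →
        2 ≤ (E ∩ closure Eᶜ).ncard + (p ⁻¹' E).ncard)
    (hgn : 0 < 2 * (Curv2.genus k X : ℤ) - 2 + n) {S : Closeds X} (hS : IsSub S) {m : ℕ} (hm : 2 ≤ m) :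
    2 * (gS k S : ℤ) ≤ degS k (CohB1.tensorPow M m) S := by
  have hNi : PicF.IsInvertible N := AmpleLib.isInvertible_of_tensor_iso hN.some
  have hMi : PicF.IsInvertible M := ParaFLib.isInvertible_of_iso hM.some.symm (AmpleLib.isInvertible_tensor hGor hNi)
  rw [degS_tensorPow k hMi hdim.le hS]
  have h1 := degS_marked_nonneg k hdim hX h OY hOY hGor hpinj hpcl hN hM hss hS
  have h2 : degS k M S = 2 * (gS k S : ℤ) - 2 + kc k S + degS k N S := by
    rw [degS_iso k hM.some, degS_omegaD k hdim h OY hOY hGor hNi hS]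
  let D : Closeds X := ⟨⋃ i, ({p i} : Set X), isClosed_iUnion_of_finite hpcl⟩
  have hd : topologicalKrullDim (D : Set X) ≤ 0 :=
    dim_le_zero_of_finite k (Set.finite_iUnion fun _ => Set.finite_singleton _) D.isClosed
  have h3 : 0 ≤ degS k N S := degS_inverse_points_nonneg k hdim.le hd hNi hN hS
  have hm' : (2 : ℤ) ≤ m := by exact_mod_cast hm
  have hk : (0 : ℤ) ≤ kc k S := Int.natCast_nonneg _
  rcases lt_trichotomy (gS k S) 1 with hg | hg | hg
  · have hg' : gS k S = 0 := by omega
    rw [hg']
    push_cast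
    nlinarith
  · have hw : 1 ≤ degS k M S := by
      by_cases hne : S = ⊤
      · subst hne
        have hn : degS k N (⊤ : Closeds X) = n := by
          rw [degS_inverse_points_top k hdim hd hNi hN]
          show (Nat.card ↥(⋃ i, ({p i} : Set X)) : ℤ) = n
          rw [Nat.card_coe_set_eq, Set.iUnion_singleton_eq_range, ← Nat.card_coe_set_eq,
            Nat.card_range_of_injective hpinj, Nat.card_fin]
        rw [gS_top] at hg h2
        rw [hg] at hgn
        omega
      · have := kc_pos k hdim.le hS hne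
        omega
    rw [hg]
    push_cast
    nlinarith
  · have hg' : (2 : ℤ) ≤ gS k S := by exact_mod_cast hg
    nlinarith

end Groth.Agent.SubAdjLib
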