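import Groth.Agent.SubAdjLib.Semistable
import Groth.Agent.TwistShriek.PointTwist

/-!
# Trees of rational curves
-/

set_option autoImplicit false
set_option backward.isDefEq.respectTransparency false
set_option backward.isDefEq.respectTransparency.types false
set_option linter.style.haveILetI false
set_option maxHeartbeats 1000000

universe u

open CategoryTheory CategoryTheory.Limits AlgebraicGeometry TopologicalSpace Opposite
open Groth.Agent.PullbackMod Groth.Agent.DCohLib Groth.Agent.CurveLib Groth.Agent.H1ZeroLib
open Groth.Agent.CliffCurveLib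
open scoped TensorProduct

attribute [local instance] HasDerivedCategory.standard

noncomputable section

namespace Groth.Agent.SubAdjLib

variable {X : Scheme.{u}}

/-- Tensoring with an invertible module is faithful on sections. -/
theorem eq_zero_of_mulS_invertible {M N : X.Modules} (hM : PicF.IsInvertible M) (σ : Coh.structureModule X ⟶ N)
    (h : mulS M σ = 0) : σ = 0 := by
  refine hom_ext_stalk fun y => LinearMap.ext fun a => ?_
  rw [DevLib.stalkLin_zero, LinearMap.zero_apply]
  obtain ⟨e, he⟩ := ParaFLib.exists_stalk_gen hM y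
  let eM : X.presheaf.stalk y ≃ₗ[X.presheaf.stalk y] M.presheaf.stalk y :=
    LinearEquiv.ofBijective (LinearMap.toSpanSingleton _ _ e) he
  have h1 : (stalkLin σ y).lTensor (M.presheaf.stalk y) (e ⊗ₜ[X.presheaf.stalk y] a) = 0 := by
    refine (stalkTensor y M N).injective ?_
    rw [map_zero, ← stalkTensor_natural_right, show ((DCoh.tensorBi (X := X)).obj M).map σ = mulS M σ from rfl, h,
      DevLib.stalkLin_zero, LinearMap.zero_apply]
  rw [LinearMap.lTensor_tmul] at h1
  have h2 := congrArg ((TensorProduct.congr eM.symm (LinearEquiv.refl (X.presheaf.stalk y) (N.presheaf.stalk y))).trans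
      (TensorProduct.lid (X.presheaf.stalk y) (N.presheaf.stalk y))) h1
  have he1 : eM.symm e = 1 := eM.injective (by rw [eM.apply_symm_apply]; exact (one_smul (X.presheaf.stalk y) e).symm)
  simpa [he1] using h2

variable (k : Type u) [Field k] [IsAlgClosed k] [X.Over (Spec (CommRingCat.of k))]
  [IsProper (X ↘ Spec (CommRingCat.of k))] [IsReduced X] [ConnectedSpace X]

include k in
/-- On a tree of rational curves, small degrees kill sections. -/
theorem subsingleton_H0_tree (hdim : topologicalKrullDim X = 1) (hX : Curv2.AtWorstNodal k X)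
    (hg : Subsingleton (Coh.HH X (Coh.structureModule X) 1)) {L : X.Modules} (hL : PicF.IsInvertible L)
    {E₀ : Set X} (hE₀ : E₀ ∈ irreducibleComponents (X : Type u))
    (hE : ∀ (E : Set X) (hE : E ∈ irreducibleComponents (X : Type u)),
      (E = E₀ → degS k L (compo hE) ≤ ((E ∩ closure Eᶜ).ncard : ℤ) - 1) ∧
        (E ≠ E₀ → degS k L (compo hE) ≤ ((E ∩ closure Eᶜ).ncard : ℤ) - 2)) :
    Subsingleton (Coh.HH X L 0) := by
  haveI := EulerIneqLib.isNoetherian_proper (X := X) k
  let f := X ↘ Spec (CommRingCat.of k)
  let Y := Spec (CommRingCat.of k)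
  haveI : IsLocallyNoetherian X := LocallyOfFiniteType.isLocallyNoetherian f
  haveI : CompactSpace X := QuasiCompact.compactSpace_of_compactSpace f
  haveI : QuasiSeparatedSpace X := quasiSeparatedSpace_of_quasiSeparated f
  haveI : DCoh.HasRpush f := Groth.Agent.KInj.hasRightDerivedFunctor (hres_modules X) _
  have h : DCoh.RpushPreservesQCoh f := fun K hK => DCohMore.isQCohD_rpush f K hK
  haveI : DCoh.HasShriek f h := DQCohBrown.isLeftAdjoint_rpushQ f h
  let OY : DCoh.DQCoh Y := TwistShriek.oQ Y
  have hOY : Nonempty (OY.obj ≅ DCoh.inD Y (Coh.structureModule Y)) := ⟨Iso.refl _⟩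
  have hGor := isInvertible_dualizingMod_nodal h OY hOY hdim hX
  obtain ⟨tr, hdual, -, -⟩ := TwistShriek.exists_pair_dualizingMod k X h OY hOY (hdim.le.trans (by rfl))
  obtain ⟨L', hL', ⟨eL⟩⟩ := AmpleEmb.exists_isInverseOf hL
  let ω := DCoh.dualizingMod f h OY 1
  let M := CohB1.tensorMod ω L'
  have hM : PicF.IsInvertible M := AmpleLib.isInvertible_tensor hGor hL'
  have hg0 : ∀ S : Closeds X, gS k S = 0 := fun S => by
    have h1 := gS_le_genus k hdim.le S
    have h2 : Curv2.genus k X = 0 :=
      Module.finrank_zero_of_subsingleton (R := k) (M := Coh.HH X (Coh.structureModule X) 1)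
    omega
  have hl' : ∀ S, IsSub S → degS k L S + degS k L' S = 0 := fun S hS => by
    rw [← degS_tensor k hL hL' hdim.le hS, ← degS_unit k S]
    exact degS_iso k eL S
  have hcompo : ∀ (E : Set X) (hE : E ∈ irreducibleComponents (X : Type u)),
      degS k M (compo hE) = -2 + ((E ∩ closure Eᶜ).ncard : ℤ) - degS k L (compo hE) := fun E hE' => by
    have hS := isSub_compo k hdim hE'
    rw [degS_omegaD k hdim h OY hOY hGor hL' hS, hg0, kc_eq_card k hdim hX hS, Nat.card_coe_set_eq]
    have := hl' _ hS
    have e : ((compo hE' : Set X) ∩ (compl (compo hE') : Set X)).ncard = (E ∩ closure Eᶜ).ncard := rfl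
    rw [e]
    push_cast
    omega
  have key : ∀ S, IsSub S → (E₀ ⊆ S → -1 ≤ degS k M S) ∧ (¬ E₀ ⊆ S → 0 ≤ degS k M S) := fun S hS => by
    refine sub_induction k hdim.le (P := fun S => (E₀ ⊆ (S : Set X) → -1 ≤ degS k M S) ∧ (¬ E₀ ⊆ (S : Set X) → 0 ≤ degS k M S))
      (fun S hS hi => ?_) (fun A B S _ _ _ hAB hd hA hB => ?_) S hS
    · have hC : (S : Set X) ∈ irreducibleComponents (X : Type u) :=
        CurveLib.mem_irreducibleComponents hdim.le S.isClosed hi
          (eq_one_of_le ((topologicalKrullDim_subspace_le X _).trans hdim.le) hS.2)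
      rw [show S = compo hC from rfl, hcompo _ hC]
      refine ⟨fun hsub => ?_, fun hsub => ?_⟩
      · have := (hE _ hC).1 (le_antisymm (hE₀.2 hi hsub) hsub)
        omega
      · have := (hE _ hC).2 fun e => hsub e.ge
        omega
    · rw [degS_union k hM hAB hd]
      refine ⟨fun hsub => ?_, fun hsub => ?_⟩
      · by_cases hEA : E₀ ⊆ (A : Set X)
        · have hEB : ¬ E₀ ⊆ (B : Set X) := fun hEB => by
            have h0 := CliffCurveLib.dim_mono (Set.subset_inter hEA hEB) hd
            rw [TwistShriek.dim_irreducibleComponent k hdim hE₀] at h0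
            exact absurd h0 (by decide)
          have := hA.1 hEA
          have := hB.2 hEB
          omega
        · have hEB : E₀ ⊆ (B : Set X) := by
            rw [← hAB, Closeds.coe_sup] at hsub
            rcases (isPreirreducible_iff_isClosed_union_isClosed.1 hE₀.1.2) _ _ A.isClosed B.isClosed hsub with h' | h'
            · exact absurd h' hEA
            · exact h'
          have := hA.2 hEA
          have := hB.1 hEB
          omega
      · have := hA.2 fun h' => hsub (h'.trans (le_left hAB))
        have := hB.2 fun h' => hsub (h'.trans (le_right hAB))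
        omega
  haveI hH1 : Subsingleton (Coh.HH X M 1) := subsingleton_H1_of_degS k hdim hM fun S hS => by
    rw [hg0]
    obtain ⟨h1, h2⟩ := key S hS
    by_cases hsub : E₀ ⊆ (S : Set X)
    · have := h1 hsub; omega
    · have := h2 hsub; omega
  haveI : Subsingleton (Coh.HH X (tmod M (Coh.structureModule X)) 1) :=
    (LinearEquiv.ofBijective _ (hMap_bijective_iso (k := k) (tensorStructureIso M) 1)).toEquiv.subsingleton
  let w : tmod M L ≅ ω := AmpleLib.assoc ω L' L ≪≫ AmpleLib.tIso (Iso.refl ω) (AmpleLib.comm L' L ≪≫ eL) ≪≫ AmpleLib.unitR ω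
  refine subsingleton_of_forall_eq 0 fun c => by_contra fun hc => secHom_secOf_ne_zero L hc ?_
  refine eq_zero_of_mulS_invertible hM _ ?_
  rw [← cancel_mono w.hom, zero_comp]
  exact TwistShriek.hom_eq_zero_of_subsingleton_HH k hdual _
    (CurveLib.isCoh_tmod (isCoh_of_isInvertible hM) (DevLib.isCoh_structureModule X)).1 _

end Groth.Agent.SubAdjLib
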