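import Groth.Agent.SubAdjLib.Subcurve

/-!
# Vanishing of `H¹` from degrees on connected subcurves
-/

set_option autoImplicit false
set_option backward.isDefEq.respectTransparency false
set_option backward.isDefEq.respectTransparency.types false
set_option linter.style.haveILetI false
set_option maxHeartbeats 1000000

universe u

open CategoryTheory CategoryTheory.Limits AlgebraicGeometry TopologicalSpace Opposite
open Groth.Agent.PullbackMod Groth.Agent.DCohLib Groth.Agent.CurveLib Groth.Agent.H1ZeroLib
open Groth.Agent.CliffCurveLib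

noncomputable section

namespace Groth.Agent.SubAdjLib

variable {X : Scheme.{u}}

theorem isIso_idealModι_top : IsIso (ClSub.idealModι (⊤ : X.IdealSheafData)) :=
  (isIso_iff_stalk _).2 fun y => by
    refine ⟨(mono_iff_stalk (ClSub.idealModι (⊤ : X.IdealSheafData))).1 (by unfold ClSub.idealModι; infer_instance) y,
      fun z => ?_⟩
    obtain ⟨r, rfl⟩ := (ParaFLib.bijective_oneG y).2 z
    exact HilbObsLib.stalk_kernel_ι_exists (ClSub.toSubscheme (⊤ : X.IdealSheafData)) y
      (x := r • ParaFLib.oneG y) ((qv_eq_zero_iff _ y r).2 (by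
        rw [IdealMulLib.stalkIdeal_eq_top _ (by rw [Scheme.IdealSheafData.support_top]; exact id)]; trivial))

variable (k : Type u) [Field k] [IsAlgClosed k] [X.Over (Spec (CommRingCat.of k))]
  [IsProper (X ↘ Spec (CommRingCat.of k))] [IsReduced X]

/-- Degree above `2g - 2` on every connected subcurve kills `H¹`. -/
theorem subsingleton_H1_of_degS (hdim : topologicalKrullDim X = 1) {L : X.Modules} (hL : PicF.IsInvertible L)
    (h : ∀ S : Closeds X, IsSub S → 2 * (gS k S : ℤ) - 2 < degS k L S) : Subsingleton (Coh.HH X L 1) := by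
  haveI := EulerIneqLib.isNoetherian_proper (X := X) k
  by_contra hns
  haveI := not_subsingleton_iff_nontrivial.1 hns
  haveI := isIso_idealModι_top (X := X)
  let e : tmod (ClSub.idealMod (⊤ : X.IdealSheafData)) L ≅ L :=
    ((DCoh.tensorBi (X := X)).mapIso (asIso (ClSub.idealModι (⊤ : X.IdealSheafData)))).app L ≪≫ tmodUnit L
  obtain ⟨Y, hY, hd, hle⟩ := exists_subcurve (k := k) hdim.le hL (⊤ : X.IdealSheafData)
    (by rw [Scheme.IdealSheafData.support_top]; exact topologicalKrullDim_zero_of_discreteTopology (∅ : Set X))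
    (Equiv.ofBijective _ (hMap_bijective_iso (k := k) e 1)).nontrivial
  have h0 : Module.finrank k (Coh.HH X (ClSub.quotMod ((⊤ : X.IdealSheafData) ⊔ vI Y)) 0) = 0 := by
    haveI : Subsingleton (Coh.HH X (ClSub.quotMod ((⊤ : X.IdealSheafData) ⊔ vI Y)) 0) :=
      subsingleton_H0_of_support_empty _ (Set.subset_empty_iff.1 ((IntLib.support_quotMod_subset _).trans (by
        rw [top_sup_eq, Scheme.IdealSheafData.support_top]; exact subset_rfl)))
    exact Module.finrank_zero_of_subsingleton
  rw [h0, euler_quot k hdim.le ⟨hY, hd⟩] at hle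
  have h1 := h Y ⟨hY, hd⟩
  unfold degS at h1
  rw [euler_quot k hdim.le ⟨hY, hd⟩] at h1
  omega

end Groth.Agent.SubAdjLib
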