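import Groth.Agent.SubAdjLib.Twist
import Groth.Agent.SubAdjLib.NonSpecial

/-!
# Pointed nodal curves: degrees of `ω(D)`
-/

set_option autoImplicit false
set_option backward.isDefEq.respectTransparency false
set_option backward.isDefEq.respectTransparency.types false
set_option linter.style.haveILetI false
set_option maxHeartbeats 1000000

universe u

open CategoryTheory CategoryTheory.Limits AlgebraicGeometry TopologicalSpace Opposite
open Groth.Agent.PullbackMod Groth.Agent.DCohLib Groth.Agent.CurveLib Groth.Agent.H1ZeroLib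
open Groth.Agent.CliffCurveLib

attribute [local instance] HasDerivedCategory.standard

noncomputable section

namespace Groth.Agent.SubAdjLib

variable {X : Scheme.{u}} (k : Type u) [Field k] [X.Over (Spec (CommRingCat.of k))]
  [IsProper (X ↘ Spec (CommRingCat.of k))]

include k in
/-- A finite closed subset consists of closed points. -/
theorem dim_le_zero_of_finite {D : Set X} (hf : D.Finite) (hc : IsClosed D) : topologicalKrullDim D ≤ 0 := by
  haveI : JacobsonSpace X := LocallyOfFiniteType.jacobsonSpace (X ↘ Spec (CommRingCat.of k))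
  haveI : Finite D := hf.to_subtype
  haveI : JacobsonSpace D := JacobsonSpace.of_isClosedEmbedding (hc.isClosedEmbedding_subtypeVal)
  exact topologicalKrullDim_zero_of_discreteTopology D

variable [IsReduced X] [ConnectedSpace X] [IsAlgClosed k] (hdim : topologicalKrullDim X = 1)
  [DCoh.HasRpush (X ↘ Spec (CommRingCat.of k))] (h : DCoh.RpushPreservesQCoh (X ↘ Spec (CommRingCat.of k)))
  [DCoh.HasShriek (X ↘ Spec (CommRingCat.of k)) h] (OY : DCoh.DQCoh (Spec (CommRingCat.of k)))
  (hOY : Nonempty (OY.obj ≅ DCoh.inD (Spec (CommRingCat.of k)) (Coh.structureModule (Spec (CommRingCat.of k)))))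
  (hGor : PicF.IsInvertible (DCoh.dualizingMod (X ↘ Spec (CommRingCat.of k)) h OY 1))
  {D : Closeds X} (hd : topologicalKrullDim (D : Set X) ≤ 0) {LD : X.Modules} (hLD : PicF.IsInvertible LD)

/-- The dualizing module. -/
local notation "ωX" => DCoh.dualizingMod (X ↘ Spec (CommRingCat.of k)) h OY 1

include hdim hOY hGor hLD in
/-- The degree of `ω(D)` on a subcurve. -/
theorem degS_omegaD {S : Closeds X} (hS : IsSub S) :
    degS k (CohB1.tensorMod ωX LD) S = 2 * (gS k S : ℤ) - 2 + kc k S + degS k LD S := by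
  rw [degS_tensor k hGor hLD hdim.le hS, degS_omega k hdim h OY hOY hGor hS]

include hdim hOY hGor hLD in
/-- On a stable pointed curve, powers `≥ 2` of `ω(D)` have degree above `2g - 2`. -/
theorem two_genus_lt (hinv : ClSub.IsInverseOf LD (ClSub.idealMod (vI D))) (hd : topologicalKrullDim (D : Set X) ≤ 0)
    (hst : CohB1.IsAmple (CohB1.tensorMod ωX LD)) {S : Closeds X} (hS : IsSub S) {m : ℕ} (hm : 2 ≤ m) :
    2 * (gS k S : ℤ) - 2 < degS k (CohB1.tensorPow (CohB1.tensorMod ωX LD) m) S := by
  have hM : PicF.IsInvertible (CohB1.tensorMod ωX LD) := AmpleLib.isInvertible_tensor hGor hLD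
  rw [degS_tensorPow k hM hdim.le hS]
  have h1 := degS_pos_of_ample k hM hdim.le hst hS
  have h2 := degS_omegaD k hdim h OY hOY hGor hLD hS
  have h3 := degS_inverse_points_nonneg k hdim.le hd hLD hinv hS
  have hm' : (2 : ℤ) ≤ m := by exact_mod_cast hm
  have hk : (0 : ℤ) ≤ kc k S := Int.natCast_nonneg _
  nlinarith

include hdim hOY hGor hLD in
theorem subsingleton_H1_pow (hinv : ClSub.IsInverseOf LD (ClSub.idealMod (vI D))) (hd : topologicalKrullDim (D : Set X) ≤ 0)
    (hst : CohB1.IsAmple (CohB1.tensorMod ωX LD)) {m : ℕ} (hm : 2 ≤ m) :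
    Subsingleton (Coh.HH X (CohB1.tensorPow (CohB1.tensorMod ωX LD) m) 1) :=
  subsingleton_H1_of_degS k hdim (AmpleLib.isInvertible_tensorPow (AmpleLib.isInvertible_tensor hGor hLD) m)
    fun _ hS => two_genus_lt k hdim h OY hOY hGor hLD hinv hd hst hS hm

include hdim hOY hGor hLD in
theorem euler_pow (hinv : ClSub.IsInverseOf LD (ClSub.idealMod (vI D))) (hd : topologicalKrullDim (D : Set X) ≤ 0)
    (m : ℕ) :
    Curv2.euler k X (CohB1.tensorPow (CohB1.tensorMod ωX LD) m) =
      (m : ℤ) * (2 * (Curv2.genus k X : ℤ) - 2 + Nat.card (D : Set X)) + 1 - (Curv2.genus k X : ℤ) := by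
  have hM : PicF.IsInvertible (CohB1.tensorMod ωX LD) := AmpleLib.isInvertible_tensor hGor hLD
  have hS := isSub_top (X := X) hdim
  have h1 := degS_tensorPow k hM hdim.le hS m
  rw [degS_tensor k hGor hLD hdim.le hS, omega_top k hdim h OY hOY hGor,
    degS_inverse_points_top k hdim hd hLD hinv] at h1
  rw [← h1, degS_top]
  have h2 := euler_quot k hdim.le hS
  rw [gS_top] at h2
  have h3 : Curv2.euler k X (ClSub.quotMod (vI (⊤ : Closeds X))) = Curv2.euler k X (Coh.structureModule X) :=
    CurveLib.euler_iso (K := k) ((tensorStructureIso _).symm ≪≫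
      eqToIso (congrArg (fun J => LJ J (Coh.structureModule X)) (vI_top (X := X))) ≪≫ ljBot _)
  unfold Curv2.deg
  simp only [Nat.cast_one, one_mul]
  omega

end Groth.Agent.SubAdjLib
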