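import Groth.Agent.SubAdjLib.NonSpecial
import Groth.Agent.SubAdjLib.Nodes
import Groth.Agent.SingRRLib.Embed
import Groth.Agent.H1ZeroLib.EmbedDim

/-!
# Separation by sections on reduced curves
-/

set_option autoImplicit false
set_option backward.isDefEq.respectTransparency false
set_option backward.isDefEq.respectTransparency.types false
set_option linter.style.haveILetI false
set_option maxHeartbeats 1000000

universe u

open CategoryTheory CategoryTheory.Limits AlgebraicGeometry TopologicalSpace Opposite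
open Groth.Agent.PullbackMod Groth.Agent.DCohLib Groth.Agent.CurveLib Groth.Agent.H1ZeroLib
open Groth.Agent.CliffCurveLib
open scoped TensorProduct

noncomputable section

namespace Groth.Agent.SubAdjLib.Sep

variable (k : Type u) [Field k] [IsAlgClosed k] {X : Scheme.{u}} [X.Over (Spec (CommRingCat.of k))]
  [IsProper (X ↘ Spec (CommRingCat.of k))]

/-- No first cohomology after removing any subscheme of length at most two. -/
def Crit (L : X.Modules) : Prop :=
  ∀ Z : X.IdealSheafData, topologicalKrullDim (Z.support : Set X) ≤ 0 →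
    Module.finrank k (Coh.HH X (ClSub.quotMod Z) 0) ≤ 2 → Subsingleton (Coh.HH X (tmod (ClSub.idealMod Z) L) 1)

omit [IsAlgClosed k] in
/-- Smaller subschemes have fewer sections. -/
theorem h0_quot_mono {Z Z' : X.IdealSheafData} (h : Z ≤ Z') (hd : topologicalKrullDim (Z.support : Set X) ≤ 0) :
    Module.finrank k (Coh.HH X (ClSub.quotMod Z') 0) ≤ Module.finrank k (Coh.HH X (ClSub.quotMod Z) 0) := by
  haveI := EulerIneqLib.isNoetherian_proper (X := X) k
  haveI := EulerIneqLib.finite_HH (k := k) (IntLib.isCoh_quotMod Z) 0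
  haveI : Subsingleton (Coh.HH X (kernel (qmap h)) 1) := subsingleton_H1_of_support (k := k) Z.support.isClosed hd
    fun y hy => by
      refine IntLib.support_quotMod_subset Z fun hs => hy ?_
      haveI : Subsingleton ((ClSub.quotMod Z).presheaf.stalk y) := hs
      exact ((mono_iff_stalk (kernel.ι (qmap h))).1 inferInstance y).subsingleton
  exact LinearMap.finrank_le_finrank_of_surjective (H1ZeroLib.surjective_H0 (k := k) (qmap h) (surjective_qmap h))

/-- Degree above `2g` on every connected subcurve gives the criterion. -/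
theorem crit_of_degS [IsReduced X] (hdim : topologicalKrullDim X = 1) {L : X.Modules} (hL : PicF.IsInvertible L)
    (h : ∀ S : Closeds X, IsSub S → 2 * (gS k S : ℤ) + 1 ≤ degS k L S) : Crit k L := by
  intro Z hZ hle
  haveI := EulerIneqLib.isNoetherian_proper (X := X) k
  by_contra hns
  obtain ⟨Y, hY, hd, hY2⟩ := exists_subcurve (k := k) hdim.le hL Z hZ (not_subsingleton_iff_nontrivial.1 hns)
  have h1 := h Y ⟨hY, hd⟩
  have h2 := h0_quot_mono k (le_sup_left : Z ≤ Z ⊔ vI Y) hZ
  unfold degS at h1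
  rw [euler_quot k hdim.le ⟨hY, hd⟩] at hY2 h1
  omega

/-- Subschemes at a point whose local ring is spanned by `n` elements have at most `n` sections. -/
theorem finrank_quot_le (Z : X.IdealSheafData) {x : X} (hx : IsClosed ({x} : Set X))
    (hZ : (Z.support : Set X) ⊆ {x}) {n : ℕ} (v : Fin n → X.presheaf.stalk x)
    (hv : ∀ r : X.presheaf.stalk x, ∃ c : Fin n → k,
      r - ∑ i, X.presheaf.germ ⊤ x trivial (Coh.toGlobal (X ↘ Spec (CommRingCat.of k)) (c i)) * v i ∈
        IntMult.stalkIdeal Z x) :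
    Module.finrank k (Coh.HH X (ClSub.quotMod Z) 0) ≤ n := by
  haveI := EulerIneqLib.isNoetherian_proper (X := X) k
  haveI : Mono (ClSub.idealModι Z) := by unfold ClSub.idealModι; infer_instance
  rw [← ShBCLib.finrank_HH_iso (K := k) (SingRRLib.cokerIdealIso Z) 0]
  let q := stalkLin (cokernel.π (ClSub.idealModι Z)) x
  refine SingRRLib.finrank_le_of_surj k hx ?_ (fun i => (q (v i • ParaFLib.oneG x) : (cokernel (ClSub.idealModι Z)).presheaf.stalk x)) fun z => ?_
  · exact fun y hy => hZ (IntLib.support_quotMod_subset Z fun (h : Subsingleton _) =>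
      hy ((((isIso_iff_stalk (SingRRLib.cokerIdealIso Z).hom).1 inferInstance y).1).subsingleton))
  · obtain ⟨w, hw⟩ := DevLib.coker_surjective (ClSub.idealModι Z) x z
    obtain ⟨r, rfl⟩ := (ParaFLib.bijective_oneG x).2 w
    obtain ⟨c, hc⟩ := hv r
    refine ⟨c, hw.symm.trans ?_⟩
    have h0 : q ((r - ∑ i, X.presheaf.germ ⊤ x trivial (Coh.toGlobal (X ↘ Spec (CommRingCat.of k)) (c i)) * v i) •
        ParaFLib.oneG x) = 0 :=
      (DevLib.coker_exact (ClSub.idealModι Z) x _).2 ((HilbObsLib.mem_range_idealModι Z x _).2 hc)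
    rw [sub_smul, map_sub, sub_eq_zero, Finset.sum_smul, map_sum] at h0
    refine h0.trans (Finset.sum_congr rfl fun i _ => ?_)
    rw [mul_smul, map_smul]
    rfl

/-- Residues at closed points are constants. -/
theorem exists_const_sub_mem {x : X} (hx : IsClosed ({x} : Set X)) (r : X.presheaf.stalk x) :
    ∃ c : k, r - X.presheaf.germ ⊤ x trivial (Coh.toGlobal (X ↘ Spec (CommRingCat.of k)) c) ∈
      IsLocalRing.maximalIdeal (X.presheaf.stalk x) := by
  obtain ⟨c, hc⟩ := ShStabLib.residue_toGlobal_surjective k x hx (IsLocalRing.residue _ r)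
  refine ⟨c, (IsLocalRing.residue_eq_zero_iff _).1 ?_⟩
  rw [map_sub, sub_eq_zero]
  exact hc.symm

omit [IsAlgClosed k] [IsProper (X ↘ Spec (CommRingCat.of k))] [X.Over (Spec (CommRingCat.of k))] [Field k] in
/-- Stalks of `I ⊗ L` map into `I_x L_x`. -/
theorem exists_stalkIdeal_smul {Z : X.IdealSheafData} {L : X.Modules} {x : X} {g : L.presheaf.stalk x}
    (hg : Function.Bijective fun r : X.presheaf.stalk x => r • g) 
    (z : (tmod (ClSub.idealMod Z) L).presheaf.stalk x) :
    ∃ r ∈ IntMult.stalkIdeal Z x, stalkLin (SingRRLib.twistι Z L) x z = r • g := by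
  suffices key : ∀ z, stalkLin (SingRRLib.twistι Z L) x z ∈
      IntMult.stalkIdeal Z x • (⊤ : Submodule (X.presheaf.stalk x) (L.presheaf.stalk x)) by
    have htop : (⊤ : Submodule (X.presheaf.stalk x) (L.presheaf.stalk x)) = Submodule.span (X.presheaf.stalk x) {g} :=
      (eq_top_iff.2 fun w _ => Submodule.mem_span_singleton.2 (hg.2 w)).symm
    have h2 := key z
    rw [htop, Submodule.mem_smul_span_singleton] at h2
    obtain ⟨r, hr, he⟩ := h2
    exact ⟨r, hr, he.symm⟩
  intro z
  obtain ⟨z, rfl⟩ := (stalkTensor x (ClSub.idealMod Z) L).surjective z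
  induction z with
  | zero => rw [map_zero, map_zero]; exact zero_mem _
  | add a b ha hb => rw [map_add, map_add]; exact add_mem ha hb
  | tmul n w =>
    obtain ⟨r, hr⟩ := (ParaFLib.bijective_oneG x).2 (stalkLin (ClSub.idealModι Z) x n)
    have hrm := (HilbObsLib.mem_range_idealModι Z x r).1 ⟨n, hr.symm⟩
    change r • ParaFLib.oneG x = _ at hr
    rw [SingRRLib.twistι, stalkLin_comp, LinearMap.comp_apply, stalkTensor_natural_left, LinearMap.rTensor_tmul, ← hr,
      ← TensorProduct.smul_tmul', map_smul, map_smul]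
    exact Submodule.smul_mem_smul hrm trivial

omit [IsProper (X ↘ Spec (CommRingCat.of k))] [IsAlgClosed k] in
/-- A proper subideal of `m` containing `m²` lies in one of colength one in `m`. -/
theorem exists_maximal_sub {R : Type u} [CommRing R] [IsLocalRing R] [IsNoetherianRing R] {W : Ideal R}
    (hW : W < IsLocalRing.maximalIdeal R) :
    ∃ W', W ≤ W' ∧ W' < IsLocalRing.maximalIdeal R ∧
      ∀ I, W' < I → I ≤ IsLocalRing.maximalIdeal R → I = IsLocalRing.maximalIdeal R := by
  obtain ⟨W', ⟨h1, h2⟩, hmax⟩ := set_has_maximal_iff_noetherian.2 (inferInstance : IsNoetherian R R)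
    {I : Ideal R | W ≤ I ∧ I < IsLocalRing.maximalIdeal R} ⟨W, le_rfl, hW⟩
  exact ⟨W', h1, h2, fun I h3 h4 => by_contra fun h5 => hmax I ⟨h1.trans h3.le, lt_of_le_of_ne h4 h5⟩ h3⟩

variable {L : X.Modules} (hL : PicF.IsInvertible L)

omit [IsAlgClosed k] [IsProper (X ↘ Spec (CommRingCat.of k))] [X.Over (Spec (CommRingCat.of k))] [Field k] in
include hL in
/-- Multiples of a generator by the ideal lie in the image of `I ⊗ L`. -/
theorem exists_twist_eq (Z : X.IdealSheafData) {x : X} (w : L.presheaf.stalk x) {r : X.presheaf.stalk x}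
    (hr : r ∈ IntMult.stalkIdeal Z x) : ∃ z, stalkLin (SingRRLib.twistι Z L) x z = r • w := by
  obtain ⟨w, rfl⟩ := ((isIso_iff_stalk (tmodUnit L).hom).1 inferInstance x).2 w
  obtain ⟨w, rfl⟩ := (stalkTensor x (Coh.structureModule X) L).surjective w
  induction w with
  | zero => exact ⟨0, by rw [map_zero, map_zero, map_zero, smul_zero]⟩
  | add a b ha hb =>
    obtain ⟨za, hza⟩ := ha
    obtain ⟨zb, hzb⟩ := hb
    exact ⟨za + zb, by rw [map_add, hza, hzb, map_add, map_add, smul_add]⟩
  | tmul o e =>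
    obtain ⟨c, rfl⟩ := (ParaFLib.bijective_oneG x).2 o
    obtain ⟨n, hn⟩ := (HilbObsLib.mem_range_idealModι Z x (r * c)).2 (Ideal.mul_mem_right c _ hr)
    refine ⟨stalkTensor x (ClSub.idealMod Z) L (n ⊗ₜ[X.presheaf.stalk x] e), ?_⟩
    dsimp only
    rw [SingRRLib.twistι, stalkLin_comp, LinearMap.comp_apply, stalkTensor_natural_left, LinearMap.rTensor_tmul, hn,
      mul_smul, ← TensorProduct.smul_tmul', map_smul, map_smul]

include hL in
omit [IsAlgClosed k] in
/-- Sections realise germs modulo a subscheme with no `H¹`, at one point, zero elsewhere. -/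
theorem exists_section_mod (hv : Crit k L) (Z : X.IdealSheafData) (hd : topologicalKrullDim (Z.support : Set X) ≤ 0)
    (hle : Module.finrank k (Coh.HH X (ClSub.quotMod Z) 0) ≤ 2) (x : X) (z : L.presheaf.stalk x) :
    ∃ σ : Γ(L, ⊤), L.presheaf.germ ⊤ x trivial σ - z ∈ LinearMap.range (stalkLin (SingRRLib.twistι Z L) x) ∧
      ∀ y, y ≠ x → L.presheaf.germ ⊤ y trivial σ ∈ LinearMap.range (stalkLin (SingRRLib.twistι Z L) y) := by
  haveI := EulerIneqLib.isNoetherian_proper (X := X) k
  let ι := SingRRLib.twistι Z L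
  haveI : Mono ι := by
    haveI : Mono (ClSub.idealModι Z) := by unfold ClSub.idealModι; infer_instance
    haveI := mono_tmap (ClSub.idealModι Z) (E := L) (freeAt_one_of_isInvertible hL)
    exact mono_comp _ _
  haveI : Subsingleton (Coh.HH X (tmod (ClSub.idealMod Z) L) 1) := hv Z hd hle
  have hsupp : CohB1.support (cokernel ι) ⊆ (Z.support : Set X) := fun y hy => by
    by_contra hne
    refine hy (DevLib.subsingleton_coker ι fun w => ?_)
    obtain ⟨v, hv⟩ := exists_twist_eq hL Z w (r := 1) (by rw [IdealMulLib.stalkIdeal_eq_top Z hne]; trivial)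
    exact ⟨v, hv.trans (one_smul _ w)⟩
  obtain ⟨s, hs, hs'⟩ := exists_global_germ' Z.support.isClosed hd (cokernel ι) hsupp x (stalkLin (cokernel.π ι) x z)
  have hse := DevLib.cokerSeq_shortExact ι
  have hker : (secOf (cokernel ι)).symm s ∈ LinearMap.ker (hδ (k := k) hse 0) :=
    LinearMap.mem_ker.2 (Subsingleton.elim (α := Coh.HH X (tmod (ClSub.idealMod Z) L) 1) _ _)
  rw [← range_hMap_g] at hker
  obtain ⟨c, hc⟩ := hker
  have h1 : (cokernel.π ι).app ⊤ (secOf L c) = s :=
    (secOf_hMap (k := k) _ _).symm.trans ((congrArg (secOf _) hc).trans ((secOf _).apply_symm_apply s))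
  refine ⟨secOf L c, (DevLib.coker_exact ι x _).1 ?_, fun y hy => (DevLib.coker_exact ι y _).1 ?_⟩
  · rw [map_sub, stalkLin_germ, h1, hs, sub_self]
  · rw [stalkLin_germ, h1, hs' y hy]

omit [IsAlgClosed k] [IsProper (X ↘ Spec (CommRingCat.of k))] [X.Over (Spec (CommRingCat.of k))] [Field k] in
include hL in
/-- A germ in `I_x L_x` does not generate when `x` is on the subscheme. -/
theorem notMem_genLocus_of_mem {x : X} {K : X.IdealSheafData}
    (hK : IntMult.stalkIdeal K x ≤ IsLocalRing.maximalIdeal (X.presheaf.stalk x)) (σ : Γ(L, ⊤))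
    (h : L.presheaf.germ ⊤ x trivial σ ∈ LinearMap.range (stalkLin (SingRRLib.twistι K L) x)) :
    x ∉ CohB1.genLocus L (secHom L σ) := by
  obtain ⟨g, hg⟩ := ParaFLib.exists_stalk_gen hL x
  obtain ⟨b, hb⟩ := h
  obtain ⟨r, hr, hrb⟩ := exists_stalkIdeal_smul hg b
  rw [AmpleLib.mem_genLocus_iff hL, AmpleLib.sec_secHom, ← hb, hrb, AmpleLib.bijective_smul_iff hg]
  exact hK hr

omit [IsAlgClosed k] [IsProper (X ↘ Spec (CommRingCat.of k))] [X.Over (Spec (CommRingCat.of k))] [Field k] in
include hL in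
/-- A germ congruent to a generator generates. -/
theorem mem_genLocus_of_sub_mem {y : X} {K : X.IdealSheafData}
    (hK : IntMult.stalkIdeal K y ≤ IsLocalRing.maximalIdeal (X.presheaf.stalk y)) {g : L.presheaf.stalk y}
    (hg : Function.Bijective fun r : X.presheaf.stalk y => r • g) (σ : Γ(L, ⊤))
    (h : L.presheaf.germ ⊤ y trivial σ - g ∈ LinearMap.range (stalkLin (SingRRLib.twistι K L) y)) :
    y ∈ CohB1.genLocus L (secHom L σ) := by
  obtain ⟨b, hb⟩ := h
  obtain ⟨r, hr, hrb⟩ := exists_stalkIdeal_smul hg b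
  rw [AmpleLib.mem_genLocus_iff hL, AmpleLib.sec_secHom]
  have ha : L.presheaf.germ ⊤ y trivial σ = (r + 1) • g := by
    rw [add_smul, one_smul, ← hrb, hb, sub_add_cancel]
  rw [ha]
  refine (AmpleLib.bijective_smul_iff hg _).2 ?_
  by_contra hu
  have h3 : r + 1 - r ∈ IsLocalRing.maximalIdeal (X.presheaf.stalk y) := sub_mem hu (hK hr)
  rw [add_sub_cancel_left] at h3
  exact h3 isUnit_one

include hL in
/-- Sections separate two points. -/
theorem exists_sep_pts (hv : Crit k L) {x y : X} (hx : IsClosed ({x} : Set X)) (hy : IsClosed ({y} : Set X))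
    (hne : y ≠ x) :
    ∃ σ : Γ(L, ⊤), x ∉ CohB1.genLocus L (secHom L σ) ∧ y ∈ CohB1.genLocus L (secHom L σ) := by
  let F : Closeds X := ⟨{x, y}, hx.union hy⟩
  have hd : topologicalKrullDim (F : Set X) ≤ 0 := by
    haveI : Finite (F : Set X) := ((Set.finite_singleton y).insert x).to_subtype
    haveI : T1Space (F : Set X) := ⟨fun z => by
      have h : IsClosed ({(z : X)} : Set X) := by
        rcases z.2 with h | h
        · rw [h]; exact hx
        · rw [Set.mem_singleton_iff.1 h]; exact hy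
      have e : ({z} : Set (F : Set X)) = Subtype.val ⁻¹' {(z : X)} := by ext w; exact Subtype.ext_iff
      rw [e]
      exact h.preimage continuous_subtype_val⟩
    exact topologicalKrullDim_zero_of_discreteTopology _
  have hle : Module.finrank k (Coh.HH X (ClSub.quotMod (vI F)) 0) ≤ 2 := by
    rw [h0_quot_finite k hd, Nat.card_coe_set_eq]
    exact (Set.ncard_insert_le x {y}).trans (by rw [Set.ncard_singleton])
  obtain ⟨g, hg⟩ := ParaFLib.exists_stalk_gen hL y
  obtain ⟨σ, h1, h2⟩ := exists_section_mod k hL hv (vI F)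
    (by rw [Scheme.IdealSheafData.coe_support_vanishingIdeal]; exact hd) hle y g
  exact ⟨σ, notMem_genLocus_of_mem hL (stalkIdeal_le_maximal (mem_support_vI.2 (Or.inl rfl))) σ (h2 x hne.symm),
    mem_genLocus_of_sub_mem hL (stalkIdeal_le_maximal (mem_support_vI.2 (Or.inr rfl))) hg σ h1⟩

include hL in
/-- Some section generates at a closed point. -/
theorem exists_genLocus_closed (hv : Crit k L) {x : X} (hx : IsClosed ({x} : Set X)) :
    ∃ s : Coh.structureModule X ⟶ L, x ∈ CohB1.genLocus L s := by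
  let F : Closeds X := ⟨{x}, hx⟩
  have hd : topologicalKrullDim (F : Set X) ≤ 0 := topologicalKrullDim_zero_of_discreteTopology ({x} : Set X)
  have hle : Module.finrank k (Coh.HH X (ClSub.quotMod (vI F)) 0) ≤ 2 := by
    rw [h0_quot_finite k hd, Nat.card_coe_set_eq]
    exact (Set.ncard_singleton x).le.trans one_le_two
  obtain ⟨g, hg⟩ := ParaFLib.exists_stalk_gen hL x
  obtain ⟨σ, h1, -⟩ := exists_section_mod k hL hv (vI F)
    (by rw [Scheme.IdealSheafData.coe_support_vanishingIdeal]; exact hd) hle x g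
  exact ⟨secHom L σ, mem_genLocus_of_sub_mem hL (stalkIdeal_le_maximal (mem_support_vI.2 rfl)) hg σ h1⟩

include hL in
/-- Sections separate tangent vectors, also at singular points. -/
theorem exists_sep_tan (hv : Crit k L) {x : X}
    (hx : IsClosed ({x} : Set X)) {g : L.presheaf.stalk x}
    (hg : Function.Bijective fun r : X.presheaf.stalk x => r • g) {W : Ideal (X.presheaf.stalk x)}
    (hW : IsLocalRing.maximalIdeal (X.presheaf.stalk x) ^ 2 ≤ W) (hW' : W < IsLocalRing.maximalIdeal (X.presheaf.stalk x)) :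
    ∃ (σ : Γ(L, ⊤)) (a : X.presheaf.stalk x), L.presheaf.germ ⊤ x trivial σ = a • g ∧
      a ∈ IsLocalRing.maximalIdeal (X.presheaf.stalk x) ∧ a ∉ W := by
  haveI := EulerIneqLib.isNoetherian_proper (X := X) k
  obtain ⟨V, hWV, hV, hmax⟩ := exists_maximal_sub hW'
  obtain ⟨a, ha, haV⟩ := SetLike.exists_of_lt hV
  let Z := SingRRLib.idealAt V (hW.trans hWV)
  have hst : IntMult.stalkIdeal Z x = V := SingRRLib.stalkIdeal_idealAt V (hW.trans hWV)
  have hd : Module.finrank k (Coh.HH X (ClSub.quotMod Z) 0) ≤ 2 := by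
    refine finrank_quot_le k Z hx (SingRRLib.support_idealAt V _ hx) ![1, a] fun r => ?_
    obtain ⟨c, hc⟩ := exists_const_sub_mem k hx r
    have hsup : V ⊔ Ideal.span {a} = IsLocalRing.maximalIdeal (X.presheaf.stalk x) :=
      hmax _ (lt_of_le_of_ne le_sup_left fun h => haV (h ▸ Submodule.mem_sup_right (Ideal.mem_span_singleton_self a)))
        (sup_le hV.le ((Ideal.span_singleton_le_iff_mem _).2 ha))
    rw [← hsup] at hc
    obtain ⟨w, hw, t, ht, hwt⟩ := Submodule.mem_sup.1 hc
    obtain ⟨b, rfl⟩ := Ideal.mem_span_singleton'.1 ht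
    obtain ⟨c', hc'⟩ := exists_const_sub_mem k hx b
    refine ⟨![c, c'], ?_⟩
    rw [hst, Fin.sum_univ_two]
    simp only [Matrix.cons_val_zero, Matrix.cons_val_one, Matrix.head_cons, mul_one]
    have h2 : (b - X.presheaf.germ ⊤ x trivial (Coh.toGlobal (X ↘ Spec (CommRingCat.of k)) c')) * a ∈ V := by
      refine hWV (hW ?_)
      rw [pow_two]
      exact Ideal.mul_mem_mul hc' ha
    convert add_mem hw h2 using 1
    rw [sub_mul, ← add_sub_assoc, hwt]
    ring
  obtain ⟨σ, ⟨b, hb⟩, -⟩ := exists_section_mod k hL hv Z (CliffCurveLib.dim_mono (SingRRLib.support_idealAt V _ hx) (topologicalKrullDim_zero_of_discreteTopology ({x} : Set X))) hd x (a • g)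
  obtain ⟨r, hr, hrb⟩ := exists_stalkIdeal_smul hg b
  rw [hst] at hr
  refine ⟨σ, r + a, ?_, add_mem (hV.le hr) ha, fun h => haV ?_⟩
  · rw [add_smul, ← hrb, hb, sub_add_cancel]
  · have := sub_mem (hWV h) hr
    rwa [add_sub_cancel_left] at this

end Groth.Agent.SubAdjLib.Sep

namespace Groth.Agent.SubAdjLib.Sep

open Groth.Agent.ParaFLib Groth.Agent.AmpleLib Groth.Agent.RelVALib

variable {K : Type u} [Field K] {X : Scheme.{u}}

/-- Spanning sections of a module of degree above `2g` on an integral curve embed it. -/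
theorem embGen_of_span [IsAlgClosed K] [X.Over (Spec (CommRingCat.of K))] [IsProper (X ↘ Spec (CommRingCat.of K))]
    {L : X.Modules} (hL : PicF.IsInvertible L) (hv : Crit K L) {n : ℕ}
    (s : Fin (n + 1) → (Coh.structureModule X ⟶ L))
    (hspan : ∀ σ : Γ(L, ⊤), ∃ c : Fin (n + 1) → K, σ = lin (X ↘ Spec (CommRingCat.of K)) s c) :
    EmbGen (X ↘ Spec (CommRingCat.of K)) s := by
  classical
  set pX := X ↘ Spec (CommRingCat.of K)
  have hcov : ∀ x, ∃ a, x ∈ CohB1.genLocus L (s a) := by
    intro x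
    haveI := EulerIneqLib.isNoetherian_proper (X := X) K
    obtain ⟨x', hx', hc'⟩ := IsClosed.exists_closed_singleton (isClosed_closure (s := ({x} : Set X))) ⟨x, subset_closure rfl⟩
    obtain ⟨τ, hτ'⟩ := exists_genLocus_closed K hL hv hc'
    have hτ : x ∈ CohB1.genLocus L τ := (specializes_iff_mem_closure.2 hx').mem_open (CohB1.genLocus L τ).2 hτ'
    by_contra hne
    push Not at hne
    obtain ⟨c, hc⟩ := hspan (sec τ)
    obtain ⟨e, he⟩ := exists_stalk_gen hL x
    choose r hr using fun a => he.2 (L.presheaf.germ ⊤ x trivial (sec (s a)))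
    have hrm : ∀ a, r a ∈ IsLocalRing.maximalIdeal (X.presheaf.stalk x) := fun a hu => hne a (by
      rw [mem_genLocus_iff hL, ← hr a, AmpleLib.bijective_smul_iff he]; exact hu)
    have h2 : L.presheaf.germ ⊤ x trivial (sec τ) =
        (∑ a, X.presheaf.germ ⊤ x trivial (ProjUP.toGlobal pX (c a)) * r a) • e := by
      rw [hc, lin, map_sum, Finset.sum_smul]
      exact Finset.sum_congr rfl fun a _ => by rw [germ_smul', mul_smul, ← hr a]
    rw [mem_genLocus_iff hL, h2, AmpleLib.bijective_smul_iff he] at hτ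
    exact (Ideal.sum_mem _ fun a _ => Ideal.mul_mem_left _ _ (hrm a) :
      _ ∈ IsLocalRing.maximalIdeal (X.presheaf.stalk x)) hτ
  obtain ⟨F, hFU, hFg, hFt⟩ := GenMorph.exists_ratioFamily hL s hcov
  let φ : K →+* Γ(X, ⊤) := ProjUP.toGlobal pX
  let f := GenMorph.toProj φ F
  have hf : f ≫ CohB1.ProjSpace.toSpec n K = pX := GenMorph.toProj_toSpec φ F pX rfl
  have hD : ∀ j P, f P ∈ ClImmLib.D (k := K) j ↔ P ∈ F.U j := fun j P => by
    rw [← GenMorph.preimage_basicOpen φ F j]; rfl
  have hcomb : ∀ (c : Fin (n + 1) → K) (j : Fin (n + 1)) (P : X) (hP : f P ∈ ClImmLib.D (k := K) j),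
      ∃ w : X.presheaf.stalk P, (ClImmLib.LF f).presheaf.germ ⊤ P trivial (ClImmLib.comb pX f c) = w • ClImmLib.gen f j P hP ∧
        L.presheaf.germ ⊤ P trivial (lin pX s c) = w • L.presheaf.germ ⊤ P trivial (sec (s j)) := by
    intro c j P hP
    refine ⟨_, ClImmLib.germ_comb hf c j P hP, (germ_lin pX s c j (F.t j) (hFt j) P ((hD j P).1 hP)).trans ?_⟩
    rw [map_sum]
    congr 1
    refine Finset.sum_congr rfl fun a _ => ?_
    rw [map_mul]
    congr 1
    · rw [ClImmLib.cst, RingHom.comp_apply, Scheme.Hom.germ_stalkMap_apply]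
      show X.presheaf.germ ⊤ P trivial (ProjUP.toGlobal pX (c a)) =
        X.presheaf.germ ⊤ P trivial (f.appTop (ProjUP.toGlobal (CohB1.ProjSpace.toSpec n K) (c a)))
      congr 1
      rw [← hf]
      rfl
    · rw [ClImmLib.ρ, Scheme.Hom.germ_stalkMap_apply, Scheme.Hom.app_eq_appLE]
      have h := congrArg (X.presheaf.germ (F.U j) P ((hD j P).1 hP)) (GenMorph.toProj_appLE_ratio φ F j a)
      refine h.symm.trans ?_
      rw [Scheme.Hom.appLE, Scheme.Hom.appLE, ConcreteCategory.comp_apply, ConcreteCategory.comp_apply,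
        TopCat.Presheaf.germ_res_apply, TopCat.Presheaf.germ_res_apply]
      rfl
  have hgenj : ∀ j P, P ∈ F.U j →
      Function.Bijective fun r : X.presheaf.stalk P => r • L.presheaf.germ ⊤ P trivial (sec (s j)) :=
    fun j P h => (mem_genLocus_iff hL).1 ((hFU j).le h)
  haveI : IsClosedImmersion f := by
    refine ClImmLib.isClosedImmersion_of_sep hf (fun P Q hP hQ hne => ?_) fun P hP => ?_
    · obtain ⟨σ, h1, h2⟩ := exists_sep_pts K hL hv hP hQ (Ne.symm hne)
      obtain ⟨c, rfl⟩ := hspan σ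
      refine ⟨c, Or.inl ⟨?_, fun hv => ?_⟩⟩
      · obtain ⟨j, hj⟩ := ClImmLib.exists_mem_D (f P)
        obtain ⟨w, hw1, hw2⟩ := hcomb c j P hj
        rw [hw1, ClImmLib.vanish, smul_sum_mem (ClImmLib.bijective_gen f j P hj)]
        intro hu
        refine h1 ?_
        rw [mem_genLocus_iff hL, sec_secHom, hw2]
        exact (AmpleLib.bijective_smul_iff (hgenj j P ((hD j P).1 hj)) w).2 hu
      · obtain ⟨j, hj⟩ := ClImmLib.exists_mem_D (f Q)
        obtain ⟨w, hw1, hw2⟩ := hcomb c j Q hj
        rw [hw1, ClImmLib.vanish, smul_sum_mem (ClImmLib.bijective_gen f j Q hj)] at hv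
        rw [mem_genLocus_iff hL, sec_secHom, hw2, AmpleLib.bijective_smul_iff (hgenj j Q ((hD j Q).1 hj))] at h2
        exact hv h2
    · haveI := EulerIneqLib.isNoetherian_proper (X := X) K
      obtain ⟨j, hj⟩ := ClImmLib.exists_mem_D (f P)
      have hgen' := ClImmLib.bijective_gen f j P hj
      let N : Submodule (X.presheaf.stalk P) ((ClImmLib.LF f).presheaf.stalk P) :=
        Submodule.span (X.presheaf.stalk P) {v | ∃ c : Fin (n + 1) → K,
          v = (ClImmLib.LF f).presheaf.germ ⊤ P trivial (ClImmLib.comb pX f c) ∧ v ∈ ClImmLib.vanish f P} ⊔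
        (IsLocalRing.maximalIdeal (X.presheaf.stalk P) ^ 2 •
          (⊤ : Submodule (X.presheaf.stalk P) ((ClImmLib.LF f).presheaf.stalk P)))
      let W : Ideal (X.presheaf.stalk P) :=
        N.comap (LinearMap.toSpanSingleton (X.presheaf.stalk P) _ (ClImmLib.gen f j P hj))
      have hW : IsLocalRing.maximalIdeal (X.presheaf.stalk P) ^ 2 ≤ W := fun r hr =>
        Submodule.mem_sup_right (Submodule.smul_mem_smul hr trivial)
      have hWm : W ≤ IsLocalRing.maximalIdeal (X.presheaf.stalk P) := fun r hr => by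
        have hle : N ≤ ClImmLib.vanish f P := sup_le (Submodule.span_le.2 fun v hv => by
            obtain ⟨_, _, hv⟩ := hv
            exact hv)
          (Submodule.smul_mono_left (Ideal.pow_le_self two_ne_zero))
        exact (smul_sum_mem hgen' r).1 (hle hr)
      suffices hWe : IsLocalRing.maximalIdeal (X.presheaf.stalk P) ≤ W by
        refine Submodule.smul_le.2 fun r hr v _ => ?_
        obtain ⟨q, rfl⟩ := hgen'.2 v
        show r • q • ClImmLib.gen f j P hj ∈ N
        rw [smul_smul]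
        exact hWe (Ideal.mul_mem_right q _ hr)
      by_contra hWe
      obtain ⟨σ, a, hσ, ha, haW⟩ := exists_sep_tan K hL hv hP (hgenj j P ((hD j P).1 hj)) hW
        (lt_of_le_not_ge hWm hWe)
      obtain ⟨c, rfl⟩ := hspan σ
      obtain ⟨w, hw1, hw2⟩ := hcomb c j P hj
      obtain rfl : w = a := (hgenj j P ((hD j P).1 hj)).1 (hw2.symm.trans hσ)
      refine haW (Submodule.mem_sup_left (Submodule.subset_span ⟨c, hw1.symm, ?_⟩))
      exact (smul_sum_mem hgen' w).2 ha
  have haff : ∀ i, IsAffineOpen (F.U i) := fun i => by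
    rw [← GenMorph.preimage_basicOpen φ F i]
    exact (AmpleEmb.isAffineOpen_stdOpen n K i).preimage f
  let F' : AmpleEmb.RatioFamily X n :=
    { U := F.U, affine := haff, cover := F.cover, t := F.t, t_self := F.t_self, t_open := F.t_open, t_mul := F.t_mul }
  haveI : IsClosedImmersion (AmpleEmb.toProj φ F') := by
    have : AmpleEmb.toProj φ F' = f := by
      refine (X.openCoverOfIsOpenCover F'.U F'.cover).hom_ext _ _ fun i => ?_
      show (F'.U i).ι ≫ _ = (F.U i).ι ≫ f
      rw [AmpleEmb.ι_toProj, GenMorph.ι_toProj]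
      rfl
    rw [this]; infer_instance
  refine ⟨fun a => (hFU a) ▸ haff a, hcov, fun a => ?_⟩
  suffices key : ∀ U : X.Opens, U = F.U a → ∀ t : Fin (n + 1) → Γ(X, U), (∀ b, IsRatio (s a) (s b) (t b)) →
      Function.Surjective (MvPolynomial.eval₂Hom (pX.appLE ⊤ U (fun _ _ => trivial)).hom t) from key _ (hFU a).symm
  rintro U rfl t ht
  have htF : t = F.t a := funext fun b => (hFg a _ le_rfl).1 (by
    simp only [ParaFLib.res_self]
    exact (ht b).trans (hFt a b).symm)
  subst htF
  intro y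
  obtain ⟨p, hp⟩ := AmpleEmb.genAt_of_isClosedImmersion φ F' a y
  refine ⟨MvPolynomial.map (Scheme.ΓSpecIso (CommRingCat.of K)).inv.hom p, ?_⟩
  rw [MvPolynomial.eval₂Hom_map_hom]
  exact hp

/-- The criterion gives a closed immersion in a projective space. -/
theorem exists_closedImmersion (k : Type u) [Field k] [IsAlgClosed k] {X : Scheme.{u}} [X.Over (Spec (CommRingCat.of k))]
    [IsProper (X ↘ Spec (CommRingCat.of k))] {L : X.Modules} (hL : PicF.IsInvertible L) (hv : Crit k L) :
    ∃ (n : ℕ) (i : X ⟶ CohB1.ProjSpace n k), IsClosedImmersion i ∧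
      i ≫ CohB1.ProjSpace.toSpec n k = X ↘ (Spec (CommRingCat.of k)) ∧
      Nonempty ((Scheme.Modules.pullback i).obj (Twist.twistProjSpace n k 1) ≅ L) := by
  haveI := EulerIneqLib.isNoetherian_proper (X := X) k
  haveI := EulerIneqLib.finite_HH (k := k) (CurveLib.isCoh_of_isInvertible hL) 0
  let b := Module.finBasis k (Coh.HH X L 0)
  let s : Fin (Module.finrank k (Coh.HH X L 0) + 1) → (Coh.structureModule X ⟶ L) :=
    Fin.snoc (fun i => DCohLib.secHom L (CurveLib.secOf L (b i))) 0
  refine ⟨_, H1ZeroLib.exists_closedImmersion_of_embGen k _ hL s (embGen_of_span hL hv s fun σ => ?_)⟩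
  refine ⟨Fin.snoc (fun i => b.repr ((CurveLib.secOf L).symm σ) i) 0, ?_⟩
  rw [lin, Fin.sum_univ_castSucc]
  simp only [s, Fin.snoc_castSucc, Fin.snoc_last, map_zero, zero_smul, add_zero, AmpleLib.sec_secHom]
  conv_lhs => rw [← (CurveLib.secOf L).apply_symm_apply σ, ← b.sum_repr ((CurveLib.secOf L).symm σ), map_sum]
  refine Finset.sum_congr rfl fun i _ => ?_
  rw [CurveLib.secOf_smul]
  rfl

end Groth.Agent.SubAdjLib.Sep
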