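import Groth.Agent.SubAdjLib.Stable

/-!
# Intersection numbers from the dual graph
-/

set_option autoImplicit false
set_option backward.isDefEq.respectTransparency false
set_option backward.isDefEq.respectTransparency.types false
set_option linter.style.haveILetI false
set_option maxHeartbeats 1000000

universe u v

open CategoryTheory CategoryTheory.Limits AlgebraicGeometry TopologicalSpace Opposite
open Groth.Agent.PullbackMod Groth.Agent.DCohLib Groth.Agent.CurveLib Groth.Agent.H1ZeroLib
open Groth.Agent.CliffCurveLib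

noncomputable section

namespace Groth.Agent.SubAdjLib

variable {X : Scheme.{u}}

/-- Another component lies in the closure of the complement of the first. -/
theorem subset_closure_compl {C C' : Set X} (hC : C ∈ irreducibleComponents (X : Type u))
    (hC' : C' ∈ irreducibleComponents (X : Type u)) (hne : C' ≠ C) : C' ⊆ closure Cᶜ := by
  refine (subset_closure_inter_of_isPreirreducible_of_isOpen (U := Cᶜ) hC'.1.2
    (isClosed_of_mem_irreducibleComponents C hC).isOpen_compl ?_).trans (closure_mono Set.inter_subset_right)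
  by_contra hne'
  refine hne (le_antisymm ?_ (hC'.2 hC.1 ?_))
  · intro y hy
    exact by_contra fun hyC => hne' ⟨y, hy, hyC⟩
  · intro y hy
    exact by_contra fun hyC => hne' ⟨y, hy, hyC⟩

/-- A point on the boundary of a component lies on another one. -/
theorem exists_other_component [NoetherianSpace X] {C : Set X} (hC : C ∈ irreducibleComponents (X : Type u)) {x : X}
    (hx : x ∈ closure Cᶜ) : ∃ C' ∈ irreducibleComponents (X : Type u), C' ≠ C ∧ x ∈ C' := by
  obtain ⟨ξ, hξ, hξx, -⟩ := exists_generic_of_mem_closure (isClosed_of_mem_irreducibleComponents C hC) hx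
  exact ⟨irreducibleComponent ξ, irreducibleComponent_mem_irreducibleComponents ξ,
    fun e => hξ (e ▸ mem_irreducibleComponent), hξx.mem_closed isClosed_irreducibleComponent mem_irreducibleComponent⟩

variable (k : Type u) [Field k] [X.Over (Spec (CommRingCat.of k))] [IsProper (X ↘ Spec (CommRingCat.of k))]

include k in
/-- A smooth point lies on one component. -/
theorem component_unique_of_smooth {x : X}
    (hs : ∃ U : X.Opens, x ∈ U ∧ Smooth (U.ι ≫ (X ↘ Spec (CommRingCat.of k))))
    {C C' : Set X} (hC : C ∈ irreducibleComponents (X : Type u)) (hC' : C' ∈ irreducibleComponents (X : Type u))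
    (hx : x ∈ C) (hx' : x ∈ C') : C = C' := by
  haveI := EulerIneqLib.isNoetherian_proper (X := X) k
  haveI := NodePtLib.regular_of_smooth_nhd hs
  obtain ⟨d, hd⟩ : ∃ d : ℕ, ringKrullDim (X.presheaf.stalk x) = d :=
    ⟨_, (IsRegularLocalRing.spanFinrank_maximalIdeal (R := X.presheaf.stalk x)).symm⟩
  haveI : IsDomain (X.presheaf.stalk x) := RegLocal.isDomain_aux d _ hd
  obtain ⟨ξ, hξ⟩ := QuasiSober.sober hC.1 (isClosed_of_mem_irreducibleComponents C hC)
  obtain ⟨η, hη⟩ := QuasiSober.sober hC'.1 (isClosed_of_mem_irreducibleComponents C' hC')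
  obtain rfl := eq_of_isDomain_stalk (hξ.specializes hx) (hη.specializes hx')
    (fun w hw => eq_of_specializes_generic hC hξ hw) fun w hw => eq_of_specializes_generic hC' hη hw
  exact hξ.def.symm.trans hη.def

include k in
/-- Points at which the structure map is formally smooth have smooth neighbourhoods. -/
theorem smooth_nhd_of_notMem_nonsmoothPts {x : X} (hx : x ∉ DualGr.nonsmoothPts (X ↘ Spec (CommRingCat.of k))) :
    ∃ U : X.Opens, x ∈ U ∧ Smooth (U.ι ≫ (X ↘ Spec (CommRingCat.of k))) := by
  let f := X ↘ Spec (CommRingCat.of k)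
  haveI : LocallyOfFinitePresentation f := inferInstance
  refine ⟨f.smoothLocus, not_not.1 hx, ?_⟩
  rw [← Scheme.Hom.smoothLocus_eq_top_iff, ← Scheme.Hom.preimage_smoothLocus_eq]
  exact Scheme.Opens.ι_preimage_self _

include k in
/-- The non-loop edges at a vertex are the points on the boundary of its component. -/
theorem card_edges {V : Type v} {E : Type v} {cv : V → Set X} {ce : E → X} {ends : E → V × V}
    (hΓ : DualGr.IsDualGraph (X ↘ (Spec (CommRingCat.of k))) cv ce ends) (v : V) :
    Nat.card {e : E // (ends e).1 ≠ (ends e).2 ∧ ((ends e).1 = v ∨ (ends e).2 = v)} =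
      Nat.card (cv v ∩ closure (cv v)ᶜ : Set X) := by
  haveI := EulerIneqLib.isNoetherian_proper (X := X) k
  have hmem : ∀ e : E, (ends e).1 ≠ (ends e).2 → ((ends e).1 = v ∨ (ends e).2 = v) →
      ce e ∈ cv v ∩ closure (cv v)ᶜ := by
    intro e hne hev
    refine ⟨(hΓ.incidence e v).1 hev, ?_⟩
    obtain ⟨w, hw, hwv⟩ : ∃ w, ((ends e).1 = w ∨ (ends e).2 = w) ∧ w ≠ v := by
      rcases hev with h | h
      · exact ⟨(ends e).2, Or.inr rfl, fun hh => hne (h.trans hh.symm)⟩
      · exact ⟨(ends e).1, Or.inl rfl, fun hh => hne (hh.trans h.symm)⟩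
    exact subset_closure_compl (hΓ.comp_mem v) (hΓ.comp_mem w) (fun hh => hwv (hΓ.comp_injective hh))
      ((hΓ.incidence e w).1 hw)
  refine Nat.card_congr (Equiv.ofBijective (fun e => ⟨ce e.1, hmem e.1 e.2.1 e.2.2⟩) ⟨fun a b hab =>
    Subtype.ext (hΓ.pt_injective (congrArg Subtype.val hab :)), fun y => ?_⟩)
  obtain ⟨C', hC', hne, hyC'⟩ := exists_other_component (hΓ.comp_mem v) y.2.2
  obtain ⟨w, rfl⟩ := hΓ.comp_surjective C' hC'
  obtain ⟨e, he⟩ := hΓ.pt_surjective (y : X) (by_contra fun hns =>
    hne (component_unique_of_smooth k (smooth_nhd_of_notMem_nonsmoothPts k hns) hC' (hΓ.comp_mem v) hyC' y.2.1))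
  have hv := (hΓ.incidence e v).2 (by rw [he]; exact y.2.1)
  have hw := (hΓ.incidence e w).2 (by rw [he]; exact hyC')
  have hwv : w ≠ v := fun hh => hne (by rw [hh])
  refine ⟨⟨e, fun hh => hwv ?_, hv⟩, Subtype.ext he⟩
  rcases hv with h | h <;> rcases hw with h' | h'
  · exact h'.symm.trans h
  · exact h'.symm.trans (hh.symm.trans h)
  · exact h'.symm.trans (hh.trans h)
  · exact h'.symm.trans h

end Groth.Agent.SubAdjLib
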