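import Groth.Agent.FibreDualLib.CM
import Groth.Agent.LocDimBC.Scheme
import Groth.Agent.DCohMore.DescFPPF
import Groth.Agent.DCohMore.ProjUnit
import Groth.Agent.S3604
import Groth.Agent.QGorLib.FlatBC
import Groth.Agent.CurveFF.BC

/-!
# The dualizing sheaf under flat base change, total dimensions bounded
-/

set_option autoImplicit false
set_option linter.style.haveILetI false
set_option backward.isDefEq.respectTransparency false
set_option maxHeartbeats 1600000

universe u

open CategoryTheory CategoryTheory.Limits AlgebraicGeometry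
open Groth.Agent.DCohLib Groth.Agent.DCohMore Groth.Agent.TwistShriek Groth.Agent.CohBase Groth.Agent.QGorLib

attribute [local instance] HasDerivedCategory.standard

noncomputable section

namespace Groth.Agent.SubAdjLib

/-- The dualizing sheaf pulls back along a flat change of the base, dimensions bounded by `d`. -/
theorem isDualizingSheaf_pullback_le {A : Type u} [CommRing A] [IsNoetherianRing A] {Y : Scheme.{u}}
    [Y.Over (Spec (CommRingCat.of A))] [IsProper (Y ↘ Spec (CommRingCat.of A))] (d : ℕ)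
    (hd : topologicalKrullDim Y ≤ (d : WithBot ℕ∞)) (ω : Y.Modules) (hω : RelCanon.IsDualizingSheaf A Y d ω)
    {B : Type u} [CommRing B] [IsNoetherianRing B] {φ : A →+* B} (hφ : φ.Flat) {Y' : Scheme.{u}}
    [Y'.Over (Spec (CommRingCat.of B))] (hd' : topologicalKrullDim Y' ≤ (d : WithBot ℕ∞)) {p : Y' ⟶ Y}
    (hp : IsPullback p (Y' ↘ Spec (CommRingCat.of B)) (Y ↘ Spec (CommRingCat.of A))
      (Spec.map (CommRingCat.ofHom φ))) :
    RelCanon.IsDualizingSheaf B Y' d ((Scheme.Modules.pullback p).obj ω) := by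
  let f := Y ↘ Spec (CommRingCat.of A)
  let f' := Y' ↘ Spec (CommRingCat.of B)
  let g := Spec.map (CommRingCat.ofHom φ)
  let S := Spec (CommRingCat.of A)
  let T := Spec (CommRingCat.of B)
  haveI : ∀ (R : CommRingCat.{u}), PreservesFiniteLimits (tilde.functor R) := fun R =>
    TildeD.preservesFiniteLimits_tilde
  haveI : IsNoetherianRing (CommRingCat.of A) := inferInstanceAs (IsNoetherianRing A)
  haveI : IsNoetherianRing (CommRingCat.of B) := inferInstanceAs (IsNoetherianRing B)
  haveI : Flat g := HasRingHomProperty.Spec_iff.2 hφ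
  haveI : IsProper f' := MorphismProperty.of_isPullback (P := @IsProper) hp ‹IsProper f›
  haveI : Flat p := MorphismProperty.of_isPullback (P := @Flat) hp.flip ‹Flat g›
  haveI : IsLocallyNoetherian Y := LocallyOfFiniteType.isLocallyNoetherian f
  haveI : CompactSpace Y := QuasiCompact.compactSpace_of_compactSpace f
  haveI : IsNoetherian Y := {}
  haveI : IsLocallyNoetherian Y' := LocallyOfFiniteType.isLocallyNoetherian f'
  haveI : CompactSpace Y' := QuasiCompact.compactSpace_of_compactSpace f'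
  haveI : IsNoetherian Y' := {}
  have hfib : ∀ t, topologicalKrullDim ↥(f.fiber t) ≤ (d : WithBot ℕ∞) := fun t =>
    ((f.fiberHomeo t).isEmbedding.isInducing.topologicalKrullDim_le).trans ((topologicalKrullDim_subspace_le _ _).trans hd)
  have hfib' : ∀ t, topologicalKrullDim ↥(f'.fiber t) ≤ (d : WithBot ℕ∞) := fun t =>
    ((f'.fiberHomeo t).isEmbedding.isInducing.topologicalKrullDim_le).trans ((topologicalKrullDim_subspace_le _ _).trans hd')
  haveI := BC.hasRpush f; haveI := BC.hasRpush f'; haveI := BC.hasRpush g; haveI := BC.hasRpush p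
  haveI := hasLpull g; haveI := hasLpull p
  have h : DCoh.RpushPreservesQCoh f := rpushQC f
  have h' : DCoh.RpushPreservesQCoh f' := rpushQC f'
  haveI := isLeftAdjoint_rpushQ' f; haveI := isLeftAdjoint_rpushQ' f'
  let a := (DCoh.RpushQ f h).rightAdjoint
  let adj : DCoh.RpushQ f h ⊣ a := Adjunction.ofIsLeftAdjoint (DCoh.RpushQ f h)
  let a' := (DCoh.RpushQ f' h').rightAdjoint
  let adj' : DCoh.RpushQ f' h' ⊣ a' := Adjunction.ofIsLeftAdjoint (DCoh.RpushQ f' h')
  let O : DCoh.DQCoh S := oQ S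
  let O' : DCoh.DQCoh T := oQ T
  haveI : O.obj.IsGE 0 := inferInstanceAs ((DCoh.inD S (Coh.structureModule S)).IsGE 0)
  haveI : O'.obj.IsGE 0 := inferInstanceAs ((DCoh.inD T (Coh.structureModule T)).IsGE 0)
  have hGE : (a.obj O).obj.IsGE (-(d : ℤ)) := by
    simpa using isGE_rightAdjoint_of_fibreDim f d hfib h a adj O 0 ‹_›
  have hGE' : (a'.obj O').obj.IsGE (-(d : ℤ)) := by
    simpa using isGE_rightAdjoint_of_fibreDim f' d hfib' h' a' adj' O' 0 ‹_›
  obtain ⟨tr₀, htr₀⟩ := exists_isRDualOver_adjoint A Y h a adj O (Iso.refl _) d hGE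
    (fun F hF j hj => by
      haveI := hF
      obtain ⟨q, rfl⟩ : ∃ q, j = q + 1 := ⟨j - 1, by omega⟩
      exact subsingleton_HH _ _ (FibreVanishQC.subsingleton_HU_affine f d hfib F q (by omega)))
    (Iso.refl _)
  obtain ⟨tr, htr⟩ := hω
  obtain ⟨e₀⟩ := nonempty_iso_of_isRDualOver_ring A htr₀ htr
  obtain ⟨e, hξ, hbc⟩ := S3604.result Y S Y' T f g f' p hp h h' (rpushQC g) (rpushQC p) a a' adj adj'
    (lpullQCoh g) (lpullQCoh p) (adjQ g (rpushQC g)) (adjQ p (rpushQC p))
  haveI := hbc O 0 fun i hi => DerivedCategory.isZero_of_isGE O.obj 0 i hi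
  let b := (ObjectProperty.ι _).mapIso
    (asIso (Dual3.bcMap adj adj' e (adjQ g (rpushQC g)) (adjQ p (rpushQC p)) O (hξ _)))
  obtain ⟨u⟩ := DCohMore.TwistFam.nonempty_lpull_structure g
  let uQ : (Dual3.LpullQ g (lpullQCoh g)).obj O ≅ O' := (DCoh.IsQCohD (X := T)).isoMk u
  obtain ⟨t⟩ := nonempty_HD_lpull_flat p (a.obj O).obj (-(d : ℤ))
  let i₂ : DCoh.HD (a'.obj O').obj (-(d : ℤ)) ≅ (Scheme.Modules.pullback p).obj ω :=
    (DerivedCategory.homologyFunctor Y'.Modules (-(d : ℤ))).mapIso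
      (((ObjectProperty.ι _).mapIso (a'.mapIso uQ)).symm ≪≫ b.symm) ≪≫ t.symm ≪≫
      (Scheme.Modules.pullback p).mapIso e₀
  exact exists_isRDualOver_adjoint B Y' h' a' adj' O' (Iso.refl _) d hGE'
    (fun F hF j hj => by
      haveI := hF
      obtain ⟨q, rfl⟩ : ∃ q, j = q + 1 := ⟨j - 1, by omega⟩
      exact subsingleton_HH _ _ (FibreVanishQC.subsingleton_HU_affine f' d hfib' F q (by omega)))
    i₂

/-- The dualizing pair of a curve after extending the field. -/
theorem exists_pair_bc (k : Type u) [Field k] {X : Scheme.{u}} [X.Over (Spec (CommRingCat.of k))]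
    [IsProper (X ↘ Spec (CommRingCat.of k))] (hdim : topologicalKrullDim X ≤ (1 : ℕ))
    {ω : X.Modules} {tr : Coh.HH X ω 1 →ₗ[k] k} (h : Canon.IsRDualOver k X 1 ω tr)
    (K : Type u) [Field K] [Algebra k K] :
    ∃ tr' : Coh.HH (Curv2.bc k X K) (ShBCLib.bcPull k K ω) 1 →ₗ[K] K,
      Canon.IsRDualOver K (Curv2.bc k X K) 1 (ShBCLib.bcPull k K ω) tr' :=
  isDualizingSheaf_pullback_le 1 hdim ω ⟨tr, h⟩ (RingHom.flat_algebraMap_iff.2 inferInstance)
    ((CurveFF.dim_bc k X K).trans_le hdim) (IsPullback.of_hasPullback _ _)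

end Groth.Agent.SubAdjLib
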