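import Groth.Agent.SubAdjLib.Sep
import Groth.Agent.SingRRLib.Final
import Groth.Agent.CurveFF.BC

/-!
# The separation criterion after extending to an algebraic closure gives an embedding
-/

set_option autoImplicit false
set_option backward.isDefEq.respectTransparency false
set_option backward.isDefEq.respectTransparency.types false
set_option linter.style.haveILetI false
set_option maxHeartbeats 1000000

universe u

open CategoryTheory CategoryTheory.Limits AlgebraicGeometry TopologicalSpace Opposite
open Groth.Agent.PullbackMod Groth.Agent.DCohLib Groth.Agent.CurveLib Groth.Agent.SingRRLib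

noncomputable section

namespace Groth.Agent.SubAdjLib.Sep

/-- A module without `H¹` satisfying the criterion over an algebraic closure is very ample. -/
theorem exists_closedImmersion_of_bc (k : Type u) [Field k] {X : Scheme.{u}} [X.Over (Spec (CommRingCat.of k))]
    [IsProper (X ↘ (Spec (CommRingCat.of k)))] {L : X.Modules} (hL : PicF.IsInvertible L)
    (h1 : Subsingleton (Coh.HH X L 1))
    (hv : Crit (AlgebraicClosure k) (ShBCLib.bcPull k (AlgebraicClosure k) L)) :
    ∃ (n : ℕ) (i : X ⟶ CohB1.ProjSpace n k), IsClosedImmersion i ∧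
      i ≫ CohB1.ProjSpace.toSpec n k = X ↘ (Spec (CommRingCat.of k)) ∧
      Nonempty ((Scheme.Modules.pullback i).obj (Twist.twistProjSpace n k 1) ≅ L) := by
  let pX := X ↘ Spec (CommRingCat.of k)
  haveI : Subsingleton ↥(Spec (CommRingCat.of k)) := inferInstanceAs (Subsingleton (PrimeSpectrum k))
  haveI := EulerIneqLib.isNoetherian_proper (X := X) k
  haveI := InvExt.isQCoh_of_isInvertible hL
  haveI : LocallyOfFinitePresentation pX := inferInstance
  haveI : Flat pX := inferInstance
  let s : ↥(Spec (CommRingCat.of k)) := IsLocalRing.closedPoint k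
  have h1' : Subsingleton (CohIII.fiberH pX L s 1) := by
    haveI : Surjective ((Spec (CommRingCat.of k)).fromSpecResidueField s) :=
      ⟨fun z => ⟨IsLocalRing.closedPoint _, Subsingleton.elim _ _⟩⟩
    haveI : IsClosedImmersion ((Spec (CommRingCat.of k)).fromSpecResidueField s) :=
      IsClosedImmersion.of_isPreimmersion _ (by
        rw [Set.range_eq_univ.2 ((Spec (CommRingCat.of k)).fromSpecResidueField s).surjective]
        exact isClosed_univ)
    haveI : IsIso ((Spec (CommRingCat.of k)).fromSpecResidueField s) := isIso_of_isClosedImmersion_of_surjective _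
    haveI : IsIso (pX.fiberι s) := inferInstanceAs (IsIso (pullback.fst pX _))
    exact S4471.subsingleton_HH_transport pX (pX.fiberι s) L 1 h1
  let K := AlgebraicClosure k
  let ψ : Spec (CommRingCat.of K) ⟶ Spec (CommRingCat.of k) := Spec.map (CommRingCat.ofHom (algebraMap k K))
  have h : IsPullback (Curv2.bcFst k X K) (Curv2.bc k X K ↘ Spec (CommRingCat.of K)) pX ψ :=
    IsPullback.of_hasPullback pX ψ
  have hpt : ∀ ζ, ψ ζ = s := fun ζ => Subsingleton.elim _ _
  obtain ⟨V, hsV, le, n, τ, hτ⟩ := RelVALib.exists_spanning_lift pX hL s h1' ψ hpt h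
  obtain ⟨U, -, hsU, hva⟩ := RelVALib.exists_affine_nhd_veryAmple pX hL hsV τ ψ hpt h le
    (embGen_of_span (AmpleLib.isInvertible_pullback _ hL) hv _ hτ)
  exact exists_closedImmersion_projSpace k pX U
    (eq_top_iff.2 fun z _ => (Subsingleton.elim s z) ▸ hsU) hva

end Groth.Agent.SubAdjLib.Sep
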