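import Groth.Agent.TwistShriek.GlobGen
import Groth.Agent.TwistShriek.CurveConn
import Groth.Agent.DualCxLib.GorSchMain
import Groth.Agent.NodePtLib.Gor
import Groth.Agent.TildeD.QCohPull

/-!
# The dualizing module of a Gorenstein curve is invertible
-/

set_option autoImplicit false
set_option backward.isDefEq.respectTransparency false
set_option backward.isDefEq.respectTransparency.types false
set_option linter.style.haveILetI false
set_option maxHeartbeats 1000000

universe u

open CategoryTheory CategoryTheory.Limits AlgebraicGeometry TopologicalSpace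
open Groth.Agent.DCohLib Groth.Agent.TwistShriek

attribute [local instance] HasDerivedCategory.standard

noncomputable section

namespace Groth.Agent.SubAdjLib

variable {k : Type u} [Field k] {X : Scheme.{u}} [X.Over (Spec (CommRingCat.of k))]
  [IsProper (X ↘ Spec (CommRingCat.of k))]

/-- An open set of a curve without isolated points is not finite. -/
theorem not_dim_le_zero (hc : ∀ Z ∈ irreducibleComponents (X : Type u), topologicalKrullDim Z = 1)
    {U : X.Opens} {x : X} (hx : x ∈ U) {C : Set X} (hC : IsClosed C) (hUC : (U : Set X) ⊆ C) :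
    ¬ topologicalKrullDim C ≤ 0 := fun hd => by
  obtain ⟨Z, hZ, hxZ⟩ := exists_mem_irreducibleComponents_subset_of_isIrreducible {x} isIrreducible_singleton
  obtain ⟨ξ, hξ⟩ := QuasiSober.sober hZ.1 (isClosed_of_mem_irreducibleComponents Z hZ)
  have hξU : ξ ∈ U := (hξ.specializes (hxZ rfl)).mem_open U.isOpen hx
  have hZξ : Z = {ξ} := hξ.def.symm.trans (CurveLib.closure_singleton_eq hC hd (hUC hξU))
  have h0 : topologicalKrullDim Z ≤ 0 :=
    ((Topology.IsEmbedding.inclusion (show Z ⊆ C by rw [hZξ]; exact Set.singleton_subset_iff.2 (hUC hξU))).isInducing.topologicalKrullDim_le).trans hd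
  rw [hc Z hZ] at h0
  exact absurd h0 (by decide)

variable [DCoh.HasRpush (X ↘ Spec (CommRingCat.of k))] (h : DCoh.RpushPreservesQCoh (X ↘ Spec (CommRingCat.of k)))
  [DCoh.HasShriek (X ↘ Spec (CommRingCat.of k)) h] (OY : DCoh.DQCoh (Spec (CommRingCat.of k)))
  (hOY : Nonempty (OY.obj ≅ DCoh.inD (Spec (CommRingCat.of k)) (Coh.structureModule (Spec (CommRingCat.of k)))))

include hOY in
theorem isInvertible_dualizingMod (hdim : topologicalKrullDim X = 1)
    (hc : ∀ Z ∈ irreducibleComponents (X : Type u), topologicalKrullDim Z = 1)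
    (hG : ∀ x : X, LocCoh.IsGorensteinLocalRing (X.presheaf.stalk x)) :
    PicF.IsInvertible (DCoh.dualizingMod (X ↘ Spec (CommRingCat.of k)) h OY 1) := by
  let f := X ↘ (Spec (CommRingCat.of k))
  haveI : ∀ R : CommRingCat.{u}, PreservesFiniteLimits (tilde.functor R) :=
    fun R => TildeD.preservesFiniteLimits_tilde
  haveI : IsLocallyNoetherian X := LocallyOfFiniteType.isLocallyNoetherian f
  haveI : CompactSpace X := QuasiCompact.compactSpace_of_compactSpace f
  obtain ⟨eO⟩ := hOY
  obtain ⟨hK, hcoh, hN⟩ := proper_local_setup f h (DCoh.shriek f h) (DCoh.shriekAdj f h)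
    (isDualizing_inD_of_isField (Field.toIsField k))
    (fun i hi => subsingleton_HK_inD_of_isField (Field.toIsField k) _ hi)
    OY (eO ≪≫ (DualCxLib.tildeInD (CommRingCat.of k)).symm)
  have hd1 : topologicalKrullDim X = ((1 : ℕ) : WithBot ℕ∞) := by rw [hdim, Nat.cast_one]
  obtain ⟨h1, h2⟩ := amplitude_of_normalizedAt _ hcoh hN 1 hd1
  intro x
  obtain ⟨U, n, hxU, ⟨e⟩⟩ := DualCxLib.isInvertibleD_of_gorenstein hK hG x
  let K := ((DCoh.shriek f h).obj OY).obj
  let O := Coh.structureModule (↑U : Scheme.{u})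
  let eH : (DCoh.HD K (-n)).restrict U.ι ≅ O :=
    (TildeD.restrictHDIso U.ι (-n) K).symm ≪≫ (DerivedCategory.homologyFunctor _ (-n)).mapIso e ≪≫
      ((DerivedCategory.homologyFunctor (↑U : Scheme.{u}).Modules 0).shiftIso n (-n) 0 (by ring)).app _ ≪≫
      (DerivedCategory.singleFunctorCompHomologyFunctorIso (↑U : Scheme.{u}).Modules 0).app _
  have hne : ∀ y : X, y ∈ U → Nontrivial ((DCoh.HD K (-n)).presheaf.stalk y) := fun y hy => by
    let y' : (↑U : Scheme.{u}) := ⟨y, hy⟩
    let g : _ ≅ O.presheaf.stalk y' := ((Scheme.Modules.restrictStalkNatIso U.ι y').app (DCoh.HD K (-n))).symm ≪≫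
      ((Scheme.Modules.toPresheaf (↑U : Scheme.{u}) ⋙ TopCat.Presheaf.stalkFunctor AddCommGrpCat.{u} y').mapIso eH :)
    haveI : Nontrivial ((Coh.structureModule (↑U : Scheme.{u})).presheaf.stalk ⟨y, hy⟩) :=
      (Equiv.ofBijective _ (ParaFLib.bijective_oneG (X := (↑U : Scheme.{u})) ⟨y, hy⟩)).symm.nontrivial
    exact g.addCommGroupIsoToAddEquiv.toEquiv.nontrivial
  by_cases hn : n = 1
  · subst hn
    exact ⟨U, hxU, ⟨eH⟩⟩
  exfalso
  haveI := hne x hxU
  by_cases h0 : n = 0
  · subst h0
    have h3 := h2 0 0 (by norm_num)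
    haveI := (hcoh 0).1
    have e0 : {y : X | Nontrivial ((DCoh.HD K (0 : ℤ)).presheaf.stalk y)} = CohB1.support (DCoh.HD K (0 : ℤ)) :=
      Set.ext fun y => not_subsingleton_iff_nontrivial.symm
    rw [e0] at h3
    refine not_dim_le_zero hc hxU (PullbackMod.isClosed_support_of_isFT (hcoh 0).2) (fun y hy => ?_)
      (by simpa using h3)
    rw [← e0]
    simpa using hne y hy
  · haveI : Subsingleton ((DCoh.HD K (-n)).presheaf.stalk x) :=
      DCohLib.subsingleton_stalk_of_isZero (h1 (-n) (by omega)) x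
    exact not_nontrivial _ ‹Nontrivial _›

include hOY in
theorem isInvertible_dualizingMod_nodal (hdim : topologicalKrullDim X = 1) [ConnectedSpace X]
    (hX : Curv2.AtWorstNodal k X) :
    PicF.IsInvertible (DCoh.dualizingMod (X ↘ Spec (CommRingCat.of k)) h OY 1) :=
  isInvertible_dualizingMod h OY hOY hdim (fun _ hZ => dim_irreducibleComponent k hdim hZ)
    fun x => NodePtLib.gorenstein_stalk (fun _ hZ => dim_irreducibleComponent k hdim hZ) hX x

end Groth.Agent.SubAdjLib
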