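import Groth.Agent.SubAdjLib.Field
import Groth.Agent.SubAdjLib.GorOmega
import Groth.Agent.DevLib.Closed

/-!
# Degrees of the dualizing module on the subcurves of a nodal curve
-/

set_option autoImplicit false
set_option backward.isDefEq.respectTransparency false
set_option backward.isDefEq.respectTransparency.types false
set_option linter.style.haveILetI false
set_option maxHeartbeats 1000000

universe u

open CategoryTheory CategoryTheory.Limits AlgebraicGeometry TopologicalSpace Opposite
open Groth.Agent.PullbackMod Groth.Agent.DCohLib Groth.Agent.CurveLib Groth.Agent.H1ZeroLib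
open Groth.Agent.CliffCurveLib

attribute [local instance] HasDerivedCategory.standard

noncomputable section

namespace Groth.Agent.SubAdjLib

variable {X : Scheme.{u}}

/-- An irreducible component, as a closed subset. -/
abbrev compo {C : Set X} (hC : C ∈ irreducibleComponents (X : Type u)) : Closeds X :=
  ⟨C, isClosed_of_mem_irreducibleComponents C hC⟩

theorem ker_compl_eq [IsNoetherian X] [IsReduced X] {C : Set X} (hC : C ∈ irreducibleComponents (X : Type u)) :
    (Scheme.Opens.ι (⟨Cᶜ, (isClosed_of_mem_irreducibleComponents C hC).isOpen_compl⟩ : X.Opens)).ker =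
      vI (compl (compo hC)) :=
  ker_opens_eq _

/-- The conditions of a rational tail, for any second ideal. -/
abbrev TailCond (I K : X.IdealSheafData) : Prop :=
  (K.support : Set X).Nonempty ∧
    Nonempty (I ⊔ K).subscheme ∧ Subsingleton (I ⊔ K).subscheme ∧ IsReduced (I ⊔ K).subscheme ∧
    (∀ c : (I ⊔ K).subscheme, Function.Bijective
      (I.subscheme.evaluation ⊤ ((Scheme.IdealSheafData.inclusion (le_sup_left : I ≤ I ⊔ K)).base c) trivial)) ∧
    Subsingleton (Coh.HH I.subscheme (Coh.structureModule I.subscheme) 1)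

theorem isRationalTail_iff [IsNoetherian X] [IsReduced X] {C : Set X} (hC : C ∈ irreducibleComponents (X : Type u)) :
    Curv2.IsRationalTail X C hC ↔ TailCond (vI (compo hC)) (vI (compl (compo hC))) :=
  Iff.of_eq (Eq.trans (by rfl) (congrArg (TailCond (vI (compo hC))) (ker_compl_eq hC)))

theorem ne_top_iff_support_nonempty {S : Closeds X} :
    ((vI (compl S)).support : Set X).Nonempty ↔ S ≠ ⊤ := by
  rw [support_vanishingIdeal']
  constructor
  · rintro ⟨x, hx⟩ rfl
    have hx' : x ∈ closure (((⊤ : Closeds X) : Set X)ᶜ) := hx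
    rw [Closeds.coe_top, Set.compl_univ, closure_empty] at hx'
    exact hx'
  · intro hne
    by_contra h
    refine hne (SetLike.coe_injective ?_)
    rw [Closeds.coe_top]
    exact Set.eq_univ_of_forall fun z => by_contra fun hz => h ⟨z, subset_closure hz⟩

variable (k : Type u) [Field k] [X.Over (Spec (CommRingCat.of k))] [IsProper (X ↘ Spec (CommRingCat.of k))]

include k in
theorem nodal_setup (hdim : topologicalKrullDim X = 1)
    (h0 : Module.finrank k (Coh.HH X (Coh.structureModule X) 0) = 1) (hX : Curv2.AtWorstNodal k X) :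
    ConnectedSpace X ∧ IsReduced X := by
  haveI : Nonempty X := by
    by_contra h
    haveI := not_nonempty_iff.1 h
    haveI : IsEmpty (IrreducibleCloseds X) := ⟨fun T => h ⟨T.isIrreducible.1.choose⟩⟩
    have e : topologicalKrullDim X = ⊥ := Order.krullDim_eq_bot
    rw [e] at hdim
    exact WithBot.bot_ne_one hdim
  haveI := TwistShriek.connectedSpace_of_h0 k h0
  exact ⟨inferInstance, NodePtLib.isReduced_of_atWorstNodal
    (fun _ hZ => TwistShriek.dim_irreducibleComponent k hdim hZ) hX⟩

include k in
theorem isSub_compo [ConnectedSpace X] (hdim : topologicalKrullDim X = 1) {C : Set X}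
    (hC : C ∈ irreducibleComponents (X : Type u)) : IsSub (compo hC) :=
  ⟨hC.1.isConnected, by
    show ¬ topologicalKrullDim C ≤ 0
    rw [TwistShriek.dim_irreducibleComponent k hdim hC]; decide⟩

theorem kc_top : kc k (⊤ : Closeds X) = 0 := by
  haveI : Subsingleton (Coh.HH X (ClSub.quotMod (vI (⊤ : Closeds X) ⊔ vI (compl ⊤))) 0) :=
    subsingleton_H0_of_support_empty _ (Set.subset_empty_iff.1 ((IntLib.support_quotMod_subset _).trans (by
      rw [Scheme.IdealSheafData.support_sup, support_vanishingIdeal', support_vanishingIdeal']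
      rintro z ⟨-, hz⟩
      have hz' : z ∈ closure (((⊤ : Closeds X) : Set X)ᶜ) := hz
      rw [Closeds.coe_top, Set.compl_univ, closure_empty] at hz'
      exact hz')))
  exact Module.finrank_zero_of_subsingleton

theorem h0_quot_top [IsReduced X] :
    Module.finrank k (Coh.HH X (ClSub.quotMod (vI (⊤ : Closeds X))) 0) =
      Module.finrank k (Coh.HH X (Coh.structureModule X) 0) :=
  (LinearEquiv.ofBijective _ (hMap_bijective_iso (k := k) ((tensorStructureIso (ClSub.quotMod (vI (⊤ : Closeds X)))).symm ≪≫
    eqToIso (congrArg (fun J => LJ J (Coh.structureModule X)) (vI_top (X := X))) ≪≫ ljBot _) 0)).finrank_eq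

theorem subsingleton_H1_iff (S : Closeds X) :
    Subsingleton (Coh.HH (vI S).subscheme (Coh.structureModule (vI S).subscheme) 1) ↔ gS k S = 0 := by
  letI : (vI S).subscheme.Over (Spec (CommRingCat.of k)) := ⟨(vI S).subschemeι ≫ (X ↘ Spec (CommRingCat.of k))⟩
  haveI : IsProper ((vI S).subscheme ↘ Spec (CommRingCat.of k)) :=
    inferInstanceAs (IsProper ((vI S).subschemeι ≫ (X ↘ Spec (CommRingCat.of k))))
  haveI := EulerIneqLib.isNoetherian_proper (X := (vI S).subscheme) k
  haveI := EulerIneqLib.finite_HH (k := k) (DevLib.isCoh_structureModule (vI S).subscheme) 1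
  rw [gS_eq]
  exact (Module.finrank_eq_zero_iff_of_free k _).symm

/-- The intersection with the rest of a rational tail is a copy of the constants. -/
theorem kc_eq_h0_of_tail [IsNoetherian X] {S : Closeds X} (hsub : Subsingleton (vI S ⊔ vI (compl S)).subscheme)
    (hne : Nonempty (vI S ⊔ vI (compl S)).subscheme) (hred : IsReduced (vI S ⊔ vI (compl S)).subscheme)
    (hev : ∀ c : (vI S ⊔ vI (compl S)).subscheme, Function.Bijective
          ((vI S).subscheme.evaluation ⊤ ((Scheme.IdealSheafData.inclusion
            (le_sup_left : vI S ≤ vI S ⊔ vI (compl S))).base c) trivial)) :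
    kc k S = Module.finrank k (Coh.HH X (ClSub.quotMod (vI S)) 0) := by
  let I := vI S
  let J := vI S ⊔ vI (compl S)
  let i := Scheme.IdealSheafData.inclusion (le_sup_left : vI S ≤ vI S ⊔ vI (compl S))
  obtain ⟨c⟩ := hne
  haveI := hred
  let evJ := (J.subscheme.evaluation ⊤ c trivial).hom
  let evI := (I.subscheme.evaluation ⊤ (i.base c) trivial).hom
  have hinj : Function.Injective evJ := (injective_iff_map_eq_zero evJ).2 fun a ha => by
    refine eq_zero_of_basicOpen_eq_bot a (Opens.ext ((Set.eq_empty_iff_forall_notMem).2 fun z hz => ?_))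
    exact (Scheme.evaluation_eq_zero_iff_notMem_basicOpen J.subscheme c (show c ∈ (⊤ : J.subscheme.Opens) from trivial) a).1 ha
      ((Subsingleton.elim z c : z = c) ▸ hz)
  have hcomm : ∀ a, (i.residueFieldMap c).hom (evI a) = evJ (i.appTop.hom a) := fun a =>
    Scheme.Γevaluation_naturality_apply i c a
  have hsurj : Function.Surjective (i.residueFieldMap c).hom := by
    have h1 : (i.residueFieldMap c).hom.comp (I.subscheme.residue (i.base c)).hom =
        (J.subscheme.residue c).hom.comp (i.stalkMap c).hom := congrArg CommRingCat.Hom.hom (Scheme.residue_residueFieldMap i c)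
    intro t
    obtain ⟨s, hs⟩ := IsLocalRing.residue_surjective (R := J.subscheme.presheaf.stalk c) t
    obtain ⟨s', rfl⟩ := i.stalkMap_surjective c s
    exact ⟨(I.subscheme.residue (i.base c)).hom s', (DFunLike.congr_fun h1 s').trans hs⟩
  have hbij : Function.Bijective i.appTop.hom := by
    refine ⟨fun a b hab => (hev c).1 ((i.residueFieldMap c).hom.injective ?_), fun t => ?_⟩
    · exact (hcomm a).trans ((congrArg evJ hab).trans (hcomm b).symm)
    · obtain ⟨r, hr⟩ := hsurj (evJ t)
      obtain ⟨a, ha⟩ := (hev c).2 r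
      exact ⟨a, hinj ((hcomm a).symm.trans ((congrArg (i.residueFieldMap c).hom ha).trans hr))⟩
  letI aI : Algebra k Γ(I.subscheme, ⊤) :=
    (Coh.toGlobal (I.subschemeι ≫ (X ↘ Spec (CommRingCat.of k))) : k →+* Γ(I.subscheme, ⊤)).toAlgebra
  letI aJ : Algebra k Γ(J.subscheme, ⊤) :=
    (Coh.toGlobal (J.subschemeι ≫ (X ↘ Spec (CommRingCat.of k))) : k →+* Γ(J.subscheme, ⊤)).toAlgebra
  let f : Γ(I.subscheme, ⊤) →ₐ[k] Γ(J.subscheme, ⊤) :=
    { i.appTop.hom with
      commutes' := fun r => by
        show i.appTop.hom (Coh.toGlobal (I.subschemeι ≫ (X ↘ Spec (CommRingCat.of k))) r) =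
          Coh.toGlobal (J.subschemeι ≫ (X ↘ Spec (CommRingCat.of k))) r
        rw [← Scheme.IdealSheafData.inclusion_subschemeι (le_sup_left : vI S ≤ vI S ⊔ vI (compl S)), Category.assoc]
        rfl }
  exact (finrank_quot_eq k J).trans ((LinearEquiv.ofBijective f.toLinearMap hbij).finrank_eq.symm.trans
    (finrank_quot_eq k I).symm)

variable [IsReduced X] (hdim : topologicalKrullDim X = 1)
  [DCoh.HasRpush (X ↘ Spec (CommRingCat.of k))] (h : DCoh.RpushPreservesQCoh (X ↘ Spec (CommRingCat.of k)))
  [DCoh.HasShriek (X ↘ Spec (CommRingCat.of k)) h] (OY : DCoh.DQCoh (Spec (CommRingCat.of k)))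
  (hOY : Nonempty (OY.obj ≅ DCoh.inD (Spec (CommRingCat.of k)) (Coh.structureModule (Spec (CommRingCat.of k)))))
  (hGor : PicF.IsInvertible (DCoh.dualizingMod (X ↘ Spec (CommRingCat.of k)) h OY 1))

/-- The dualizing module. -/
local notation "ωX" => DCoh.dualizingMod (X ↘ Spec (CommRingCat.of k)) h OY 1

include hdim hOY hGor in
/-- `deg_S ω = k_S - 2 h⁰_S + 2 g_S` over any field. -/
theorem degS_omega' {S : Closeds X} (hS : IsSub S) :
    degS k ωX S =
      kc k S - 2 * (Module.finrank k (Coh.HH X (ClSub.quotMod (vI S)) 0) : ℤ) + 2 * gS k S := by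
  obtain ⟨tr, hω, -, hle⟩ := TwistShriek.exists_pair_dualizingMod k X h OY hOY (hdim.le.trans (by rfl))
  have h1 := adjunction (k := k) hdim.le hGor hω hle (sup_compl S) (dim_compl_inter k hdim.le S)
    (dense_of_isSub k hdim.le hS) (dense_compl S)
  unfold degS
  rw [h1, euler_eq_sub (k := k) (M := ClSub.quotMod (vI S)) hdim.le]
  change (kc k S : ℤ) - _ - _ = _
  show _ = (kc k S : ℤ) - _ + 2 * (gS k S : ℤ)
  unfold gS
  ring

include hdim hOY hGor in
theorem omega_top' [ConnectedSpace X] (h0 : Module.finrank k (Coh.HH X (Coh.structureModule X) 0) = 1) :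
    degS k ωX ⊤ = 2 * (Curv2.genus k X : ℤ) - 2 := by
  rw [degS_omega' k hdim h OY hOY hGor (isSub_top hdim), kc_top, h0_quot_top, h0, gS_top]
  ring

include hdim hOY hGor in
/-- Without rational tails every component but the whole curve has nonnegative degree. -/
theorem omega_compo_nonneg [ConnectedSpace X]
    (hnt : ∀ (C : Set X) (hC : C ∈ irreducibleComponents (X : Type u)), ¬ Curv2.IsRationalTail X C hC)
    {C : Set X} (hC : C ∈ irreducibleComponents (X : Type u)) (hne : compo hC ≠ ⊤) :
    0 ≤ degS k ωX (compo hC) := by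
  haveI := EulerIneqLib.isNoetherian_proper (X := X) k
  have hS := isSub_compo k hdim hC
  rw [degS_omega' k hdim h OY hOY hGor hS]
  obtain ⟨b, hb1, hb, hb'⟩ := exists_kc_mul k hdim.le hS hne
  rcases Nat.eq_zero_or_pos (gS k (compo hC)) with hg | hg
  · have hb2 : b ≠ 1 := fun hb1' => hnt C hC (by
      obtain ⟨h1, h2, h3, h4⟩ := hb' hb1'
      exact (isRationalTail_iff hC).2 ⟨ne_top_iff_support_nonempty.2 hne, h1, h2, h3, h4, (subsingleton_H1_iff k _).2 hg⟩)
    have h2 : 2 * Module.finrank k (Coh.HH X (ClSub.quotMod (vI (compo hC))) 0) ≤ kc k (compo hC) := by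
      rw [hb]; exact Nat.mul_le_mul_right _ (by omega)
    omega
  · have h1 := h0_le_gS k hS hg
    omega

include hdim hOY hGor in
theorem omega_sub_nonneg [ConnectedSpace X]
    (hnt : ∀ (C : Set X) (hC : C ∈ irreducibleComponents (X : Type u)), ¬ Curv2.IsRationalTail X C hC)
    {S : Closeds X} (hS : IsSub S) (hne : S ≠ ⊤) : 0 ≤ degS k ωX S := by
  refine sub_induction k hdim.le (P := fun S => S ≠ ⊤ → 0 ≤ degS k ωX S) (fun S hS hi hne => ?_)
    (fun A B S _ _ _ hAB hd hA hB hne => ?_) S hS hne
  · have hC : (S : Set X) ∈ irreducibleComponents (X : Type u) :=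
      CurveLib.mem_irreducibleComponents hdim.le S.isClosed hi
        (eq_one_of_le ((topologicalKrullDim_subspace_le X _).trans hdim.le) hS.2)
    exact omega_compo_nonneg k hdim h OY hOY hGor hnt hC hne
  · rw [degS_union k hGor hAB hd]
    have h1 := hA fun e => hne (top_le_iff.1 (e ▸ le_left hAB))
    have h2 := hB fun e => hne (top_le_iff.1 (e ▸ le_right hAB))
    omega

include hdim hOY hGor in
theorem gS_le_omega [ConnectedSpace X]
    (hnt : ∀ (C : Set X) (hC : C ∈ irreducibleComponents (X : Type u)), ¬ Curv2.IsRationalTail X C hC)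
    {S : Closeds X} (hS : IsSub S) (hne : S ≠ ⊤) : (gS k S : ℤ) ≤ degS k ωX S := by
  rcases Nat.eq_zero_or_pos (gS k S) with hg | hg
  · rw [hg]; exact omega_sub_nonneg k hdim h OY hOY hGor hnt hS hne
  · haveI := EulerIneqLib.isNoetherian_proper (X := X) k
    rw [degS_omega' k hdim h OY hOY hGor hS]
    obtain ⟨b, hb1, hb, -⟩ := exists_kc_mul k hdim.le hS hne
    have h1 := h0_le_gS k hS hg
    have h2 : Module.finrank k (Coh.HH X (ClSub.quotMod (vI S)) 0) ≤ kc k S := by
      rw [hb]; exact Nat.le_mul_of_pos_left _ hb1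
    omega

include hdim hOY hGor in
theorem omega_tail_neg [ConnectedSpace X] {C : Set X} (hC : C ∈ irreducibleComponents (X : Type u))
    (ht : Curv2.IsRationalTail X C hC) : degS k ωX (compo hC) < 0 := by
  haveI := EulerIneqLib.isNoetherian_proper (X := X) k
  have hS := isSub_compo k hdim hC
  rw [isRationalTail_iff hC] at ht
  obtain ⟨-, h1, h2, h3, h4, h5⟩ := ht
  rw [degS_omega' k hdim h OY hOY hGor hS, kc_eq_h0_of_tail k h2 h1 h3 h4, (subsingleton_H1_iff k _).1 h5]
  have := h0_pos k hS
  omega

include hdim hOY hGor in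
theorem omega_bridge_zero [ConnectedSpace X] {C : Set X} (hC : C ∈ irreducibleComponents (X : Type u))
    (ht : Curv2.IsRationalBridge k X C hC) : degS k ωX (compo hC) = 0 := by
  haveI := EulerIneqLib.isNoetherian_proper (X := X) k
  have hS := isSub_compo k hdim hC
  unfold Curv2.IsRationalBridge at ht
  dsimp only at ht
  rw [ker_compl_eq hC] at ht
  obtain ⟨-, h1, h5⟩ := ht
  change kc k (compo hC) = 2 * _ at h1
  rw [degS_omega' k hdim h OY hOY hGor hS, h1, (subsingleton_H1_iff k _).1 h5]
  push_cast
  ring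

include hdim hOY hGor in
theorem omega_compo_pos [ConnectedSpace X] (h0 : Module.finrank k (Coh.HH X (Coh.structureModule X) 0) = 1)
    (hnt : ∀ (C : Set X) (hC : C ∈ irreducibleComponents (X : Type u)), ¬ Curv2.IsRationalTail X C hC)
    (hnb : ∀ (C : Set X) (hC : C ∈ irreducibleComponents (X : Type u)), ¬ Curv2.IsRationalBridge k X C hC)
    (hg : 2 ≤ Curv2.genus k X) {C : Set X} (hC : C ∈ irreducibleComponents (X : Type u)) :
    0 < degS k ωX (compo hC) := by
  haveI := EulerIneqLib.isNoetherian_proper (X := X) k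
  have hS := isSub_compo k hdim hC
  by_cases hne : compo hC = ⊤
  · rw [hne, omega_top' k hdim h OY hOY hGor h0]
    omega
  refine lt_of_le_of_ne (omega_compo_nonneg k hdim h OY hOY hGor hnt hC hne) fun h0w => ?_
  have h1 := gS_le_omega k hdim h OY hOY hGor hnt hS hne
  have h2 := degS_omega' k hdim h OY hOY hGor hS
  refine hnb C hC ?_
  unfold Curv2.IsRationalBridge
  dsimp only
  rw [ker_compl_eq hC]
  refine ⟨ne_top_iff_support_nonempty.2 hne, ?_, (subsingleton_H1_iff k (compo hC)).2 (by omega)⟩
  show kc k (compo hC) = 2 * Module.finrank k (Coh.HH X (ClSub.quotMod (vI (compo hC))) 0)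
  omega

end Groth.Agent.SubAdjLib
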