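import Groth.Agent.SubAdjLib.NodalSub

/-!
# The dualizing module of a nodal genus one curve without rational tails
-/

set_option autoImplicit false
set_option backward.isDefEq.respectTransparency false
set_option backward.isDefEq.respectTransparency.types false
set_option linter.style.haveILetI false
set_option maxHeartbeats 1000000

universe u

open CategoryTheory CategoryTheory.Limits AlgebraicGeometry TopologicalSpace Opposite
open Groth.Agent.PullbackMod Groth.Agent.DCohLib Groth.Agent.CurveLib Groth.Agent.H1ZeroLib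
open Groth.Agent.CliffCurveLib

attribute [local instance] HasDerivedCategory.standard

noncomputable section

namespace Groth.Agent.SubAdjLib

variable {X : Scheme.{u}} (k : Type u) [Field k] [X.Over (Spec (CommRingCat.of k))]
  [IsProper (X ↘ Spec (CommRingCat.of k))]

theorem degS_finite {L : X.Modules} (hL : PicF.IsInvertible L) {T : Closeds X}
    (hd : topologicalKrullDim (T : Set X) ≤ 0) : degS k L T = 0 := by
  haveI := EulerIneqLib.isNoetherian_proper (X := X) k
  have hs : ((vI T).support : Set X) = T := congrArg SetLike.coe (support_vanishingIdeal' T)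
  unfold degS
  rw [euler_LJ_finite (k := k) hL (vI T) (by rw [hs]; exact hd),
    euler_of_dim_le_zero (k := k) (C := (T : Set X)) T.isClosed ((IntLib.support_quotMod_subset _).trans hs.le) hd,
    sub_self]

/-- A surjection of invertible modules is an isomorphism. -/
theorem isIso_of_surjective_invertible {L : X.Modules} (hL : PicF.IsInvertible L)
    (σ : Coh.structureModule X ⟶ L) (h : ∀ y, Function.Surjective (stalkLin σ y)) : IsIso σ := by
  refine (isIso_iff_stalk σ).2 fun y => ⟨?_, h y⟩
  obtain ⟨e, he⟩ := ParaFLib.exists_stalk_gen hL y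
  obtain ⟨b, hb⟩ := he.2 (stalkLin σ y (ParaFLib.oneG y))
  dsimp only at hb
  obtain ⟨z, hz⟩ := h y e
  obtain ⟨a, rfl⟩ := (ParaFLib.bijective_oneG y).2 z
  rw [map_smul, ← hb, smul_smul] at hz
  have hu : IsUnit b := IsUnit.of_mul_eq_one a (by
    rw [mul_comm]; exact he.1 (hz.trans (one_smul _ e).symm))
  intro p q hpq
  obtain ⟨r, rfl⟩ := (ParaFLib.bijective_oneG y).2 p
  obtain ⟨s, rfl⟩ := (ParaFLib.bijective_oneG y).2 q
  rw [map_smul, map_smul, ← hb, smul_smul, smul_smul] at hpq
  rw [hu.mul_left_injective (he.1 hpq)]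

variable [IsReduced X] [ConnectedSpace X] (hdim : topologicalKrullDim X = 1)
  (h0 : Module.finrank k (Coh.HH X (Coh.structureModule X) 0) = 1)
  (hnt : ∀ (C : Set X) (hC : C ∈ irreducibleComponents (X : Type u)), ¬ Curv2.IsRationalTail X C hC)
  [DCoh.HasRpush (X ↘ Spec (CommRingCat.of k))] (h : DCoh.RpushPreservesQCoh (X ↘ Spec (CommRingCat.of k)))
  [DCoh.HasShriek (X ↘ Spec (CommRingCat.of k)) h] (OY : DCoh.DQCoh (Spec (CommRingCat.of k)))
  (hOY : Nonempty (OY.obj ≅ DCoh.inD (Spec (CommRingCat.of k)) (Coh.structureModule (Spec (CommRingCat.of k)))))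
  (hGor : PicF.IsInvertible (DCoh.dualizingMod (X ↘ Spec (CommRingCat.of k)) h OY 1))

/-- The dualizing module. -/
local notation "ωX" => DCoh.dualizingMod (X ↘ Spec (CommRingCat.of k)) h OY 1

include hdim hnt hOY hGor in
/-- Every proper closed subset has nonnegative degree. -/
theorem omega_closed_nonneg (T : Closeds X) (hne : T ≠ ⊤) : 0 ≤ degS k ωX T := by
  haveI := EulerIneqLib.isNoetherian_proper (X := X) k
  induction T using (WellFoundedLT.induction (α := Closeds X)) with
  | _ T ih =>
  by_cases hd : topologicalKrullDim (T : Set X) ≤ 0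
  · exact (degS_finite k hGor hd).ge
  by_cases hc : _root_.IsConnected (T : Set X)
  · exact omega_sub_nonneg k hdim h OY hOY hGor hnt ⟨hc, hd⟩ hne
  have hne' : (T : Set X).Nonempty := Set.nonempty_iff_ne_empty.2 fun e => hd (by
    rw [e]; exact topologicalKrullDim_zero_of_discreteTopology (∅ : Set X))
  have hpc : ¬ _root_.IsPreconnected (T : Set X) := fun hh => hc ⟨hne', hh⟩
  rw [isPreconnected_closed_iff] at hpc
  push Not at hpc
  obtain ⟨t, t', ht, ht', hcov, ⟨a, haT, hat⟩, ⟨b, hbT, hbt'⟩, hdis⟩ := hpc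
  let A : Closeds X := T ⊓ ⟨t, ht⟩
  let B : Closeds X := T ⊓ ⟨t', ht'⟩
  have hdis' : ∀ y, y ∈ T → y ∈ t → y ∈ t' → False := fun y h1 h2 h3 =>
    Set.eq_empty_iff_forall_notMem.1 hdis y ⟨h1, h2, h3⟩
  have hA : A < T := lt_of_le_of_ne inf_le_left fun e =>
    hdis' b hbT (e.ge hbT).2 hbt'
  have hB : B < T := lt_of_le_of_ne inf_le_left fun e =>
    hdis' a haT hat (e.ge haT).2
  have hAB : A ⊔ B = T := le_antisymm (sup_le inf_le_left inf_le_left) fun y hy =>
    (hcov hy).imp (fun hh => ⟨hy, hh⟩) fun hh => ⟨hy, hh⟩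
  have hfin : topologicalKrullDim ((A : Set X) ∩ B : Set X) ≤ 0 := by
    rw [show (A : Set X) ∩ B = ∅ from Set.eq_empty_iff_forall_notMem.2 fun y hy =>
      hdis' y hy.1.1 hy.1.2 hy.2.2]
    exact topologicalKrullDim_zero_of_discreteTopology (∅ : Set X)
  rw [degS_union k hGor hAB hfin]
  exact add_nonneg (ih A hA fun e => hne (top_le_iff.1 (e ▸ hA.le)))
    (ih B hB fun e => hne (top_le_iff.1 (e ▸ hB.le)))

include k hdim in
theorem compl_ne_top {S : Closeds X} (hS : IsSub S) : compl S ≠ ⊤ := fun e => by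
  obtain ⟨x, hx⟩ := hS.1.1
  have h1 := dense_of_isSub k hdim.le hS hx
  rw [e, Closeds.coe_top, Set.sdiff_univ, closure_empty] at h1
  exact h1

variable (hg : Curv2.genus k X = 1)

include hdim h0 hnt hOY hGor hg in
theorem omega_sub_zero {S : Closeds X} (hS : IsSub S) : degS k ωX S = 0 := by
  have htop : degS k ωX (⊤ : Closeds X) = 0 := by
    rw [omega_top' k hdim h OY hOY hGor h0, hg]; rfl
  by_cases hne : S = ⊤
  · rw [hne, htop]
  have h1 := omega_sub_nonneg k hdim h OY hOY hGor hnt hS hne
  have h2 := omega_closed_nonneg k hdim hnt h OY hOY hGor (compl S) (compl_ne_top k hdim hS)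
  have h3 := degS_union k hGor (sup_compl S) (dim_compl_inter k hdim.le S)
  omega

include hdim h0 hnt hOY hGor hg in
theorem gS_closed_zero {T : Closeds X} (hne : T ≠ ⊤) : gS k T = 0 := by
  haveI := EulerIneqLib.isNoetherian_proper (X := X) k
  let O := Coh.structureModule X
  have hO : PicF.IsInvertible O := ParaFLib.isInvertible_structureModule
  have key : ∀ U : Closeds X, Module.finrank k (Coh.HH X (NS U ⊤ O) 1) = gS k U := fun U => by
    let ι := kernel.ι (qmapL (le_sup_left : vI U ≤ vI U ⊔ ⊤) O)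
    haveI : IsIso ι := (isIso_iff_stalk ι).2 fun y => ⟨(mono_iff_stalk ι).1 inferInstance y, fun z => by
      obtain ⟨e, he⟩ := ParaFLib.exists_stalk_gen hO y
      obtain ⟨r, rfl⟩ := tq_surjective he (vI U) z
      refine exists_preimage he ?_
      rw [stalkIdeal_sup, IdealMulLib.stalkIdeal_eq_top (⊤ : X.IdealSheafData)
        (by rw [Scheme.IdealSheafData.support_top]; exact id), sup_top_eq]
      trivial⟩
    exact (LinearEquiv.ofBijective _ (hMap_bijective_iso (k := k)
      (asIso ι ≪≫ tensorStructureIso (ClSub.quotMod (vI U))) 1)).finrank_eq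
  by_contra hpos
  haveI : Nontrivial (Coh.HH X (NS T ⊤ O) 1) :=
    Module.nontrivial_of_finrank_pos (R := k) (by rw [key]; omega)
  obtain ⟨Y, hYT, hY⟩ := exists_isMin (k := k) (S := T) (B := ⊤) (L := O) inferInstance
  have hYs : IsSub Y := ⟨IsMin.isConnected (k := k) hdim.le hY hO, IsMin.dim_eq_one (k := k) hdim.le hY hO⟩
  have hYne : Y ≠ ⊤ := fun e => hne (top_le_iff.1 (e ▸ hYT))
  have h1 := gS_le_omega k hdim h OY hOY hGor hnt hYs hYne
  rw [omega_sub_zero k hdim h0 hnt h OY hOY hGor hg hYs] at h1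
  haveI := hY.nontrivial
  haveI := EulerIneqLib.finite_HH (k := k) (isCoh_NS hO Y (⊤ : X.IdealSheafData)) 1
  have h2 : 0 < Module.finrank k (Coh.HH X (NS Y ⊤ O) 1) := Module.finrank_pos
  rw [key] at h2
  omega

include hdim h0 hnt hOY hGor hg in
theorem omega_iso_unit : Nonempty (ωX ≅ Coh.structureModule X) := by
  haveI := EulerIneqLib.isNoetherian_proper (X := X) k
  obtain ⟨tr, hdual, -, -⟩ := TwistShriek.exists_pair_dualizingMod k X h OY hOY (hdim.le.trans (by rfl))
  have hpos : Module.finrank k (Coh.HH X ωX 0) = 1 := by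
    rw [TwistShriek.finrank_H0_dualizing k hdual]
    exact hg
  obtain ⟨c, hc⟩ : ∃ c : Coh.HH X ωX 0, c ≠ 0 := by
    haveI : Nontrivial (Coh.HH X ωX 0) := Module.nontrivial_of_finrank_pos (R := k) (by omega)
    exact exists_ne 0
  let σ := DCohLib.secHom ωX (secOf ωX c)
  have hσ : σ ≠ 0 := secHom_secOf_ne_zero _ hc
  let e₀ : LJ (vI (⊤ : Closeds X)) ωX ≅ ωX :=
    eqToIso (congrArg (fun J => LJ J ωX) (vI_top (X := X))) ≪≫ ljBot ωX
  let σ' : Coh.structureModule X ⟶ LJ (vI (⊤ : Closeds X)) ωX := σ ≫ e₀.inv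
  have hσ' : σ' ≠ 0 := fun hh => hσ (by rw [← cancel_mono e₀.inv, zero_comp]; exact hh)
  haveI : IsIso σ' := by
    refine isIso_of_surjective_invertible (ParaFLib.isInvertible_of_iso e₀.symm hGor) σ' fun y => ?_
    obtain ⟨C, hC, hyC⟩ : ∃ C ∈ irreducibleComponents (X : Type u), y ∈ C :=
      ⟨irreducibleComponent y, irreducibleComponent_mem_irreducibleComponents y, mem_irreducibleComponent⟩
    let S := compo hC
    have hS : IsSub S := isSub_compo k hdim hC
    have hT : compl S ⊔ S = ⊤ := (sup_comm _ _).trans (sup_compl S)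
    let π := qmapL (vI_mono (le_right hT)) ωX
    have hπ : σ' ≫ π ≠ 0 := fun hh => hσ' (by
      let τ : Coh.structureModule X ⟶ NS (compl S) (vI S) ωX := kernel.lift π σ' hh ≫ (kerIso hGor hT).hom
      let N := NS (compl S) (vI S) ωX
      have hz : Module.finrank k (Coh.HH X N 0) = 0 := by
        have hk : Killed (vI (compl S)) N := killed_NS hGor (compl S) (vI S)
        have ha := finrank_le_of_pairing (k := k) hdual (IntLib.isCoh_quotMod (vI (compl S)))
          ((killedIso hk).hom ≫ toOmega hGor hT) fun σ hσ => eq_zero_of_mulS_quot hk σ hσ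
        have hb := gS_closed_zero k hdim h0 hnt h OY hOY hGor hg (compl_ne_top k hdim hS)
        unfold gS at hb
        omega
      haveI := EulerIneqLib.finite_HH (k := k) (isCoh_NS hGor (compl S) (vI S)) 0
      haveI : Subsingleton (Coh.HH X N 0) := (Module.finrank_eq_zero_iff_of_free k _).1 hz
      haveI : Subsingleton Γ(N, ⊤) := (secOf N).symm.toEquiv.subsingleton
      have hτ : τ = 0 := DCohLib.hom_unit_ext (Subsingleton.elim _ _)
      have hl : kernel.lift π σ' hh = 0 := by rw [← cancel_mono (kerIso hGor hT).hom, zero_comp]; exact hτ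
      rw [← kernel.lift_ι π σ' hh, hl, zero_comp])
    -- on the component the degree is zero
    haveI : IsIntegral (vI S).subscheme := isIntegral_vanishingIdeal S.isClosed hC.1
    letI : (vI S).subscheme.Over (Spec (CommRingCat.of k)) := ⟨(vI S).subschemeι ≫ (X ↘ Spec (CommRingCat.of k))⟩
    haveI : IsProper ((vI S).subscheme ↘ Spec (CommRingCat.of k)) :=
      inferInstanceAs (IsProper ((vI S).subschemeι ≫ (X ↘ Spec (CommRingCat.of k))))
    let M := (Scheme.Modules.pullback (vI S).subschemeι).obj ωX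
    have hM : PicF.IsInvertible M := AmpleLib.isInvertible_pullback _ hGor
    have hdeg : Curv2.deg k (vI S).subscheme M 1 = 0 := by
      rw [deg_eq_degS k hGor, omega_sub_zero k hdim h0 hnt h OY hOY hGor hg hS]
    let φ := DCohLib.secHom M (subSec (σ' ≫ π))
    have hφ : φ ≠ 0 := fun hh => hπ (by
      rw [← cancel_mono (ljIso ωX S).hom, zero_comp]
      refine DCohLib.hom_unit_ext ?_
      have h1 : subSec (σ' ≫ π) = 0 := by
        rw [← AmpleLib.sec_secHom (subSec (σ' ≫ π))]
        show AmpleLib.sec φ = 0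
        rw [hh]; rfl
      exact h1.trans rfl)
    haveI : IsIso φ := (deg_le_of_ne_zero (k := k) ((dim_vI_eq_one hdim.le hS.2).le)
      ParaFLib.isInvertible_structureModule hM hφ).2 (by rw [hdeg]; unfold Curv2.deg; simp)
    obtain ⟨w, rfl⟩ : ∃ w, (vI S).subschemeι w = y := by
      rw [← Set.mem_range, Scheme.IdealSheafData.range_subschemeι]; exact mem_support_vI.2 hyC
    refine surjective_of_qmapL hGor (vI_mono (le_right hT)) (mem_support_vI.2 (show (vI S).subschemeι w ∈ S from hyC)) σ' ?_
    refine (surjective_iff_mem_genLocus hGor _ w).2 ((AmpleLib.mem_genLocus_iff hM).2 ?_)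
    have h2 : ∀ r : (vI S).subscheme.presheaf.stalk w, r • M.presheaf.germ ⊤ w trivial (AmpleLib.sec φ) =
        stalkLin φ w (r • ParaFLib.oneG w) := fun r => by
      rw [map_smul]
      exact congrArg (r • ·) (stalkLin_germ φ (U := ⊤) w trivial _).symm
    show Function.Bijective fun r : (vI S).subscheme.presheaf.stalk w => r • M.presheaf.germ ⊤ w trivial (AmpleLib.sec φ)
    rw [funext h2]
    exact ((isIso_iff_stalk φ).1 inferInstance w).comp (ParaFLib.bijective_oneG w)
  exact ⟨e₀.symm ≪≫ (asIso σ').symm⟩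

end Groth.Agent.SubAdjLib
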