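import Groth.Agent.SubAdjLib.FewNodes
import Groth.Agent.CurveP1Lib.Rational
import Groth.Agent.CurveP1Lib.Transport
import Groth.Agent.PtdP1Lib.Curve
import Groth.Agent.AVLib.AmpleCrit
import Groth.Agent.AVLib.IdSub
import Groth.Prelude.Def_StCurv

/-!
# Smooth rational components
-/

set_option autoImplicit false
set_option backward.isDefEq.respectTransparency false
set_option backward.isDefEq.respectTransparency.types false
set_option linter.style.haveILetI false
set_option maxHeartbeats 1000000

universe u

open CategoryTheory CategoryTheory.Limits AlgebraicGeometry TopologicalSpace Opposite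
open Groth.Agent.PullbackMod Groth.Agent.DCohLib Groth.Agent.CurveLib Groth.Agent.H1ZeroLib
open Groth.Agent.CliffCurveLib

noncomputable section

namespace Groth.Agent.SubAdjLib

variable {X : Scheme.{u}}

theorem meetPts_eq [NoetherianSpace X] {E : Set X} (hE : E ∈ irreducibleComponents (X : Type u)) :
    CurvSt.meetPts X E = E ∩ closure Eᶜ := by
  ext p
  constructor
  · rintro ⟨hp, E', hE', hne, hp'⟩
    exact ⟨hp, subset_closure_compl hE hE' hne hp'⟩
  · rintro ⟨hp, hp'⟩
    exact ⟨hp, exists_other_component hE hp'⟩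

variable (k : Type u) [Field k] [IsAlgClosed k] [X.Over (Spec (CommRingCat.of k))]
  [IsProper (X ↘ Spec (CommRingCat.of k))] [IsReduced X]

/-- A smooth rational component is a component of genus zero. -/
theorem isSmRatComp_iff [ConnectedSpace X] (hdim : topologicalKrullDim X = 1) {E : Set X}
    (hE : E ∈ irreducibleComponents (X : Type u)) :
    CurvSt.IsSmRatComp k X (X ↘ Spec (CommRingCat.of k)) E ↔ gS k (compo hE) = 0 := by
  haveI := EulerIneqLib.isNoetherian_proper (X := X) k
  let I := vI (compo hE)
  haveI : IsIntegral I.subscheme := isIntegral_vanishingIdeal (compo hE).isClosed hE.1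
  letI : I.subscheme.Over (Spec (CommRingCat.of k)) := ⟨I.subschemeι ≫ (X ↘ Spec (CommRingCat.of k))⟩
  haveI : IsProper (I.subscheme ↘ Spec (CommRingCat.of k)) :=
    inferInstanceAs (IsProper (I.subschemeι ≫ (X ↘ Spec (CommRingCat.of k))))
  rw [gS_eq]
  constructor
  · rintro ⟨-, e, he, heq, hrange⟩
    haveI := he
    haveI : IsReduced (CohB1.ProjSpace 1 k) := by
      haveI := REqLib.isIntegral_projSpace 1 k
      infer_instance
    have hker : e.ker = I := by
      have hrad : e.ker.radical = e.ker := by
        refine le_antisymm (fun V => ?_) (Scheme.IdealSheafData.le_radical _)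
        rw [Scheme.IdealSheafData.radical_ideal, Scheme.Hom.ker_apply]
        intro a ha
        obtain ⟨n, hn⟩ := ha
        rw [RingHom.mem_ker, map_pow] at hn
        exact RingHom.mem_ker.2 (IsNilpotent.eq_zero ⟨n, hn⟩)
      rw [← hrad, ← Scheme.IdealSheafData.vanishingIdeal_support]
      refine congrArg Scheme.IdealSheafData.vanishingIdeal (SetLike.coe_injective ?_)
      rw [Scheme.Hom.support_ker, hrange, (isClosed_of_mem_irreducibleComponents E hE).closure_eq]
      rfl
    have key : ∀ (J : X.IdealSheafData) (g : CohB1.ProjSpace 1 k ⟶ J.subscheme), IsIso g → g ≫ J.subschemeι = e → J = I →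
        @Curv2.genus k _ I.subscheme ⟨I.subschemeι ≫ (X ↘ Spec (CommRingCat.of k))⟩ = 0 := by
      rintro J g hg hge rfl
      haveI := hg
      haveI : Coh.IsQCoh (Coh.structureModule I.subscheme) := CohBase.isQCoh_structureModule
      have h1 := CurveP1Lib.finrank_HH_pullback (k := k) g
        (show g ≫ I.subschemeι ≫ (X ↘ Spec (CommRingCat.of k)) = CohB1.ProjSpace.toSpec 1 k by
          rw [← Category.assoc, hge, heq]) (Coh.structureModule I.subscheme) 1
      rw [ShBCLib.finrank_HH_iso (K := k) (AmpleLib.pullO g) 1] at h1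
      exact h1.symm.trans (PtdP1Lib.genus_P1 k)
    exact key e.ker e.toImage inferInstance e.toImage_imageι hker
  · intro hg
    haveI := AVLib.geometricallyIntegral_of_isIntegral (K := k) (I.subschemeι ≫ (X ↘ Spec (CommRingCat.of k)))
    haveI : GeometricallyIntegral (I.subscheme ↘ Spec (CommRingCat.of k)) :=
      inferInstanceAs (GeometricallyIntegral (I.subschemeι ≫ (X ↘ Spec (CommRingCat.of k))))
    obtain ⟨e, he⟩ := CurveP1Lib.exists_iso_P1_of_sepClosed (k := k) (X := I.subscheme)
      (dim_vI_eq_one hdim.le (isSub_compo k hdim hE).2) hg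
    refine ⟨hE, e.inv ≫ I.subschemeι, inferInstance, ?_, ?_⟩
    · rw [Category.assoc, Iso.inv_comp_eq]
      exact he.symm
    · show Set.range (e.inv ≫ I.subschemeι) = E
      rw [Scheme.Hom.comp_base, TopCat.coe_comp, Set.range_comp, show Set.range (e.inv.base : CohB1.ProjSpace 1 k → I.subscheme) = Set.univ from Set.range_eq_univ.2 e.inv.homeomorph.surjective,
        Set.image_univ, Scheme.IdealSheafData.range_subschemeι, Scheme.IdealSheafData.coe_support_vanishingIdeal]
      rfl

include k in
/-- Over an algebraically closed field a genus zero component is a rational tail exactly if it meets the rest once. -/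
theorem tail_bridge_iff [ConnectedSpace X] (hdim : topologicalKrullDim X = 1) (hX : Curv2.AtWorstNodal k X) {E : Set X}
    (hE : E ∈ irreducibleComponents (X : Type u)) :
    (Curv2.IsRationalTail X E hE ↔ gS k (compo hE) = 0 ∧ (E ∩ closure Eᶜ).ncard = 1) ∧
      (Curv2.IsRationalBridge k X E hE ↔ gS k (compo hE) = 0 ∧ (E ∩ closure Eᶜ).ncard = 2) := by
  haveI := EulerIneqLib.isNoetherian_proper (X := X) k
  have hS := isSub_compo k hdim hE
  have hcard : kc k (compo hE) = (E ∩ closure Eᶜ).ncard := by
    rw [kc_eq_card k hdim hX hS, Nat.card_coe_set_eq]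
    rfl
  have hne : 1 ≤ kc k (compo hE) → compo hE ≠ ⊤ := fun hk e => by
    rw [e, kc_top] at hk
    omega
  refine ⟨⟨fun ht => ?_, fun ⟨hg, hk⟩ => ?_⟩, ⟨fun ht => ?_, fun ⟨hg, hk⟩ => ?_⟩⟩
  · rw [isRationalTail_iff hE] at ht
    obtain ⟨-, h1, h2, h3, h4, h5⟩ := ht
    refine ⟨(subsingleton_H1_iff k _).1 h5, ?_⟩
    rw [← hcard, kc_eq_h0_of_tail k h2 h1 h3 h4, h0_quot k hS]
  · have hne' := hne (by omega)
    obtain ⟨b, -, hb, hb'⟩ := exists_kc_mul k hdim.le hS hne'
    rw [h0_quot k hS, hcard, hk, mul_one] at hb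
    obtain ⟨h1, h2, h3, h4⟩ := hb' hb.symm
    exact (isRationalTail_iff hE).2 ⟨ne_top_iff_support_nonempty.2 hne', h1, h2, h3, h4, (subsingleton_H1_iff k _).2 hg⟩
  · unfold Curv2.IsRationalBridge at ht
    dsimp only at ht
    rw [ker_compl_eq hE] at ht
    obtain ⟨-, h1, h5⟩ := ht
    change kc k (compo hE) = 2 * Module.finrank k (Coh.HH X (ClSub.quotMod (vI (compo hE))) 0) at h1
    rw [h0_quot k hS, hcard] at h1
    exact ⟨(subsingleton_H1_iff k (compo hE)).1 h5, by omega⟩
  · unfold Curv2.IsRationalBridge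
    dsimp only
    rw [ker_compl_eq hE]
    refine ⟨ne_top_iff_support_nonempty.2 (hne (by omega)), ?_, (subsingleton_H1_iff k (compo hE)).2 hg⟩
    show kc k (compo hE) = 2 * Module.finrank k (Coh.HH X (ClSub.quotMod (vI (compo hE))) 0)
    rw [h0_quot k hS]
    omega

end Groth.Agent.SubAdjLib
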