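import Groth.Agent.SubAdjLib.Subcurve
import Groth.Agent.EtAlgEasy.OmegaSmooth2
import Groth.Agent.ConormalLib.Seq
import Groth.Agent.HomDepthLib.Basic
import Groth.Agent.HodgePnLib.Coh
import Groth.Agent.DegDevLib.Frame

/-!
# First cohomology of sheaves of homomorphisms, and retractions of conormal maps at smooth points
-/

set_option autoImplicit false
set_option backward.isDefEq.respectTransparency false
set_option backward.isDefEq.respectTransparency.types false
set_option linter.style.haveILetI false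
set_option maxHeartbeats 1000000

universe u

open CategoryTheory CategoryTheory.Limits AlgebraicGeometry TopologicalSpace Opposite
open Groth.Agent.PullbackMod Groth.Agent.DCohLib Groth.Agent.CurveLib
open scoped TensorProduct

noncomputable section

namespace Groth.Agent.SubAdjLib.Normal

open Groth.Agent.OmegaUnivLib Groth.Agent.EtAlgEasy Groth.Agent.EtAlgEasy.OmegaSmooth

/-- Near a point where the source is smooth the conormal map has a left inverse on germs. -/
theorem exists_retraction_stalk {Z X Y : Scheme.{u}} (i : Z ⟶ X) [IsImmersion i] [QuasiCompact i] (p : X ⟶ Y)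
    {U₀ : Z.Opens} [Smooth (U₀.ι ≫ i ≫ p)] {Ω : X.Modules} {d : OmegaSh.Der p Ω} (hd : OmegaSh.IsUniversal d)
    (φ : Omega.conormal i ⟶ (Scheme.Modules.pullback i).obj Ω) (hφ : OmegaSh.IsConormalDiff i d φ)
    {z : Z} (hz : z ∈ U₀) :
    ∃ ρ : ((Scheme.Modules.pullback i).obj Ω).presheaf.stalk z →ₗ[Z.presheaf.stalk z]
      (Omega.conormal i).presheaf.stalk z, ∀ m, ρ (stalkLin φ z m) = m := by
  haveI := isQCoh_of_universal hd
  obtain ⟨_, ⟨V, hV, rfl⟩, hxV, -⟩ :=
    Y.isBasis_affineOpens.exists_subset_of_mem_open (Set.mem_univ (p (i z))) isOpen_univ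
  obtain ⟨W, hW, hxW, hWV, hle, hb⟩ := ConormalLib.exists_chart i z hz (O := p ⁻¹ᵁ V) hxV
  obtain ⟨hU, hs⟩ := ConormalLib.chart_of_le i hW hb
  let U := i ⁻¹ᵁ W
  let A := Γ(Y, V); let B := Γ(X, W); let C := Γ(Z, U)
  have eW : W ≤ p ⁻¹ᵁ V := hWV
  have eAC : U ≤ (i ≫ p) ⁻¹ᵁ V := OmegaSeq.le_comp i p eW le_rfl
  letI : Algebra A B := (p.appLE V W eW).hom.toAlgebra
  letI : Algebra A C := ((i ≫ p).appLE V U eAC).hom.toAlgebra
  letI : Algebra B C := (i.appLE W U le_rfl).hom.toAlgebra
  haveI : IsScalarTower A B C := .of_algebraMap_eq' (by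
    show ((i ≫ p).appLE V U eAC).hom = (p.appLE V W eW ≫ i.appLE W U le_rfl).hom
    rw [Scheme.Hom.appLE_comp_appLE])
  have hsm : ((i ≫ p).appLE V U eAC).hom.Smooth := by
    haveI : IsAffine U := hU
    haveI : Smooth (U.ι ≫ i ≫ p) := by
      rw [← Z.homOfLE_ι hle, Category.assoc]; infer_instance
    have h1 := (U.ι ≫ i ≫ p).smooth_appLE hV (isAffineOpen_top (↑U : Scheme.{u}))
      (fun y _ => eAC y.2)
    rw [← Scheme.Hom.appLE_comp_appLE U.ι (i ≫ p) V U ⊤ eAC U.ι_preimage_self.ge, CommRingCat.hom_comp] at h1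
    exact (RingHom.Smooth.respectsIso.cancel_right_isIso ((i ≫ p).appLE V U eAC) _).1 h1
  haveI : Algebra.Smooth A C := hsm
  haveI : Algebra.FormallySmooth A C := Algebra.Smooth.formallySmooth
  have hsurj : Function.Surjective (algebraMap B C) := by
    show Function.Surjective (i.appLE W (i ⁻¹ᵁ W) le_rfl)
    rw [← Scheme.Hom.app_eq_appLE]
    exact hs
  have hker : RingHom.ker (algebraMap B C) = RingHom.ker (i.app W).hom := by
    show RingHom.ker (i.appLE W (i ⁻¹ᵁ W) le_rfl).hom = _
    rw [← Scheme.Hom.app_eq_appLE]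
  obtain ⟨T, hT⟩ := exists_lin_of_der d eW
  have hTb := bijective_of_universal hV hW eW hd T hT
  letI : Module B Γ((Scheme.Modules.pullback i).obj Ω, U) := Module.compHom _ (i.appLE W U le_rfl).hom
  haveI : IsScalarTower B C Γ((Scheme.Modules.pullback i).obj Ω, U) := .of_algebraMap_smul fun _ _ => rfl
  letI : Module B Γ(Omega.conormal i, U) := Module.compHom _ (i.appLE W U le_rfl).hom
  haveI : IsScalarTower B C Γ(Omega.conormal i, U) := .of_algebraMap_smul fun _ _ => rfl
  have hbc := PullbackMod.isBaseChange_pullMapL i Ω hW hU (le_refl U)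
  let E : C ⊗[B] Ω[B⁄A] ≃ₗ[C] Γ((Scheme.Modules.pullback i).obj Ω, U) :=
    (TensorProduct.AlgebraTensorModule.congr (LinearEquiv.refl C C) (LinearEquiv.ofBijective T hTb)).trans hbc.equiv
  let φU : Γ(Omega.conormal i, U) →ₗ[C] Γ((Scheme.Modules.pullback i).obj Ω, U) :=
    { toFun := φ.app U
      map_add' := map_add (φ.app U).hom
      map_smul' := fun r m => Scheme.Modules.Hom.app_smul φ r m }
  have key : ∀ s : Γ(ClSub.idealMod i.ker, W), ∃ h : OmegaSh.idealSect i.ker W s ∈ RingHom.ker (algebraMap B C),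
      φU (PullbackMod.pullMap i (ClSub.idealMod i.ker) (W := W) (W' := U) le_rfl s) =
        E (KaehlerDifferential.kerCotangentToTensor A B C ((RingHom.ker (algebraMap B C)).toCotangent ⟨_, h⟩)) := by
    intro s
    refine ⟨hker ▸ ConormalLib.app_idealSect i W s, (ConormalLib.Pair.phi_apply hφ s).trans ?_⟩
    rw [KaehlerDifferential.kerCotangentToTensor_toCotangent, LinearEquiv.trans_apply,
      TensorProduct.AlgebraTensorModule.congr_tmul, hbc.equiv_tmul]
    refine Eq.trans ?_ (one_smul C _).symm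
    exact (congrArg (fun w => PullbackMod.pullMap i Ω (W := W) (W' := U) le_rfl w) (hT _)).symm
  obtain ⟨hcls, hcls0⟩ := ConormalLib.cls_surjective_and_eq_zero_iff i hW hU hs
  have hinj : Function.Injective φU := by
    refine (injective_iff_map_eq_zero _).2 fun m hm => ?_
    obtain ⟨s, rfl⟩ := hcls m
    obtain ⟨h, he⟩ := key s
    rw [he] at hm
    have h2 := injective_kerCotangentToTensor hsurj
      ((E.injective (hm.trans (map_zero E).symm)).trans (map_zero _).symm)
    rw [Ideal.toCotangent_eq_zero, pow_two] at h2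
    replace h2 : OmegaSh.idealSect i.ker W s ∈ RingHom.ker (i.app W).hom * RingHom.ker (i.app W).hom := by
      rw [← hker]; exact h2
    exact (hcls0 s).2 h2
  -- the projection onto the image
  let f := IsScalarTower.toAlgHom A B C
  have hk : Function.Surjective f.kerSquareLift := fun c => by
    obtain ⟨b, hb⟩ := hsurj c
    exact ⟨Ideal.Quotient.mk _ b, hb⟩
  have hn : IsNilpotent (RingHom.ker f.kerSquareLift.toRingHom) :=
    ⟨2, by rw [AlgHom.ker_kerSquareLift f]; exact Ideal.cotangentIdeal_square _⟩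
  let e := (retractionKerCotangentToTensorEquivSection (R := A) (P := B) (S := C) hsurj).symm
    ⟨Algebra.FormallySmooth.liftOfSurjective (AlgHom.id A C) f.kerSquareLift hk hn,
      Algebra.FormallySmooth.comp_liftOfSurjective (AlgHom.id A C) f.kerSquareLift hk hn⟩
  let π₀ : Γ((Scheme.Modules.pullback i).obj Ω, U) →ₗ[B] Γ((Scheme.Modules.pullback i).obj Ω, U) :=
    (E.toLinearMap.restrictScalars B) ∘ₗ
      (KaehlerDifferential.kerCotangentToTensor A B C) ∘ₗ e.1 ∘ₗ (E.symm.toLinearMap.restrictScalars B)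
  let π := π₀.extendScalarsOfSurjective hsurj
  have hπr : ∀ v, π v ∈ LinearMap.range φU := fun v => by
    show π₀ v ∈ LinearMap.range φU
    obtain ⟨⟨b, hb⟩, hb'⟩ := (RingHom.ker (algebraMap B C)).toCotangent_surjective (e.1 (E.symm v))
    obtain ⟨s, hs'⟩ := ConormalLib.exists_idealSect_eq i W b (RingHom.mem_ker.1 (hker ▸ hb))
    obtain ⟨h, he⟩ := key s
    refine ⟨_, he.trans ?_⟩
    show E _ = E (KaehlerDifferential.kerCotangentToTensor A B C (e.1 (E.symm v)))
    rw [← hb']
    subst hs'
    rfl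
  have hπφ : ∀ m, π (φU m) = φU m := fun m => by
    obtain ⟨s, rfl⟩ := hcls m
    obtain ⟨h, he⟩ := key s
    rw [he]
    show E (KaehlerDifferential.kerCotangentToTensor A B C (e.1 (E.symm (E _)))) = _
    rw [E.symm_apply_apply]
    exact congrArg (fun w => E (KaehlerDifferential.kerCotangentToTensor A B C w)) (LinearMap.congr_fun e.2 _)
  let ρU : Γ((Scheme.Modules.pullback i).obj Ω, U) →ₗ[C] Γ(Omega.conormal i, U) :=
    (LinearEquiv.ofInjective φU hinj).symm.toLinearMap ∘ₗ π.codRestrict _ hπr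
  have hρU : ∀ m, ρU (φU m) = m := fun m => hinj (by
    show φU ((LinearEquiv.ofInjective φU hinj).symm _) = φU m
    rw [← LinearEquiv.ofInjective_apply φU (h := hinj), LinearEquiv.apply_symm_apply]
    exact hπφ m)
  -- localise
  haveI : Coh.IsQCoh (Omega.conormal i) := by
    haveI := OmegaAffLib.isQCoh_idealMod i.ker
    unfold Omega.conormal
    infer_instance
  letI : Algebra Γ(Z, U) (Z.presheaf.stalk z) := TopCat.Presheaf.algebra_section_stalk Z.presheaf ⟨z, hxW⟩
  haveI := hU.isLocalization_stalk ⟨z, hxW⟩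
  letI := Module.compHom (((Scheme.Modules.pullback i).obj Ω).presheaf.stalk z) (Z.presheaf.germ U z hxW).hom
  letI := Module.compHom ((Omega.conormal i).presheaf.stalk z) (Z.presheaf.germ U z hxW).hom
  haveI : IsScalarTower Γ(Z, U) (Z.presheaf.stalk z) (((Scheme.Modules.pullback i).obj Ω).presheaf.stalk z) :=
    .of_algebraMap_smul fun _ _ => rfl
  haveI : IsScalarTower Γ(Z, U) (Z.presheaf.stalk z) ((Omega.conormal i).presheaf.stalk z) :=
    .of_algebraMap_smul fun _ _ => rfl
  haveI := FlatLocus.isLocalizedModule_germL ((Scheme.Modules.pullback i).obj Ω) hU z hxW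
  haveI := FlatLocus.isLocalizedModule_germL (Omega.conormal i) hU z hxW
  let S := (hU.primeIdealOf ⟨z, hxW⟩).asIdeal.primeCompl
  let gM := FlatLocus.germL (Omega.conormal i) U z hxW
  let gN := FlatLocus.germL ((Scheme.Modules.pullback i).obj Ω) U z hxW
  let ρ := LinearMap.extendScalarsOfIsLocalization S (Z.presheaf.stalk z) (IsLocalizedModule.map S gN gM ρU)
  refine ⟨ρ, fun m => ?_⟩
  obtain ⟨⟨a, s⟩, hm⟩ := IsLocalizedModule.surj S gM m
  have hu : IsUnit (algebraMap Γ(Z, U) (Z.presheaf.stalk z) s) := IsLocalization.map_units _ s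
  refine hu.smul_left_cancel.1 ?_
  rw [← map_smul, ← map_smul]
  have hm' : algebraMap Γ(Z, U) (Z.presheaf.stalk z) (s : Γ(Z, U)) • m = gM a := hm
  rw [hm']
  show IsLocalizedModule.map S gN gM ρU (stalkLin φ z (gM a)) = gM a
  have hg : stalkLin φ z (gM a) = gN (φU a) := stalkLin_germ φ z hxW a
  rw [hg, IsLocalizedModule.map_apply, hρU]

end Groth.Agent.SubAdjLib.Normal

namespace Groth.Agent.SubAdjLib.Normal

variable {k : Type u} [Field k] {X : Scheme.{u}} [X.Over (Spec (CommRingCat.of k))]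
  [IsProper (X ↘ Spec (CommRingCat.of k))]

include k in
/-- Maps to the free module with left inverses outside a finite set kill the first cohomology of the dual. -/
theorem subsingleton_H1_dual (hdim : topologicalKrullDim X ≤ 1) {C L : X.Modules} (hC : Coh.IsCoh C)
    [DCoh.HasSheafHom C] (hL : PicF.IsInvertible L) (h1 : Subsingleton (Coh.HH X L 1)) {m : ℕ}
    (Φ : tmod L C ⟶ FlatMod.freeMod X m) {D : Set X} (hD : IsClosed D) (hd : topologicalKrullDim D ≤ 0)
    (hΦ : ∀ x, x ∉ D → ∃ R : (FlatMod.freeMod X m).presheaf.stalk x →ₗ[X.presheaf.stalk x] (tmod L C).presheaf.stalk x,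
      ∀ t, R (stalkLin Φ x t) = t) :
    Subsingleton (Coh.HH X ((DCoh.sheafHom C).obj (Coh.structureModule X)) 1) := by
  classical
  haveI := EulerIneqLib.isNoetherian_proper (X := X) k
  haveI : ModSite.HasSheafHom (O := X.sheaf) C := ModTensor.hasSheafHom (O := X.sheaf) C
  let O := Coh.structureModule X
  let proj : Fin m → (FlatMod.freeMod X m ⟶ O) := fun j => Sigma.desc fun l => if l = j then 𝟙 _ else 0
  let a : Fin m → (L ⟶ (StalkHomLib.hF C).obj O) := fun j =>
    (ModSite.sheafHomAdj (O := X.sheaf) C).homEquiv L O (Φ ≫ proj j : tmod L C ⟶ O)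
  let P : X.Modules := ∐ fun _ : Fin m => L
  let f : P ⟶ (StalkHomLib.hF C).obj O := Sigma.desc a
  have hf : ∀ x, x ∉ D → Function.Surjective (stalkLin f x) := by
    intro x hx z
    obtain ⟨R, hR⟩ := hΦ x hx
    obtain ⟨g, hg⟩ := ParaFLib.exists_stalk_gen hL x
    let eg : X.presheaf.stalk x ≃ₗ[X.presheaf.stalk x] L.presheaf.stalk x :=
      LinearEquiv.ofBijective (LinearMap.toSpanSingleton _ _ g) hg
    let l := StalkHomLib.theta C O x z
    let Λ : (tmod L C).presheaf.stalk x →ₗ[X.presheaf.stalk x] O.presheaf.stalk x :=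
      (TensorProduct.lift ((LinearMap.lsmul (X.presheaf.stalk x) (O.presheaf.stalk x)).compl₂ l ∘ₗ eg.symm.toLinearMap)) ∘ₗ
        (stalkTensor x L C).symm.toLinearMap
    have hΛ : ∀ c, Λ (stalkTensor x L C (g ⊗ₜ c)) = l c := fun c => by
      show TensorProduct.lift _ ((stalkTensor x L C).symm (stalkTensor x L C _)) = _
      rw [LinearEquiv.symm_apply_apply, TensorProduct.lift.tmul]
      show eg.symm g • l c = l c
      rw [show eg.symm g = 1 from eg.injective (by rw [LinearEquiv.apply_symm_apply]; exact (one_smul (X.presheaf.stalk x) g).symm), one_smul]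
    choose r hr using fun j => (ParaFLib.bijective_oneG x).2 (Λ (R (DegDevLib.stdGerm m x j)))
    refine ⟨∑ j, stalkLin (Sigma.ι (fun _ : Fin m => L) j) x (r j • g), ?_⟩
    refine StalkHomLib.theta_bijective C x hC O |>.1 (LinearMap.ext fun c => ?_)
    rw [map_sum, map_sum, LinearMap.sum_apply]
    obtain ⟨v, hv⟩ := (DegDevLib.stdGerm_bijective m x).2 (stalkLin Φ x (stalkTensor x L C (g ⊗ₜ c)))
    rw [Fintype.linearCombination_apply] at hv
    have hc : ∀ j, stalkLin (proj j) x (stalkLin Φ x (stalkTensor x L C (g ⊗ₜ c))) = v j • ParaFLib.oneG x := by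
      intro j
      rw [← hv, map_sum, Finset.sum_eq_single j]
      · rw [map_smul, DegDevLib.stdGerm, ← LinearMap.comp_apply, ← stalkLin_comp]
        rw [show Sigma.ι (fun _ : Fin m => Coh.structureModule X) j ≫ proj j = 𝟙 _ from by simp [proj, O]]
        rw [stalkLin_id]; rfl
      · intro l _ hl
        rw [map_smul, DegDevLib.stdGerm, ← LinearMap.comp_apply, ← stalkLin_comp]
        rw [show Sigma.ι (fun _ : Fin m => Coh.structureModule X) l ≫ proj j = 0 from by simp [proj, O, hl]]
        rw [DegDevLib.stdGerm_bijective.stalkLin_zero_apply, smul_zero]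
      · exact fun h => absurd (Finset.mem_univ j) h
    have hlc : l c = ∑ j, r j • v j • ParaFLib.oneG x := by
      rw [← hΛ c, ← hR (stalkTensor x L C (g ⊗ₜ c)), ← hv, map_sum, map_sum]
      refine Finset.sum_congr rfl fun j _ => ?_
      rw [map_smul, map_smul, ← hr j, smul_comm]
    refine Eq.trans ?_ hlc.symm
    refine Finset.sum_congr rfl fun j _ => ?_
    rw [← LinearMap.comp_apply (stalkLin f x), ← stalkLin_comp, Sigma.ι_desc, StalkHomLib.theta_transpose,
      Equiv.symm_apply_apply, ← TensorProduct.smul_tmul', map_smul, map_smul, stalkLin_comp, LinearMap.comp_apply]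
    exact congrArg (r j • ·) (hc j)
  have h2 : Subsingleton (Coh.HH X P 1) := HodgePnLib.subsingleton_sigma k (fun _ : Fin m => L) fun _ => h1
  have h3 : Subsingleton (Coh.HH X ((StalkHomLib.hF C).obj O) 1) :=
    (hMap_one_surjective (k := k) hdim f hD hd hf).subsingleton
  exact HodgePnLib.subsingleton_iso k
    ((Adjunction.rightAdjointUniq (ModSite.sheafHomAdj (O := X.sheaf) C)
      ((DCoh.sheafHomAdj C).ofNatIsoLeft (ModTensor.tensorSymm X.sheaf C).symm)).app O) h3

end Groth.Agent.SubAdjLib.Normal
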