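import Groth.Agent.SubAdjLib.NodeBranch

/-!
# Euler characteristic from the components
-/

set_option autoImplicit false
set_option backward.isDefEq.respectTransparency false
set_option backward.isDefEq.respectTransparency.types false
set_option linter.style.haveILetI false
set_option maxHeartbeats 1000000

universe u

open CategoryTheory CategoryTheory.Limits AlgebraicGeometry TopologicalSpace Opposite
open Groth.Agent.PullbackMod Groth.Agent.DCohLib Groth.Agent.CurveLib Groth.Agent.H1ZeroLib
open Groth.Agent.CliffCurveLib

noncomputable section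

namespace Groth.Agent.SubAdjLib

variable {X : Scheme.{u}} [IsReduced X]

/-- The union of a finite family of components. -/
abbrev unionComps (s : Finset (irreducibleComponents (X : Type u))) : Closeds X := s.sup fun C => compo C.2

/-- The points on two components of a family. -/
def doublePts (s : Finset (irreducibleComponents (X : Type u))) : Set X :=
  {x | ∃ C ∈ s, ∃ D ∈ s, C ≠ D ∧ x ∈ (C : Set X) ∧ x ∈ (D : Set X)}

theorem mem_unionComps {s : Finset (irreducibleComponents (X : Type u))} {x : X} :
    x ∈ unionComps s ↔ ∃ C ∈ s, x ∈ (C : Set X) := by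
  classical
  induction s using Finset.induction_on with
  | empty => simp only [unionComps, Finset.sup_empty, Finset.notMem_empty, false_and, exists_false, iff_false]; exact id
  | insert C s _ ih =>
    rw [unionComps, Finset.sup_insert]
    refine ⟨?_, ?_⟩
    · rintro (h | h)
      · exact ⟨C, Finset.mem_insert_self _ _, h⟩
      · obtain ⟨D, hD, hx⟩ := ih.1 h
        exact ⟨D, Finset.mem_insert_of_mem hD, hx⟩
    · rintro ⟨D, hD, hx⟩
      rcases Finset.mem_insert.1 hD with rfl | hD'
      · exact Or.inl hx
      · exact Or.inr (ih.2 ⟨D, hD', hx⟩)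

variable (k : Type u) [Field k] [IsAlgClosed k] [X.Over (Spec (CommRingCat.of k))] [IsProper (X ↘ Spec (CommRingCat.of k))]

include k in
/-- Unions of different components meet in reduced points. -/
theorem vI_sup_comp [ConnectedSpace X] (hdim : topologicalKrullDim X = 1) (hX : Curv2.AtWorstNodal k X)
    {C : Set X} (hC : C ∈ irreducibleComponents (X : Type u)) {B : Closeds X} (hB : B ≤ compl (compo hC)) :
    vI (compo hC) ⊔ vI B = vI (compo hC ⊓ B) := by
  haveI := EulerIneqLib.isNoetherian_proper (X := X) k
  refine DivisorialLib.ext_stalk fun x => le_antisymm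
    (stalkIdeal_mono (sup_le (vI_mono inf_le_left) (vI_mono inf_le_right)) x) ?_
  rw [stalkIdeal_sup]
  by_cases hxC : x ∈ compo hC
  swap
  · rw [stalkIdeal_vI_top hxC, top_sup_eq]; exact le_top
  by_cases hxB : x ∈ B
  swap
  · rw [stalkIdeal_vI_top hxB, sup_top_eq]; exact le_top
  have h1 : IntMult.stalkIdeal (vI (compo hC ⊓ B)) x ≤ IsLocalRing.maximalIdeal (X.presheaf.stalk x) :=
    IsLocalRing.le_maximalIdeal ((mem_support_iff_stalk _ _).1 (mem_support_vI.2 (show x ∈ compo hC ⊓ B from ⟨hxC, hxB⟩)))
  have hpt : IsClosed ({x} : Set X) := by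
    rw [← CurveLib.closure_singleton_eq ((compo hC).isClosed.inter (compl (compo hC)).isClosed)
      (dim_compl_inter k hdim.le (compo hC)) (show x ∈ (compo hC : Set X) ∩ compl (compo hC) from ⟨hxC, hB hxB⟩)]
    exact isClosed_closure
  refine h1.trans ((?_ : _ ≤ IntMult.stalkIdeal (vI (compo hC) ⊔ vI (compl (compo hC))) x).trans ?_)
  · rw [vI_sup_compl k hdim hX (isSub_compo k hdim hC), ← (stalkIdeal_point hpt).1]
    refine stalkIdeal_vI_le (T := (⟨{x}, hpt⟩ : Closeds X)) fun hc => ?_
    have hfin := (CurveLib.finite_of_dim_le_zero ((compo hC).isClosed.inter (compl (compo hC)).isClosed)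
      (dim_compl_inter k hdim.le (compo hC))).subset
        (Set.sdiff_subset : ((compo hC ⊓ compl (compo hC) : Closeds X) : Set X) \ {x} ⊆ _)
    have hcl : IsClosed (((compo hC ⊓ compl (compo hC) : Closeds X) : Set X) \ {x}) := by
      rw [← Set.biUnion_of_singleton (((compo hC ⊓ compl (compo hC) : Closeds X) : Set X) \ {x})]
      exact hfin.isClosed_biUnion fun v hv => by
        rw [← CurveLib.closure_singleton_eq ((compo hC).isClosed.inter (compl (compo hC)).isClosed)
          (dim_compl_inter k hdim.le (compo hC)) (show v ∈ (compo hC : Set X) ∩ compl (compo hC) from hv.1)]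
        exact isClosed_closure
    exact (hcl.closure_eq.le hc).2 rfl
  · rw [stalkIdeal_sup]
    exact sup_le_sup_left (stalkIdeal_mono (vI_mono hB) x) _

include k in
/-- `χ` of a union of components is the sum over the components less the double points. -/
theorem euler_unionComps [ConnectedSpace X] (hdim : topologicalKrullDim X = 1) (hX : Curv2.AtWorstNodal k X)
    (s : Finset (irreducibleComponents (X : Type u))) :
    (doublePts s).Finite ∧ Curv2.euler k X (ClSub.quotMod (vI (unionComps s))) + (doublePts s).ncard =
      ∑ C ∈ s, (1 - (gS k (compo C.2) : ℤ)) := by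
  classical
  haveI := EulerIneqLib.isNoetherian_proper (X := X) k
  induction s using Finset.induction_on with
  | empty =>
    have h0 : doublePts (X := X) ∅ = ∅ := Set.eq_empty_iff_forall_notMem.2 fun x ⟨C, hC, _⟩ => Finset.notMem_empty C hC
    refine ⟨h0 ▸ Set.finite_empty, ?_⟩
    have hemp : ((unionComps (X := X) ∅ : Closeds X) : Set X) = ∅ := by rw [unionComps, Finset.sup_empty]; rfl
    have hs : CohB1.support (ClSub.quotMod (vI (unionComps (X := X) ∅))) = ∅ :=
      Set.subset_empty_iff.1 ((IntLib.support_quotMod_subset _).trans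
        ((Scheme.IdealSheafData.coe_support_vanishingIdeal _).trans hemp).le)
    haveI := subsingleton_H0_of_support_empty _ hs
    rw [euler_of_dim_le_zero (k := k) (C := (∅ : Set X)) isClosed_empty hs.le
      (topologicalKrullDim_zero_of_discreteTopology (∅ : Set X)), Module.finrank_zero_of_subsingleton, h0]
    simp
  | insert C s hCs ih =>
    obtain ⟨hfin, heq⟩ := ih
    let U := unionComps s
    have hU : U ≤ compl (compo C.2) := fun x hx => by
      obtain ⟨D, hD, hxD⟩ := mem_unionComps.1 hx
      exact subset_closure_compl C.2 D.2 (fun e => hCs (Subtype.ext e ▸ hD)) hxD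
    have hd : topologicalKrullDim ((compo C.2 : Set X) ∩ U : Set X) ≤ 0 :=
      CliffCurveLib.dim_mono (Set.inter_subset_inter_right _ hU) (dim_compl_inter k hdim.le (compo C.2))
    have hfinCU := CurveLib.finite_of_dim_le_zero ((compo C.2).isClosed.inter U.isClosed) hd
    have hset : doublePts (insert C s) = doublePts s ∪ ((compo C.2 : Set X) ∩ U) := by
      ext x
      constructor
      · rintro ⟨A, hA, B, hB, hne, hxA, hxB⟩
        rcases Finset.mem_insert.1 hA with rfl | hA'
        · rcases Finset.mem_insert.1 hB with rfl | hB'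
          · exact absurd rfl hne
          · exact Or.inr ⟨hxA, mem_unionComps.2 ⟨B, hB', hxB⟩⟩
        · rcases Finset.mem_insert.1 hB with rfl | hB'
          · exact Or.inr ⟨hxB, mem_unionComps.2 ⟨A, hA', hxA⟩⟩
          · exact Or.inl ⟨A, hA', B, hB', hne, hxA, hxB⟩
      · rintro (⟨A, hA, B, hB, hne, hxA, hxB⟩ | ⟨hxC, hxU⟩)
        · exact ⟨A, Finset.mem_insert_of_mem hA, B, Finset.mem_insert_of_mem hB, hne, hxA, hxB⟩
        · obtain ⟨B, hB, hxB⟩ := mem_unionComps.1 hxU
          exact ⟨C, Finset.mem_insert_self _ _, B, Finset.mem_insert_of_mem hB, fun e => hCs (e ▸ hB), hxC, hxB⟩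
    have hdisj : Disjoint (doublePts s) ((compo C.2 : Set X) ∩ U) :=
      Set.disjoint_left.2 fun x ⟨A, hA, B, hB, hne, hxA, hxB⟩ hx =>
        not_three_components k hdim hX A.2 B.2 C.2 (fun e => hne (Subtype.ext e))
          (fun e => hCs (Subtype.ext e ▸ hA)) (fun e => hCs (Subtype.ext e ▸ hB)) hxA hxB hx.1
    refine ⟨hset ▸ hfin.union hfinCU, ?_⟩
    have hkk : kk k (compo C.2) U = ((compo C.2 : Set X) ∩ U).ncard := by
      show Module.finrank k (Coh.HH X (ClSub.quotMod (vI (compo C.2) ⊔ vI U)) 0) = _
      rw [vI_sup_comp k hdim hX C.2 hU, h0_quot_finite k (F := compo C.2 ⊓ U) hd, Nat.card_coe_set_eq]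
      rfl
    have h1 := euler_quotMod_split (k := k) (S := unionComps (insert C s)) (T := compo C.2) (Z := U)
      (by rw [unionComps, Finset.sup_insert]) hd
    rw [euler_quot k hdim.le (isSub_compo k hdim C.2), hkk] at h1
    rw [hset, Set.ncard_union_eq hdisj hfin hfinCU, Finset.sum_insert hCs, ← heq]
    push_cast
    linarith

include k in
/-- The genus formula through the components. -/
theorem genus_eq_count [ConnectedSpace X] (hdim : topologicalKrullDim X = 1) (hX : Curv2.AtWorstNodal k X)
    [Fintype (irreducibleComponents (X : Type u))] :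
    (doublePts (X := X) Finset.univ).Finite ∧
      1 - (Curv2.genus k X : ℤ) + (doublePts (X := X) Finset.univ).ncard =
        ∑ C : irreducibleComponents (X : Type u), (1 - (gS k (compo C.2) : ℤ)) := by
  obtain ⟨hfin, heq⟩ := euler_unionComps k hdim hX (Finset.univ : Finset (irreducibleComponents (X : Type u)))
  refine ⟨hfin, ?_⟩
  have htop : unionComps (Finset.univ : Finset (irreducibleComponents (X : Type u))) = ⊤ :=
    top_le_iff.1 fun x _ => mem_unionComps.2 ⟨⟨_, irreducibleComponent_mem_irreducibleComponents x⟩,
      Finset.mem_univ _, mem_irreducibleComponent⟩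
  rw [htop, euler_quot k hdim.le (isSub_top hdim), gS_top] at heq
  exact heq

include k in
/-- A node on a smooth component lies on another one. -/
theorem exists_two_of_node [ConnectedSpace X] (hdim : topologicalKrullDim X = 1) {x : X}
    (hn : Curv2.IsNode k X x) {C : Set X} (hC : C ∈ irreducibleComponents (X : Type u)) (hxC : x ∈ C)
    (hsm : CurvSt.IsSmRatComp k X (X ↘ Spec (CommRingCat.of k)) C) : x ∈ closure Cᶜ := by
  haveI := EulerIneqLib.isNoetherian_proper (X := X) k
  by_contra hx
  have hc : ∀ Z ∈ irreducibleComponents (X : Type u), topologicalKrullDim Z = 1 := fun Z hZ =>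
    TwistShriek.dim_irreducibleComponent k hdim hZ
  obtain ⟨-, e, he, heq, hrange⟩ := hsm
  haveI := he
  obtain ⟨w, rfl⟩ : x ∈ Set.range e.base := hrange ▸ hxC
  haveI : Smooth (CohB1.ProjSpace.toSpec 1 k) := ProjSmoothLib.smooth_toSpec 1 k
  haveI hreg : IsRegularLocalRing ((CohB1.ProjSpace 1 k).presheaf.stalk w) :=
    ASp.isRegularLocalRing_stalk_of_smooth_field (CohB1.ProjSpace.toSpec 1 k) w
  haveI : IsReduced (CohB1.ProjSpace 1 k) := by
    haveI := REqLib.isIntegral_projSpace 1 k
    infer_instance
  -- the kernel of the surjection on stalks is the ideal of the component, which vanishes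
  have hbij : Function.Bijective (e.stalkMap w).hom := by
    refine ⟨(injective_iff_map_eq_zero _).2 fun r hr => ?_, e.stalkMap_surjective w⟩
    have h1 : r ∈ IntMult.stalkIdeal (vI (compo hC)) (e.base w) := by
      have hker : e.ker = vI (compo hC) := by
        have hrad : e.ker.radical = e.ker := by
          refine le_antisymm (fun V => ?_) (Scheme.IdealSheafData.le_radical _)
          rw [Scheme.IdealSheafData.radical_ideal, Scheme.Hom.ker_apply]
          intro a ha
          obtain ⟨n, hn⟩ := ha
          rw [RingHom.mem_ker, map_pow] at hn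
          exact RingHom.mem_ker.2 (IsNilpotent.eq_zero ⟨n, hn⟩)
        rw [← hrad, ← Scheme.IdealSheafData.vanishingIdeal_support]
        refine congrArg Scheme.IdealSheafData.vanishingIdeal (SetLike.coe_injective ?_)
        rw [Scheme.Hom.support_ker, hrange, (isClosed_of_mem_irreducibleComponents C hC).closure_eq]
        rfl
      have key : ∀ (J : X.IdealSheafData) (g : CohB1.ProjSpace 1 k ⟶ J.subscheme), IsIso g →
          g ≫ J.subschemeι = e → r ∈ IntMult.stalkIdeal J (e.base w) := by
        rintro J g hg rfl
        haveI := hg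
        have h3 : r ∈ RingHom.ker (J.subschemeι.stalkMap (g.base w)).hom := by
          refine RingHom.mem_ker.2 ((ConcreteCategory.bijective_of_isIso (g.stalkMap w)).1 ?_)
          rw [map_zero]
          rw [Scheme.Hom.stalkMap_comp] at hr
          exact hr
        rw [IdealStalkLib.ker_stalkMap_subschemeι] at h3
        exact h3
      exact hker ▸ key e.ker e.toImage inferInstance e.toImage_imageι
    have h2 := stalkIdeal_inf_le (T := compo hC) (Z := compl (compo hC)) (S := ⊤) (sup_compl (compo hC)) (e.base w)
      (⟨h1, by rw [stalkIdeal_vI_top (S := compl (compo hC)) hx]; trivial⟩)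
    rw [show vI (⊤ : Closeds X) = ⊥ from vI_top, stalkIdeal_bot'] at h2
    exact h2
  haveI : IsRegularLocalRing (X.presheaf.stalk (e.base w)) :=
    IsRegularLocalRing.of_ringEquiv (RingEquiv.ofBijective (e.stalkMap w).hom hbij).symm
  obtain ⟨d, hd'⟩ : ∃ d : ℕ, ringKrullDim (X.presheaf.stalk (e.base w)) = d :=
    ⟨_, (IsRegularLocalRing.spanFinrank_maximalIdeal (R := X.presheaf.stalk (e.base w))).symm⟩
  haveI : IsDomain (X.presheaf.stalk (e.base w)) := RegLocal.isDomain_aux d _ hd'
  have hd := DeltaBC.dim_stalk_eq_one hc hn.1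
  haveI := VBLib.isPrincipalIdealRing_of_regular (X.presheaf.stalk (e.base w)) hd.le
  have h0 : Curv2.deltaInv (X.presheaf.stalk (e.base w)) = 0 := by
    refine (S7653.result _ (DeltaBC.isNagata_stalk k X (e.base w)) hd).2 ⟨inferInstance, ?_⟩
    have hne : ¬ IsField (X.presheaf.stalk (e.base w)) := fun hf => by
      rw [ringKrullDim_eq_zero_of_isField hf] at hd
      exact zero_ne_one hd
    exact ((IsDiscreteValuationRing.TFAE (X.presheaf.stalk (e.base w)) hne).out 4 0).1 (IsPrincipalIdealRing.principal _)
  rw [DeltaBC.deltaInv_node (k := k) hc hn] at h0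
  exact one_ne_zero h0

end Groth.Agent.SubAdjLib
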