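import Groth.Agent.SubAdjLib.Tree
import Groth.Agent.SubAdjLib.Graph

/-!
# Boundary points are nodes
-/

set_option autoImplicit false
set_option backward.isDefEq.respectTransparency false
set_option backward.isDefEq.respectTransparency.types false
set_option linter.style.haveILetI false
set_option maxHeartbeats 1000000

universe u

open CategoryTheory CategoryTheory.Limits AlgebraicGeometry TopologicalSpace Opposite
open Groth.Agent.PullbackMod Groth.Agent.DCohLib Groth.Agent.CurveLib Groth.Agent.H1ZeroLib
open Groth.Agent.CliffCurveLib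

noncomputable section

namespace Groth.Agent.SubAdjLib

variable {X : Scheme.{u}} (k : Type u) [Field k] [X.Over (Spec (CommRingCat.of k))]
  [IsProper (X ↘ Spec (CommRingCat.of k))]

include k in
/-- The boundary points of a subcurve are nodes. -/
theorem boundary_subset_nodes [ConnectedSpace X] (hdim : topologicalKrullDim X = 1)
    (hX : Curv2.AtWorstNodal k X) {S : Closeds X} (hS : IsSub S) :
    (S : Set X) ∩ compl S ⊆ {x : X | Curv2.IsNode k X x} := by
  haveI := EulerIneqLib.isNoetherian_proper (X := X) k
  intro x hx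
  have hc : ∀ Z ∈ irreducibleComponents (X : Type u), topologicalKrullDim Z = 1 := fun Z hZ =>
    TwistShriek.dim_irreducibleComponent k hdim hZ
  refine (NodePtLib.smooth_or_node_at hc hX x).resolve_left fun hs => ?_
  have hun : (S : Set X) ∪ compl S = Set.univ := by rw [← Closeds.coe_sup, sup_compl, Closeds.coe_top]
  obtain ⟨ξ, hξ, hξx, -⟩ := exists_generic_of_mem_closure S.isClosed (show x ∈ closure (S : Set X)ᶜ from hx.2)
  have hA : x ∈ closure ((compl S : Set X)ᶜ) :=
    closure_mono (fun z hz => hz.2) (dense_of_isSub k hdim.le hS hx.1)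
  obtain ⟨η, hη, hηx, -⟩ := exists_generic_of_mem_closure (compl S).isClosed hA
  have e := component_unique_of_smooth k hs (irreducibleComponent_mem_irreducibleComponents ξ)
    (irreducibleComponent_mem_irreducibleComponents η)
    (hξx.mem_closed isClosed_irreducibleComponent mem_irreducibleComponent)
    (hηx.mem_closed isClosed_irreducibleComponent mem_irreducibleComponent)
  -- the component leaves `S` and `compl S`
  have hirr : IsPreirreducible (irreducibleComponent ξ) := isIrreducible_irreducibleComponent.2
  rcases (isPreirreducible_iff_isClosed_union_isClosed.1 hirr) (S : Set X) (compl S : Set X) S.isClosed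
    (compl S).isClosed (fun z _ => (Set.ext_iff.1 hun z).2 trivial) with h | h
  · exact hξ (h mem_irreducibleComponent)
  · exact hη (h (e ▸ mem_irreducibleComponent))

/-- The intersection numbers bound the common points. -/
theorem card_inter_le_kk [IsAlgClosed k] (A B : Closeds X) (hd : topologicalKrullDim ((A : Set X) ∩ B : Set X) ≤ 0) :
    Nat.card ((A : Set X) ∩ B : Set X) ≤ kk k A B := by
  haveI := EulerIneqLib.isNoetherian_proper (X := X) k
  have hle : vI A ⊔ vI B ≤ vI (A ⊓ B) := sup_le (vI_mono inf_le_left) (vI_mono inf_le_right)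
  have hs : ((vI A ⊔ vI B).support : Set X) = (A : Set X) ∩ B := by
    rw [Scheme.IdealSheafData.support_sup, support_vanishingIdeal', support_vanishingIdeal']
    rfl
  have hse := euler_shortExact (K := k) (kerSeq_shortExact (qmap hle) (surjective_qmap _))
    (QCohLib.isCoh_kernel_cokernel _ (IntLib.isCoh_quotMod _) (IntLib.isCoh_quotMod _)).1
    (IntLib.isCoh_quotMod _) (IntLib.isCoh_quotMod _)
  change Curv2.euler k X (ClSub.quotMod (vI A ⊔ vI B)) = Curv2.euler k X (kernel (qmap hle)) +
    Curv2.euler k X (ClSub.quotMod (vI (A ⊓ B))) at hse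
  have hk : CohB1.support (kernel (qmap hle)) ⊆ (A : Set X) ∩ B := fun y hy => by
    by_contra hyn
    haveI : Subsingleton ((ClSub.quotMod (vI A ⊔ vI B)).presheaf.stalk y) :=
      DevLib.subsingleton_of_notMem fun h => hyn (hs.le (IntLib.support_quotMod_subset _ h))
    exact hy ⟨fun a b => (mono_iff_stalk (kernel.ι (qmap hle))).1 inferInstance y (Subsingleton.elim _ _)⟩
  rw [euler_of_dim_le_zero (k := k) (A.isClosed.inter B.isClosed) ((IntLib.support_quotMod_subset _).trans hs.le) hd,
    euler_of_dim_le_zero (k := k) (A.isClosed.inter B.isClosed) hk hd,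
    euler_of_dim_le_zero (k := k) (C := ((A ⊓ B : Closeds X) : Set X)) (A ⊓ B).isClosed
      ((IntLib.support_quotMod_subset _).trans (Scheme.IdealSheafData.coe_support_vanishingIdeal (A ⊓ B)).le) hd,
    h0_quot_finite k (F := A ⊓ B) hd] at hse
  show Nat.card ((A ⊓ B : Closeds X) : Set X) ≤ Module.finrank k (Coh.HH X (ClSub.quotMod (vI A ⊔ vI B)) 0)
  omega

/-- Two components of a tree share at most one point. -/
theorem kk_le_one_of_tree [IsReduced X] [ConnectedSpace X] [IsAlgClosed k] (hdim : topologicalKrullDim X = 1)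
    (hg : ∀ S : Closeds X, gS k S = 0) {A B : Closeds X} (hA : IsSub A) (hB : IsSub B)
    (hd : topologicalKrullDim ((A : Set X) ∩ B : Set X) ≤ 0) : kk k A B ≤ 1 := by
  haveI := EulerIneqLib.isNoetherian_proper (X := X) k
  have h1 := euler_quotMod_split (k := k) (S := A ⊔ B) (T := A) (Z := B) rfl hd
  rw [euler_quot k hdim.le hA, euler_quot k hdim.le hB, euler_eq_sub (k := k) hdim.le, hg, hg] at h1
  have h2 : Module.finrank k (Coh.HH X (ClSub.quotMod (vI (A ⊔ B))) 1) = 0 := hg _
  have h3 := h0_quotMod_pos (k := k) (S := A ⊔ B) (Set.Nonempty.mono Set.subset_union_left hA.1.1)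
  rw [h2] at h1
  omega

end Groth.Agent.SubAdjLib
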