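import Groth.Agent.SubAdjLib.FlfSplit
import Groth.Agent.SubAdjLib.Semistable
import Groth.Agent.SubAdjLib.NodalSub
import Groth.Agent.EtAlgEasy.ConormalStalk
import Groth.Agent.AmpleLib.ExtendMod
import Groth.Agent.TwistShriek.SurfConn
import Groth.Agent.TwistShriek.PointTwist

/-!
# Locally free modules generated on every component of a tree of rational curves
-/

set_option autoImplicit false
set_option backward.isDefEq.respectTransparency false
set_option backward.isDefEq.respectTransparency.types false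
set_option linter.style.haveILetI false
set_option maxHeartbeats 1000000

universe u

open CategoryTheory CategoryTheory.Limits AlgebraicGeometry TopologicalSpace Opposite
open Groth.Agent.PullbackMod Groth.Agent.DCohLib Groth.Agent.CurveLib Groth.Agent.H1ZeroLib
open Groth.Agent.CliffCurveLib
open scoped TensorProduct

attribute [local instance] HasDerivedCategory.standard

noncomputable section

namespace Groth.Agent.SubAdjLib.TreeBundle

variable {X : Scheme.{u}}

/-- Tensoring with an invertible module on the right is faithful. -/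
theorem eq_zero_of_tmap {A B L : X.Modules} (hL : PicF.IsInvertible L) (f : A ⟶ B) (h : tmap f L = 0) : f = 0 := by
  refine hom_ext_stalk fun y => LinearMap.ext fun a => ?_
  rw [DevLib.stalkLin_zero, LinearMap.zero_apply]
  obtain ⟨e, he⟩ := ParaFLib.exists_stalk_gen hL y
  let eL : X.presheaf.stalk y ≃ₗ[X.presheaf.stalk y] L.presheaf.stalk y :=
    LinearEquiv.ofBijective (LinearMap.toSpanSingleton _ _ e) he
  have h1 : (stalkLin f y).rTensor (L.presheaf.stalk y) (a ⊗ₜ[X.presheaf.stalk y] e) = 0 := by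
    refine (stalkTensor y B L).injective ?_
    rw [map_zero, ← stalkTensor_natural_left]
    show stalkLin (tmap f L) y _ = 0
    rw [h, DevLib.stalkLin_zero, LinearMap.zero_apply]
  rw [LinearMap.rTensor_tmul] at h1
  have h2 := congrArg ((TensorProduct.congr (LinearEquiv.refl (X.presheaf.stalk y) (B.presheaf.stalk y)) eL.symm).trans
      (TensorProduct.rid (X.presheaf.stalk y) (B.presheaf.stalk y))) h1
  have he1 : eL.symm e = 1 := eL.injective (by rw [eL.apply_symm_apply]; exact (one_smul (X.presheaf.stalk y) e).symm)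
  simpa [he1] using h2

variable {k : Type u} [Field k] [IsAlgClosed k] [X.Over (Spec (CommRingCat.of k))]
  [IsProper (X ↘ Spec (CommRingCat.of k))]

include k in
/-- An endomorphism of the structure module of a connected reduced proper curve is zero or invertible. -/
theorem isIso_of_ne_zero [IsReduced X] [ConnectedSpace X] (e : Coh.structureModule X ⟶ Coh.structureModule X)
    (he : e ≠ 0) : IsIso e := by
  haveI := EulerIneqLib.isNoetherian_proper (X := X) k
  let M := Coh.structureModule X
  let one := (secOf M).symm (1 : Γ(X, ⊤))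
  have h1 : one ≠ 0 := fun h => by
    obtain ⟨x⟩ := (inferInstance : Nonempty X)
    have h' : (1 : Γ(X, ⊤)) = 0 := ((secOf M).apply_symm_apply _).symm.trans ((congrArg (secOf M) h).trans (map_zero _))
    exact one_ne_zero (((X.presheaf.germ ⊤ x trivial).hom.map_one.symm.trans
      (congrArg (X.presheaf.germ ⊤ x trivial).hom h')).trans (map_zero _))
  obtain ⟨c, hc⟩ := exists_smul_eq_of_finrank_eq_one (TwistShriek.finrank_H0_connected k (X := X)) h1
    ((secOf M).symm (AmpleLib.sec e))
  have hc' : Coh.toGlobal (X ↘ Spec (CommRingCat.of k)) c * 1 = AmpleLib.sec e := by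
    have h := (secOf_smul (k := k) M c one).symm.trans ((congrArg (secOf M) hc).trans ((secOf M).apply_symm_apply _))
    rw [show secOf M one = (1 : Γ(X, ⊤)) from (secOf M).apply_symm_apply _] at h
    exact h
  have hc0 : c ≠ 0 := fun h => he (DCohLib.hom_unit_ext (by
    show AmpleLib.sec e = _
    rw [← hc', h, map_zero, zero_mul]
    rfl))
  refine (isIso_iff_stalk _).2 fun x => ?_
  obtain ⟨u, hu⟩ := (hc0.isUnit.map (Coh.toGlobal (X ↘ Spec (CommRingCat.of k)))).map (X.presheaf.germ ⊤ x trivial).hom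
  have hval : ∀ r : X.presheaf.stalk x, stalkLin e x (r • ParaFLib.oneG x) = (r * u) • ParaFLib.oneG x := fun r => by
    rw [map_smul, mul_smul]
    refine congrArg (r • ·) ?_
    refine (stalkLin_germ e (U := ⊤) x trivial (1 : Γ(X, ⊤))).trans ?_
    show M.presheaf.germ ⊤ x trivial (AmpleLib.sec e) = _
    rw [← hc', hu]
    exact ParaFLib.germ_smul' (M := M) (U := ⊤) x trivial _ (1 : Γ(X, ⊤))
  refine ⟨fun a b hab => ?_, fun z => ?_⟩
  · obtain ⟨a, rfl⟩ := (ParaFLib.bijective_oneG x).2 a
    obtain ⟨b, rfl⟩ := (ParaFLib.bijective_oneG x).2 b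
    dsimp only at hab ⊢
    rw [hval, hval] at hab
    rw [(u.mul_left_inj).1 ((ParaFLib.bijective_oneG x).1 hab)]
  · obtain ⟨r, rfl⟩ := (ParaFLib.bijective_oneG x).2 z
    refine ⟨(r * ↑u⁻¹) • ParaFLib.oneG x, ?_⟩
    rw [hval, mul_assoc, Units.inv_mul, mul_one]

include k in
/-- A map to the structure module which is zero or split. -/
theorem exists_split [IsReduced X] [ConnectedSpace X] {F : X.Modules} (hF : Curv2.IsGloballyGenerated F)
    (τ : F ⟶ Coh.structureModule X) (hτ : τ ≠ 0) :
    ∃ s : Coh.structureModule X ⟶ F, IsIso (s ≫ τ) := by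
  obtain ⟨ι, p, hp⟩ := hF
  by_contra h
  push Not at h
  refine hτ ((cancel_epi p).1 (Cofan.IsColimit.hom_ext (SheafOfModules.isColimitFreeCofan ι) _ _ fun i => ?_))
  by_contra hne
  refine h (SheafOfModules.ιFree i ≫ p) (isIso_of_ne_zero (k := k) _ fun h0 => hne ?_)
  exact h0.trans (by simp)

omit [X.Over (Spec (CommRingCat.of k))] [IsProper (X ↘ Spec (CommRingCat.of k))] [IsAlgClosed k] [Field k] in
/-- Values of a map whose restriction vanishes lie in the ideal. -/
theorem mem_stalkIdeal_of_pullback_eq_zero (J : X.IdealSheafData) {E : X.Modules} (σ : E ⟶ Coh.structureModule X)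
    (h : (Scheme.Modules.pullback J.subschemeι).map σ = 0) {x : X} (hx : x ∈ J.support) (e : E.presheaf.stalk x)
    {r : X.presheaf.stalk x} (hr : stalkLin σ x e = r • ParaFLib.oneG x) : r ∈ IntMult.stalkIdeal J x := by
  obtain ⟨w, rfl⟩ : ∃ w, J.subschemeι w = x := by
    rw [← Set.mem_range, Scheme.IdealSheafData.range_subschemeι]; exact hx
  let i := J.subschemeι
  letI := (i.stalkMap w).hom.toAlgebra
  obtain ⟨a, b, hab⟩ := PullbackMod.exists_stalk_square i σ w
  have h0 := hab ((1 : J.subscheme.presheaf.stalk w) ⊗ₜ e)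
  rw [h, DevLib.stalkLin_zero, LinearMap.zero_apply, LinearMap.lTensor_tmul, hr] at h0
  have h1 : (1 : J.subscheme.presheaf.stalk w) ⊗ₜ[X.presheaf.stalk (i w)] (r • ParaFLib.oneG (i w)) = 0 :=
    b.injective (h0.symm.trans (map_zero b).symm)
  let eO : X.presheaf.stalk (i w) ≃ₗ[X.presheaf.stalk (i w)] (Coh.structureModule X).presheaf.stalk (i w) :=
    LinearEquiv.ofBijective (LinearMap.toSpanSingleton _ _ (ParaFLib.oneG (i w))) (ParaFLib.bijective_oneG _)
  have h2 := congrArg ((TensorProduct.congr (LinearEquiv.refl (X.presheaf.stalk (i w)) (J.subscheme.presheaf.stalk w)) eO.symm).trans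
      (TensorProduct.rid (X.presheaf.stalk (i w)) (J.subscheme.presheaf.stalk w))) h1
  have hr1 : eO.symm (r • ParaFLib.oneG (i w)) = r := eO.symm_apply_apply r
  rw [map_zero, LinearEquiv.trans_apply, TensorProduct.congr_tmul, hr1, TensorProduct.rid_tmul, LinearEquiv.refl_apply] at h2
  have h3 : i.stalkMap w r = 0 := by
    have := h2
    rwa [Algebra.smul_def, mul_one] at this
  rw [← RingHom.mem_ker, ← EtAlgEasy.ConormalStalk.stalkIdeal_ker i w, Scheme.IdealSheafData.ker_subschemeι] at h3
  exact h3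

variable [IsReduced X] [ConnectedSpace X]

include k in
/-- A map to the structure module vanishing on one connected piece of a curve vanishes. -/
theorem eq_zero_of_vanish (hdim : topologicalKrullDim X = 1) {E : X.Modules}
    (hcomp : ∀ Z : X.IdealSheafData, IsIntegral Z.subscheme → topologicalKrullDim (Z.support : Set X) = 1 →
      Curv2.IsGloballyGenerated ((Scheme.Modules.pullback Z.subschemeι).obj E))
    (σ : E ⟶ Coh.structureModule X) (J : X.IdealSheafData) (hJne : (J.support : Set X).Nonempty)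
    (hJ : (Scheme.Modules.pullback J.subschemeι).map σ = 0) : σ = 0 := by
  haveI := EulerIneqLib.isNoetherian_proper (X := X) k
  let G : Set X := {x | ∀ (e : E.presheaf.stalk x) (r : X.presheaf.stalk x), stalkLin σ x e = r • ParaFLib.oneG x →
    r ∈ IsLocalRing.maximalIdeal (X.presheaf.stalk x)}
  let P : Set X → Prop := fun C => ∀ hC : IsClosed C, ∀ x ∈ C, ∀ (e : E.presheaf.stalk x) (r : X.presheaf.stalk x),
    stalkLin σ x e = r • ParaFLib.oneG x → r ∈ IntMult.stalkIdeal (vI ⟨C, hC⟩) x
  have key : ∀ C ∈ irreducibleComponents (X : Type u), (C ∩ G).Nonempty → P C := by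
    intro C hC ⟨x₀, hx₀C, hx₀G⟩ hcl
    haveI := isIntegral_vanishingIdeal hcl hC.1
    set i := (vI ⟨C, hcl⟩).subschemeι
    let Y := (vI ⟨C, hcl⟩).subscheme
    letI : Y.Over (Spec (CommRingCat.of k)) := ⟨i ≫ (X ↘ Spec (CommRingCat.of k))⟩
    haveI : IsProper (Y ↘ Spec (CommRingCat.of k)) :=
      inferInstanceAs (IsProper (i ≫ (X ↘ Spec (CommRingCat.of k))))
    have hd : topologicalKrullDim ((vI ⟨C, hcl⟩).support : Set X) = 1 := by
      rw [support_vanishingIdeal']; exact TwistShriek.dim_irreducibleComponent k hdim hC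
    let τ := (Scheme.Modules.pullback i).map σ ≫ (DCohLib.pullStructureIso i).hom
    suffices h0 : τ = 0 by
      intro x hx e r hr
      refine mem_stalkIdeal_of_pullback_eq_zero _ σ ?_ (mem_support_vI.2 hx) e hr
      exact (cancel_mono (DCohLib.pullStructureIso i).hom).1 (h0.trans zero_comp.symm)
    by_contra hτ
    obtain ⟨s, hs⟩ := exists_split (k := k) (hcomp _ inferInstance hd) τ hτ
    obtain ⟨w, rfl⟩ : ∃ w, i w = x₀ := by
      rw [← Set.mem_range, Scheme.IdealSheafData.range_subschemeι]; exact mem_support_vI.2 hx₀C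
    have h1 : Function.Surjective (stalkLin ((Scheme.Modules.pullback i).map σ) w) := fun z => by
      haveI : IsIso ((s ≫ (Scheme.Modules.pullback i).map σ) ≫ (DCohLib.pullStructureIso i).hom) := by
        rw [Category.assoc]; exact hs
      haveI : IsIso (s ≫ (Scheme.Modules.pullback i).map σ) := IsIso.of_isIso_comp_right _ (DCohLib.pullStructureIso i).hom
      obtain ⟨v, hv⟩ := ((isIso_iff_stalk (s ≫ (Scheme.Modules.pullback i).map σ)).1 inferInstance w).2 z
      exact ⟨stalkLin s w v, by rw [← hv, stalkLin_comp]; rfl⟩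
    letI := (i.stalkMap w).hom.toAlgebra
    rw [PullbackMod.surjective_stalk_pullback_iff] at h1
    obtain ⟨t, ht⟩ := h1 ((1 : Y.presheaf.stalk w) ⊗ₜ ParaFLib.oneG (i w))
    let eO : X.presheaf.stalk (i w) ≃ₗ[X.presheaf.stalk (i w)] (Coh.structureModule X).presheaf.stalk (i w) :=
      LinearEquiv.ofBijective (LinearMap.toSpanSingleton _ _ (ParaFLib.oneG (i w))) (ParaFLib.bijective_oneG _)
    let θ := (TensorProduct.congr (LinearEquiv.refl (X.presheaf.stalk (i w)) (Y.presheaf.stalk w)) eO.symm).trans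
      (TensorProduct.rid (X.presheaf.stalk (i w)) (Y.presheaf.stalk w))
    have hmem : ∀ t, θ ((stalkLin σ (i w)).lTensor (Y.presheaf.stalk w) t) ∈ IsLocalRing.maximalIdeal (Y.presheaf.stalk w) := by
      intro t
      induction t with
      | zero => rw [map_zero, map_zero]; exact zero_mem _
      | add a b ha hb => rw [map_add, map_add]; exact add_mem ha hb
      | tmul y e =>
        obtain ⟨r, hr⟩ := (ParaFLib.bijective_oneG (i w)).2 (stalkLin σ (i w) e)
        have hrm := hx₀G e r hr.symm
        rw [LinearMap.lTensor_tmul, LinearEquiv.trans_apply, TensorProduct.congr_tmul, ← hr,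
          show eO.symm (r • ParaFLib.oneG (i w)) = r from eO.symm_apply_apply r, TensorProduct.rid_tmul, Algebra.smul_def]
        exact Ideal.mul_mem_right _ _ fun hu => hrm (isUnit_of_map_unit (i.stalkMap w).hom r hu)
    have h4 := hmem t
    rw [ht, LinearEquiv.trans_apply, TensorProduct.congr_tmul,
      show eO.symm (ParaFLib.oneG (i w)) = 1 from eO.injective (by rw [eO.apply_symm_apply]; exact (one_smul (X.presheaf.stalk (i w)) (ParaFLib.oneG (i w))).symm),
      TensorProduct.rid_tmul, one_smul, LinearEquiv.refl_apply] at h4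
    exact (Ideal.ne_top_iff_one _).1 (IsLocalRing.maximalIdeal.isMaximal _).ne_top h4
  have sub : ∀ C ∈ irreducibleComponents (X : Type u), P C → C ⊆ G := fun C hC hP x hx e r hr =>
    stalkIdeal_le_maximal (mem_support_vI.2 hx) (hP (isClosed_of_mem_irreducibleComponents C hC) x hx e r hr)
  obtain ⟨x₁, hx₁⟩ := hJne
  have hx₁G : x₁ ∈ G := fun e r hr =>
    stalkIdeal_le_maximal hx₁ (mem_stalkIdeal_of_pullback_eq_zero J σ hJ hx₁ e hr)
  have hG : ∀ C ∈ irreducibleComponents (X : Type u), (C ∩ G).Nonempty := by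
    intro C hC
    by_contra hne
    let I := irreducibleComponents (X : Type u)
    have hfin : I.Finite := TopologicalSpace.NoetherianSpace.finite_irreducibleComponents
    let A : Set X := ⋃ D ∈ {D ∈ I | (D ∩ G).Nonempty}, D
    let B : Set X := ⋃ D ∈ {D ∈ I | ¬ (D ∩ G).Nonempty}, D
    have hA : IsClosed A := (hfin.subset fun D h => h.1).isClosed_biUnion fun D h => isClosed_of_mem_irreducibleComponents D h.1
    have hB : IsClosed B := (hfin.subset fun D h => h.1).isClosed_biUnion fun D h => isClosed_of_mem_irreducibleComponents D h.1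
    have hAB : Set.univ ⊆ A ∪ B := fun x _ => by
      have hm : irreducibleComponent x ∈ I := irreducibleComponent_mem_irreducibleComponents x
      by_cases hD : (irreducibleComponent x ∩ G).Nonempty
      · exact Or.inl (Set.mem_biUnion ⟨hm, hD⟩ mem_irreducibleComponent)
      · exact Or.inr (Set.mem_biUnion ⟨hm, hD⟩ mem_irreducibleComponent)
    obtain ⟨z, -, hzA, hzB⟩ := isPreconnected_closed_iff.1 isPreconnected_univ A B hA hB hAB
      ⟨x₁, trivial, Set.mem_biUnion ⟨irreducibleComponent_mem_irreducibleComponents x₁,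
        ⟨x₁, mem_irreducibleComponent, hx₁G⟩⟩ mem_irreducibleComponent⟩
      (hC.1.1.elim fun y hy => ⟨y, trivial, Set.mem_biUnion ⟨hC, hne⟩ hy⟩)
    obtain ⟨D, ⟨hD, hDG⟩, hzD⟩ := Set.mem_iUnion₂.1 hzA
    obtain ⟨D', ⟨hD', hD'G⟩, hzD'⟩ := Set.mem_iUnion₂.1 hzB
    exact hD'G ⟨z, hzD', sub D hD (key D hD hDG) hzD⟩
  refine hom_ext_stalk fun x => LinearMap.ext fun e => ?_
  rw [DevLib.stalkLin_zero, LinearMap.zero_apply]
  obtain ⟨r, hr⟩ := (ParaFLib.bijective_oneG x).2 (stalkLin σ x e)
  have hall : ∀ s : Finset (Set X), (↑s ⊆ irreducibleComponents (X : Type u)) →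
      ∀ hcl : IsClosed (⋃ D ∈ s, D : Set X), r ∈ IntMult.stalkIdeal (vI ⟨_, hcl⟩) x := by
    classical
    intro s
    induction s using Finset.induction with
    | empty =>
      intro _ hcl
      rw [stalkIdeal_vI_top (by simp)]
      trivial
    | insert D s hD ih =>
      intro hs hcl
      rw [Finset.coe_insert, Set.insert_subset_iff] at hs
      have hDc := isClosed_of_mem_irreducibleComponents D hs.1
      have hsc : IsClosed (⋃ D ∈ s, D : Set X) :=
        s.finite_toSet.isClosed_biUnion fun D' hD' => isClosed_of_mem_irreducibleComponents D' (hs.2 hD')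
      have e' : (⟨_, hcl⟩ : Closeds X) = ⟨D, hDc⟩ ⊔ ⟨_, hsc⟩ := SetLike.coe_injective (by simp)
      rw [e', show vI ((⟨D, hDc⟩ : Closeds X) ⊔ ⟨_, hsc⟩) = vI ⟨D, hDc⟩ ⊓ vI ⟨_, hsc⟩ from
        Scheme.IdealSheafData.vanishingIdeal_sup _ _, H1ZeroLib.stalkIdeal_inf]
      refine ⟨?_, ih hs.2 hsc⟩
      by_cases hxD : x ∈ D
      · exact key D hs.1 (hG D hs.1) hDc x hxD e r hr.symm
      · rw [stalkIdeal_vI_top (show x ∉ (⟨D, hDc⟩ : Closeds X) from hxD)]
        trivial
  have hfin : (irreducibleComponents (X : Type u)).Finite := TopologicalSpace.NoetherianSpace.finite_irreducibleComponents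
  have hu : (⋃ D ∈ hfin.toFinset, D : Set X) = Set.univ :=
    Set.eq_univ_of_forall fun y => Set.mem_biUnion (hfin.mem_toFinset.2 (irreducibleComponent_mem_irreducibleComponents y))
      mem_irreducibleComponent
  have hcl : IsClosed (⋃ D ∈ hfin.toFinset, D : Set X) := by rw [hu]; exact isClosed_univ
  have h2 := hall hfin.toFinset (by rw [hfin.coe_toFinset]) hcl
  rw [show (⟨_, hcl⟩ : Closeds X) = ⊤ from SetLike.coe_injective hu, vI_top] at h2
  rw [← hr]
  have h3 : qv (⊥ : X.IdealSheafData) x r = 0 := (qv_eq_zero_iff _ _ _).2 h2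
  haveI := isIso_toSubscheme_bot (X := X)
  exact ((isIso_iff_stalk (ClSub.toSubscheme (⊥ : X.IdealSheafData))).1 inferInstance x).1 (h3.trans (map_zero _).symm)

end Groth.Agent.SubAdjLib.TreeBundle

namespace Groth.Agent.SubAdjLib.TreeBundle

variable {X : Scheme.{u}} {k : Type u} [Field k] [X.Over (Spec (CommRingCat.of k))]
  [IsProper (X ↘ Spec (CommRingCat.of k))]

/-- Finitely many global sections generate `O/I_S ⊗ E` at the points of `S`. -/
def Gen (E : X.Modules) (S : Closeds X) : Prop :=
  ∃ (n : ℕ) (σ : Fin n → (Coh.structureModule X ⟶ LJ (vI S) E)),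
    ∀ x ∈ (vI S).support, (⨆ i, LinearMap.range (stalkLin (σ i) x)) = ⊤

variable [IsAlgClosed k]

include k in
/-- A part of a tree has no first cohomology in the kernel of restriction. -/
theorem subsingleton_H1_kernel (hdim : topologicalKrullDim X ≤ 1) {S T : Closeds X}
    (hT : IsSub T) (h : T ≤ S) (hg : gS k S = 0) :
    Subsingleton (Coh.HH X (kernel (qmap (vI_mono h))) 1) := by
  haveI := EulerIneqLib.isNoetherian_proper (X := X) k
  let q := qmap (vI_mono h)
  have hse := kerSeq_shortExact q (surjective_qmap (vI_mono h))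
  haveI h0T := EulerIneqLib.finite_HH (k := k) (IntLib.isCoh_quotMod (vI T)) 0
  haveI h1S : Subsingleton (Coh.HH X (ClSub.quotMod (vI S)) 1) := by
    haveI := EulerIneqLib.finite_HH (k := k) (IntLib.isCoh_quotMod (vI S)) 1
    exact (Module.finrank_eq_zero_iff_of_free k _).1 hg
  obtain ⟨x₀, hx₀⟩ := hT.1.1
  let c := (secOf (ClSub.quotMod (vI S))).symm (AmpleLib.sec (ClSub.toSubscheme (vI S)))
  have hc : hMap (k := k) q 0 c ≠ 0 := fun hc => by
    have h1 := (secOf_hMap (k := k) q c).symm.trans (congrArg (secOf (ClSub.quotMod (vI T))) hc)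
    rw [AddEquiv.apply_symm_apply, map_zero] at h1
    have h2 : ClSub.toSubscheme (vI T) = 0 := by
      rw [← toSubscheme_qmap (vI_mono h)]
      exact DCohLib.hom_unit_ext (h1.trans rfl)
    have h3 : qv (vI T) x₀ 1 = 0 := by
      show stalkLin (ClSub.toSubscheme (vI T)) x₀ _ = 0
      rw [h2, DevLib.stalkLin_zero, LinearMap.zero_apply]
    exact (H1ZeroLib.mem_support_iff_stalk _ _).1 (mem_support_vI.2 hx₀)
      ((Ideal.eq_top_iff_one _).2 ((qv_eq_zero_iff _ _ _).1 h3))
  have hsurj : Function.Surjective (hMap (k := k) q 0) := by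
    rw [← LinearMap.range_eq_top]
    refine Submodule.eq_top_of_finrank_eq (le_antisymm (Submodule.finrank_le _) ?_)
    rw [h0_quot k hT]
    haveI : Nontrivial (LinearMap.range (hMap (k := k) q 0)) :=
      ⟨⟨_, LinearMap.mem_range_self _ c⟩, 0, fun e => hc (congrArg Subtype.val e)⟩
    exact Module.finrank_pos
  refine subsingleton_of_forall_eq 0 fun z => ?_
  have hz : z ∈ LinearMap.ker (hMap (k := k) (kerSeq q).f 1) :=
    LinearMap.mem_ker.2 (Subsingleton.elim (α := Coh.HH X (ClSub.quotMod (vI S)) 1) _ _)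
  rw [← range_hδ hse] at hz
  obtain ⟨y, rfl⟩ := hz
  obtain ⟨y, rfl⟩ := hsurj y
  exact LinearMap.mem_ker.1 ((range_hMap_g (k := k) hse 0).le (LinearMap.mem_range_self _ y))

include k in
/-- Generating sections lift to a bigger part and generate there on the smaller one. -/
theorem exists_lift (hdim : topologicalKrullDim X ≤ 1) {S T Z : Closeds X}
    (hT : IsSub T) (h : T ≤ S) (hle : S ≤ T ⊔ Z) (hg : gS k S = 0) {E : X.Modules}
    (hE : FlatMod.IsFinLocFree E) (hTgen : Gen E T) (hZgen : Gen E Z) :
    ∃ (n : ℕ) (σ : Fin n → (Coh.structureModule X ⟶ LJ (vI S) E)),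
      ∀ x ∈ T, (⨆ i, LinearMap.range (stalkLin (σ i) x)) = ⊤ := by
  haveI := EulerIneqLib.isNoetherian_proper (X := X) k
  obtain ⟨m, τ, hτ⟩ := hZgen
  obtain ⟨n, σ, hσ⟩ := hTgen
  let q := qmap (vI_mono h)
  have hse := kerSeq_shortExact q (surjective_qmap (vI_mono h))
  haveI := subsingleton_H1_kernel (k := k) hdim hT h hg
  haveI hK : Subsingleton (Coh.HH X (tmod (kernel q) E) 1) :=
    subsingleton_H1_tensor_killed (k := k) hdim (killed_kernel_qmap h hle) E τ hτ
  have hse' : ((kerSeq q).map (tensR E)).ShortExact := by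
    haveI := hse.epi_g
    haveI := hse.mono_f
    refine { exact := hse.exact.map_of_epi_of_preservesCokernel _ hse.epi_g inferInstance
             mono_f := (mono_iff_stalk _).2 fun x a b hab => ?_
             epi_g := (inferInstance : Epi ((tensR E).map (kerSeq q).g)) }
    obtain ⟨a, rfl⟩ := (stalkTensor x (kernel q) E).surjective a
    obtain ⟨b, rfl⟩ := (stalkTensor x (kernel q) E).surjective b
    haveI := (free_finite_stalk_of_flf hE x).1
    have hab' := (stalkTensor_natural_left x (kerSeq q).f a).symm.trans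
      (hab.trans (stalkTensor_natural_left x (kerSeq q).f b))
    exact congrArg _ (Module.Flat.rTensor_preserves_injective_linearMap _
      ((mono_iff_stalk (kerSeq q).f).1 hse.mono_f x) ((stalkTensor x _ E).injective hab'))
  have hlift : ∀ t : Coh.structureModule X ⟶ LJ (vI T) E, ∃ t', t' ≫ qmapL (vI_mono h) E = t := fun t => by
    obtain ⟨c, hc⟩ := (range_hMap_g (k := k) hse' 0).ge
      (show (secOf (LJ (vI T) E)).symm (AmpleLib.sec t) ∈ LinearMap.ker _ from
        LinearMap.mem_ker.2 (Subsingleton.elim (α := Coh.HH X (tmod (kernel q) E) 1) _ _))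
    refine ⟨secHom _ (secOf (LJ (vI S) E) c), DCohLib.hom_unit_ext ?_⟩
    show (qmapL (vI_mono h) E).app ⊤ (AmpleLib.sec (secHom (LJ (vI S) E) (secOf _ c))) = AmpleLib.sec t
    rw [AmpleLib.sec_secHom]
    exact (secOf_hMap (k := k) _ c).symm.trans ((congrArg (secOf _) hc).trans ((secOf _).apply_symm_apply _))
  choose σ' hσ' using fun i => hlift (σ i)
  refine ⟨n, σ', fun x hx => ?_⟩
  let M := (LJ (vI S) E).presheaf.stalk x
  let N : Submodule (X.presheaf.stalk x) M := ⨆ i, LinearMap.range (stalkLin (σ' i) x)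
  haveI := (free_finite_stalk_of_flf hE x).2
  haveI : Module.Finite (X.presheaf.stalk x) M := by
    refine Module.Finite.of_surjective ((stalkTensor x (ClSub.quotMod (vI S)) E).toLinearMap ∘ₗ
      (TensorProduct.mk (X.presheaf.stalk x) _ _ (qv (vI S) x 1))) fun z => ?_
    obtain ⟨z, rfl⟩ := (stalkTensor x (ClSub.quotMod (vI S)) E).surjective z
    induction z with
    | zero => exact ⟨0, by rw [map_zero, map_zero]⟩
    | add a b ha hb =>
      obtain ⟨u, hu⟩ := ha
      obtain ⟨v, hv⟩ := hb
      exact ⟨u + v, by rw [map_add, map_add, hu, hv]⟩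
    | tmul a e =>
      obtain ⟨r, rfl⟩ := qv_surjective (vI S) x a
      refine ⟨r • e, ?_⟩
      show stalkTensor x (ClSub.quotMod (vI S)) E (qv (vI S) x 1 ⊗ₜ (r • e)) = _
      rw [← TensorProduct.smul_tmul, ← qv_eq_smul]
  refine eq_top_iff.2 (Submodule.le_of_le_smul_of_le_jacobson_bot (Module.Finite.fg_top)
    (IsLocalRing.maximalIdeal_le_jacobson ⊥) ?_)
  intro z _
  let φ := stalkLin (qmapL (vI_mono h) E) x
  have hφN : φ z ∈ N.map φ := by
    have : N.map φ = ⊤ := by
      rw [Submodule.map_iSup, ← hσ x (mem_support_vI.2 hx)]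
      refine iSup_congr fun i => ?_
      rw [← LinearMap.range_comp, ← stalkLin_comp, hσ' i]
    rw [this]; trivial
  obtain ⟨y, hy, hyz⟩ := hφN
  have hker : ∀ v, φ v = 0 → v ∈ IsLocalRing.maximalIdeal (X.presheaf.stalk x) • (⊤ : Submodule (X.presheaf.stalk x) M) := by
    intro v hv
    haveI := hse'.epi_g
    obtain ⟨w, rfl⟩ := (DCohLib.exact_stalkLin _ hse'.exact x v).1 hv
    obtain ⟨w, rfl⟩ := (stalkTensor x (kernel q) E).surjective w
    induction w with
    | zero => rw [map_zero, map_zero]; exact zero_mem _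
    | add a b ha hb =>
      rw [map_add, map_add]
      exact add_mem (ha (LinearMap.mem_ker.1 ((DCohLib.exact_stalkLin _ hse'.exact x).linearMap_ker_eq.ge (LinearMap.mem_range_self _ _))))
        (hb (LinearMap.mem_ker.1 ((DCohLib.exact_stalkLin _ hse'.exact x).linearMap_ker_eq.ge (LinearMap.mem_range_self _ _))))
    | tmul a e =>
      obtain ⟨r, hr⟩ := qv_surjective (vI S) x (stalkLin (kernel.ι q) x a)
      have hrT := HilbObsLib.stalk_kernel_ι_comp q x a
      rw [← hr, stalk_qmap, qv_eq_zero_iff] at hrT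
      show stalkLin (tmap (kernel.ι q) E) x (stalkTensor x (kernel q) E (a ⊗ₜ e)) ∈ _
      rw [stalkTensor_natural_left, LinearMap.rTensor_tmul, ← hr, qv_eq_smul, ← TensorProduct.smul_tmul', map_smul]
      exact Submodule.smul_mem_smul (stalkIdeal_le_maximal (mem_support_vI.2 hx) hrT) trivial
  have := Submodule.add_mem_sup hy (hker (z - y) (by rw [map_sub, hyz, sub_self]))
  convert this using 1
  exact (add_sub_cancel y z).symm

include k in
/-- On a tree, generation on every component gives generation. -/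
theorem gen_of_components [IsReduced X] (hdim : topologicalKrullDim X ≤ 1)
    (hg : Curv2.genus k X = 0) {E : X.Modules} (hE : FlatMod.IsFinLocFree E)
    (hcomp : ∀ Z : X.IdealSheafData, IsIntegral Z.subscheme → topologicalKrullDim (Z.support : Set X) = 1 →
      Curv2.IsGloballyGenerated ((Scheme.Modules.pullback Z.subschemeι).obj E))
    (S : Closeds X) (hS : IsSub S) : Gen E S := by
  haveI := EulerIneqLib.isNoetherian_proper (X := X) k
  refine sub_induction k hdim (P := Gen E) (fun S hS hi => ?_) (fun A B S hS hA hB hAB _ hGA hGB => ?_) S hS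
  · haveI := isIntegral_vanishingIdeal S.isClosed hi
    have hd : topologicalKrullDim ((vI S).support : Set X) = 1 := by
      rw [support_vanishingIdeal']
      exact eq_one_of_le ((topologicalKrullDim_subspace_le X _).trans hdim) hS.2
    haveI : IsLocallyNoetherian (vI S).subscheme := LocallyOfFiniteType.isLocallyNoetherian (vI S).subschemeι
    exact exists_sections_on (k := k) (CurveLib.isCoh_of_isFinLocFree
      (PullbackMod.isFinLocFree_pullback (vI S).subschemeι E hE)) (hcomp _ (isIntegral_vanishingIdeal S.isClosed hi) hd)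
  · have hg' : gS k S = 0 := by
      have := gS_le_genus k hdim S
      omega
    obtain ⟨n, σ, hσ⟩ := exists_lift (k := k) hdim hA (le_left hAB) hAB.ge hg' hE hGA hGB
    obtain ⟨m, τ, hτ⟩ := exists_lift (k := k) hdim hB (le_right hAB) ((sup_comm B A).trans hAB).ge hg' hE hGB hGA
    refine ⟨n + m, Fin.append σ τ, fun x hx => eq_top_iff.2 ?_⟩
    rcases (show x ∈ A ∨ x ∈ B by rw [mem_support_vI, ← hAB] at hx; exact hx) with h | h
    · rw [← hσ x h]
      exact iSup_le fun i => le_iSup_of_le (Fin.castAdd m i) (by rw [Fin.append_left])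
    · rw [← hτ x h]
      exact iSup_le fun i => le_iSup_of_le (Fin.natAdd n i) (by rw [Fin.append_right])

include k in
/-- A dualizing module of a curve of dimension one is nonzero. -/
theorem dual_ne_zero [IsReduced X] [ConnectedSpace X] (hdim : topologicalKrullDim X = 1) {ω : X.Modules}
    {tr : Coh.HH X ω 1 →ₗ[k] k} (h : Canon.IsRDualOver k X 1 ω tr) : (𝟙 ω) ≠ 0 := by
  intro h0
  haveI := EulerIneqLib.isNoetherian_proper (X := X) k
  haveI : JacobsonSpace X := LocallyOfFiniteType.jacobsonSpace (X ↘ Spec (CommRingCat.of k))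
  obtain ⟨x, -, hx⟩ := nonempty_inter_closedPoints (X := X) (Z := Set.univ) Set.univ_nonempty isClosed_univ.isLocallyClosed
  have hne : ¬ ((Set.univ : Set X) ⊆ {x}) := fun hsub => by
    have hd := (topologicalKrullDim_zero_of_discreteTopology ({x} : Set X))
    have e : topologicalKrullDim X ≤ 0 := by
      refine le_trans ?_ hd
      exact ((Homeomorph.Set.univ X).symm.trans (Homeomorph.setCongr (Set.eq_univ_of_univ_subset hsub).symm)).isHomeomorph.topologicalKrullDim_eq.le
    rw [hdim] at e
    exact absurd e (by decide)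
  obtain ⟨y, hy, hy'⟩ := nonempty_inter_closedPoints (X := X) (Z := ({x} : Set X)ᶜ)
    (Set.nonempty_compl.2 fun e => hne e.ge) hx.isOpen_compl.isLocallyClosed
  let F : Closeds X := ⟨{x, y}, hx.union hy'⟩
  have hd : topologicalKrullDim (F : Set X) ≤ 0 := dim_le_zero_of_finite k ((Set.finite_singleton y).insert x) F.isClosed
  let Z := vI F
  haveI : Mono (ClSub.idealModι Z) := by unfold ClSub.idealModι; infer_instance
  have hI : Coh.IsCoh (ClSub.idealMod Z) :=
    QCohLib.isCoh_of_mono (ClSub.idealModι Z) (DevLib.isCoh_structureModule X) (OmegaAffLib.isQCoh_idealMod Z)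
  haveI : Subsingleton (Coh.HH X (ClSub.idealMod Z) 1) := by
    haveI := EulerIneqLib.finite_HH (k := k) hI 1
    refine subsingleton_of_forall_eq 0 fun v => (Module.forall_dual_apply_eq_zero_iff k v).1 fun φ => ?_
    obtain ⟨f, rfl⟩ := (h.2 _ hI.1).2 φ
    rw [show f = 0 from (by rw [← Category.comp_id f, h0, comp_zero])]
    have hz := TwistShriek.dualityMap_add k (tr := tr) (ClSub.idealMod Z) (0 : ClSub.idealMod Z ⟶ ω) 0
    rw [add_zero] at hz
    rw [left_eq_add.1 hz]
    rfl
  have hse := DevLib.cokerSeq_shortExact (ClSub.idealModι Z)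
  have hsurj : Function.Surjective (hMap (k := k) (DevLib.cokerSeq (ClSub.idealModι Z)).g 0) := fun z =>
    (range_hMap_g (k := k) hse 0).ge (LinearMap.mem_ker.2 (Subsingleton.elim (α := Coh.HH X (ClSub.idealMod Z) 1) _ _))
  haveI := EulerIneqLib.finite_HH (k := k) (DevLib.isCoh_structureModule X) 0
  have hle : Module.finrank k (Coh.HH X (cokernel (ClSub.idealModι Z)) 0) ≤
      Module.finrank k (Coh.HH X (Coh.structureModule X) 0) :=
    LinearMap.finrank_le_finrank_of_surjective
      (f := (hMap (k := k) (DevLib.cokerSeq (ClSub.idealModι Z)).g 0 :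
        Coh.HH X (Coh.structureModule X) 0 →ₗ[k] Coh.HH X (cokernel (ClSub.idealModι Z)) 0)) hsurj
  have e1 : Module.finrank k (Coh.HH X (Coh.structureModule X) 0) = 1 := TwistShriek.finrank_H0_connected k
  have e2 : Module.finrank k (Coh.HH X (cokernel (ClSub.idealModι Z)) 0) = 2 := by
    rw [ShBCLib.finrank_HH_iso (K := k) (SingRRLib.cokerIdealIso Z) 0, h0_quot_finite k hd, Nat.card_coe_set_eq]
    exact Set.ncard_pair fun e => hy (show y ∈ ({x} : Set X) from e.symm)
  exact absurd (e2.symm.trans_le (hle.trans_eq e1)) (by decide)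

end Groth.Agent.SubAdjLib.TreeBundle
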