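import Groth.Agent.SubAdjLib.Nodes
import Groth.Agent.TwistShriek.PointTwist

/-!
# Degrees of the twist by smooth points
-/

set_option autoImplicit false
set_option backward.isDefEq.respectTransparency false
set_option backward.isDefEq.respectTransparency.types false
set_option linter.style.haveILetI false
set_option maxHeartbeats 1000000

universe u

open CategoryTheory CategoryTheory.Limits AlgebraicGeometry TopologicalSpace Opposite
open Groth.Agent.PullbackMod Groth.Agent.DCohLib Groth.Agent.CurveLib Groth.Agent.H1ZeroLib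
open Groth.Agent.CliffCurveLib
open scoped TensorProduct

noncomputable section

namespace Groth.Agent.SubAdjLib

variable {X : Scheme.{u}}

/-- The stalk ideal of an integral closed subset at one of its points is prime. -/
theorem isPrime_stalkIdeal {S : Closeds X} (hi : IsIrreducible (S : Set X)) {y : X} (hy : y ∈ S) :
    (IntMult.stalkIdeal (vI S) y).IsPrime := by
  haveI : IsIntegral (vI S).subscheme := isIntegral_vanishingIdeal S.isClosed hi
  obtain ⟨w, rfl⟩ : ∃ w, (vI S).subschemeι w = y := by
    rw [← Set.mem_range, Scheme.IdealSheafData.range_subschemeι]; exact mem_support_vI.2 hy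
  rw [← IdealStalkLib.ker_stalkMap_subschemeι]
  exact RingHom.ker_isPrime _

/-- The twist `O_S ⊗ I` as the kernel of `O_S ⟶ O_{S ∩ Z}`. -/
theorem exists_iso_twist_irreducible {S : Closeds X} (hi : IsIrreducible (S : Set X)) {Z : X.IdealSheafData}
    (hI : PicF.IsInvertible (ClSub.idealMod Z)) (hgen : ∀ ξ : X, IsGenericPoint ξ (S : Set X) → ξ ∉ Z.support) :
    Nonempty (LJ (vI S) (ClSub.idealMod Z) ≅ kernel (qmap (le_sup_left : vI S ≤ vI S ⊔ Z))) := by
  let Q := ClSub.quotMod (vI S)
  let ι := ClSub.idealModι Z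
  let q := qmap (le_sup_left : vI S ≤ vI S ⊔ Z)
  have hzero : ∀ (y : X) (z : (tmod (ClSub.idealMod Z) Q).presheaf.stalk y),
      stalkLin q y (stalkLin (TwistShriek.phi ι Q) y z) = 0 := by
    intro y z
    obtain ⟨w, rfl⟩ := (stalkTensor y (ClSub.idealMod Z) Q).surjective z
    induction w using TensorProduct.induction_on with
    | zero => simp
    | tmul n g =>
      obtain ⟨a, ha⟩ := (ParaFLib.bijective_oneG y).2 (stalkLin ι y n)
      rw [TwistShriek.phi_tmul ι Q y n g a ha.symm, map_smul]
      obtain ⟨r, hr⟩ := qv_surjective (vI S) y (TwistShriek.unitAt Q y g)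
      rw [← hr, stalk_qmap]
      show a • qv (vI S ⊔ Z) y r = 0
      rw [show a • qv (vI S ⊔ Z) y r = qv (vI S ⊔ Z) y (a * r) by
        show a • stalkLin _ y (r • ParaFLib.oneG y) = stalkLin _ y ((a * r) • ParaFLib.oneG y)
        rw [← map_smul, smul_smul], qv_eq_zero_iff, stalkIdeal_sup]
      exact Submodule.mem_sup_right (Ideal.mul_mem_right _ _ ((HilbObsLib.mem_range_idealModι Z y a).1 ⟨n, ha.symm⟩))
    | add a b ha hb => rw [map_add, map_add, map_add, ha, hb, add_zero]
  let φ₀ := TwistShriek.phi ι Q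
  have hφq : φ₀ ≫ q = 0 := hom_ext_stalk fun y => LinearMap.ext fun z => by
    rw [stalkLin_comp, DevLib.stalkLin_zero, LinearMap.comp_apply, LinearMap.zero_apply]; exact hzero y z
  let φ := kernel.lift q φ₀ hφq
  haveI : IsIso φ := (isIso_iff_stalk φ).2 fun y => by
    have hfac : ∀ z, stalkLin (kernel.ι q) y (stalkLin φ y z) = stalkLin φ₀ y z := fun z => by
      rw [← LinearMap.comp_apply, ← stalkLin_comp, kernel.lift_ι]
    obtain ⟨n₀, hn₀⟩ := ParaFLib.exists_stalk_gen hI y
    obtain ⟨t, ht⟩ := (ParaFLib.bijective_oneG y).2 (stalkLin ι y n₀)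
    have hgen' : ∀ w, ∃ g, w = stalkTensor y (ClSub.idealMod Z) Q (n₀ ⊗ₜ g) := fun w => by
      obtain ⟨u, rfl⟩ := (stalkTensor y (ClSub.idealMod Z) Q).surjective w
      induction u using TensorProduct.induction_on with
      | zero => exact ⟨0, by rw [TensorProduct.tmul_zero]⟩
      | tmul n g =>
        obtain ⟨r, rfl⟩ := hn₀.2 n
        exact ⟨r • g, congrArg _ (TensorProduct.smul_tmul r n₀ g)⟩
      | add a b ha hb =>
        obtain ⟨g, hg⟩ := ha
        obtain ⟨g', hg'⟩ := hb
        exact ⟨g + g', by rw [map_add, hg, hg', ← map_add, TensorProduct.tmul_add]⟩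
    refine ⟨fun w₁ w₂ hw => ?_, fun v => ?_⟩
    · refine sub_eq_zero.1 ?_
      obtain ⟨g, hg⟩ := hgen' (w₁ - w₂)
      rw [hg]
      have h1 : stalkLin φ₀ y (w₁ - w₂) = 0 := by
        rw [map_sub, ← hfac, ← hfac, hw, sub_self]
      rw [hg, TwistShriek.phi_tmul ι Q y n₀ g t ht.symm] at h1
      obtain ⟨r, hr⟩ := qv_surjective (vI S) y (TwistShriek.unitAt Q y g)
      have h2 : TwistShriek.unitAt Q y g = 0 := by
        rw [← hr]
        rw [← hr] at h1
        have h3 : t * r ∈ IntMult.stalkIdeal (vI S) y := (qv_eq_zero_iff _ y _).1 (by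
          refine Eq.trans ?_ h1
          show stalkLin _ y ((t * r) • ParaFLib.oneG y) = t • stalkLin _ y (r • ParaFLib.oneG y)
          rw [← smul_smul, map_smul])
        by_cases hy : y ∈ S
        swap
        · exact (qv_eq_zero_iff _ y r).2 (by rw [stalkIdeal_vI_top hy]; trivial)
        refine (qv_eq_zero_iff _ y r).2 (((isPrime_stalkIdeal hi hy).mem_or_mem h3).resolve_left fun htS => ?_)
        -- the generic point would lie on `Z`
        obtain ⟨ξ, hξ⟩ := QuasiSober.sober hi S.isClosed
        have hξy := hξ.specializes hy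
        refine hgen ξ hξ (DivisorialLib.mem_support_of_ne_top fun htop => ?_)
        have hle : IntMult.stalkIdeal Z y ≤ IntMult.stalkIdeal (vI S) y := fun a ha => by
          obtain ⟨n, hn⟩ := (HilbObsLib.mem_range_idealModι Z y a).2 ha
          obtain ⟨c, rfl⟩ := hn₀.2 n
          dsimp only at hn
          rw [map_smul, ← ht, smul_smul] at hn
          rw [← (ParaFLib.bijective_oneG y).1 hn]
          exact Ideal.mul_mem_left _ _ htS
        have h4 := Ideal.map_mono (f := (X.presheaf.stalkSpecializes hξy).hom) hle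
        rw [DivisorialLib.map_stalkSpecializes, DivisorialLib.map_stalkSpecializes, htop, top_le_iff] at h4
        exact (mem_support_iff_stalk _ _).1 (mem_support_vI.2 hξ.mem) h4
      rw [show g = 0 from (TwistShriek.unitAt_bijective Q y).1 (h2.trans (map_zero _).symm), TensorProduct.tmul_zero, map_zero]
    · obtain ⟨r, hr⟩ := qv_surjective (vI S) y (stalkLin (kernel.ι q) y v)
      have h0 : stalkLin q y (qv (vI S) y r) = 0 := by rw [hr]; exact HilbObsLib.stalk_kernel_ι_comp q y v
      rw [stalk_qmap, qv_eq_zero_iff, stalkIdeal_sup] at h0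
      obtain ⟨a, ha, b, hb, rfl⟩ := Submodule.mem_sup.1 h0
      obtain ⟨n, hn⟩ := (HilbObsLib.mem_range_idealModι Z y b).2 hb
      obtain ⟨g, hg⟩ := (TwistShriek.unitAt_bijective Q y).2 (qv (vI S) y 1)
      refine ⟨stalkTensor y (ClSub.idealMod Z) Q (n ⊗ₜ g), (mono_iff_stalk (kernel.ι q)).1 inferInstance y ?_⟩
      rw [hfac, TwistShriek.phi_tmul ι Q y n g b hn, hg, ← hr]
      show b • stalkLin _ y ((1 : X.presheaf.stalk y) • ParaFLib.oneG y) = stalkLin _ y ((a + b) • ParaFLib.oneG y)
      have ha0 : stalkLin (ClSub.toSubscheme (vI S)) y (a • ParaFLib.oneG y) = 0 := (qv_eq_zero_iff (vI S) y a).2 ha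
      rw [add_smul, map_add, ha0, zero_add, ← map_smul, smul_smul, mul_one]
  exact ⟨tmodComm _ _ ≪≫ asIso φ⟩

variable (k : Type u) [Field k] [X.Over (Spec (CommRingCat.of k))] [IsProper (X ↘ Spec (CommRingCat.of k))]

/-- The degree of the ideal of a finite subscheme on an irreducible subcurve. -/
theorem degS_idealMod {S : Closeds X} (hS : IsSub S) (hi : IsIrreducible (S : Set X)) {Z : X.IdealSheafData}
    (hI : PicF.IsInvertible (ClSub.idealMod Z)) (hZ : topologicalKrullDim (Z.support : Set X) ≤ 0) :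
    degS k (ClSub.idealMod Z) S = - (Module.finrank k (Coh.HH X (ClSub.quotMod (vI S ⊔ Z)) 0) : ℤ) := by
  haveI := EulerIneqLib.isNoetherian_proper (X := X) k
  obtain ⟨e⟩ := exists_iso_twist_irreducible hi hI fun ξ hξ hmem => hS.2 (dim_mono (by
    rw [← hξ.def]; exact closure_minimal (Set.singleton_subset_iff.2 hmem) Z.support.isClosed) hZ)
  have hd : topologicalKrullDim ((vI S ⊔ Z).support : Set X) ≤ 0 :=
    dim_mono (by rw [Scheme.IdealSheafData.support_sup]; exact fun z hz => hz.2) hZ
  have hse := euler_shortExact (K := k) (kerSeq_shortExact (qmap (le_sup_left : vI S ≤ vI S ⊔ Z)) (surjective_qmap _))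
    (QCohLib.isCoh_kernel_cokernel _ (IntLib.isCoh_quotMod _) (IntLib.isCoh_quotMod _)).1
    (IntLib.isCoh_quotMod _) (IntLib.isCoh_quotMod _)
  change Curv2.euler k X (ClSub.quotMod (vI S)) = Curv2.euler k X (kernel (qmap (le_sup_left : vI S ≤ vI S ⊔ Z))) +
    Curv2.euler k X (ClSub.quotMod (vI S ⊔ Z)) at hse
  rw [euler_of_dim_le_zero (k := k) (vI S ⊔ Z).support.isClosed (IntLib.support_quotMod_subset _) hd] at hse
  unfold degS
  rw [CurveLib.euler_iso (K := k) e]
  omega

theorem degS_tensor {L M : X.Modules} (hL : PicF.IsInvertible L) (hM : PicF.IsInvertible M)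
    (hdim : topologicalKrullDim X ≤ 1) {S : Closeds X} (hS : IsSub S) :
    degS k (CohB1.tensorMod L M) S = degS k L S + degS k M S := by
  have hLM : PicF.IsInvertible (CohB1.tensorMod L M) := AmpleLib.isInvertible_tensor hL hM
  refine sub_induction k hdim (P := fun S => degS k (CohB1.tensorMod L M) S = degS k L S + degS k M S)
    (fun S hS hi => ?_) (fun A B S _ _ _ hAB hd hA hB => ?_) S hS
  · haveI : IsIntegral (vI S).subscheme := isIntegral_vanishingIdeal S.isClosed hi
    letI : (vI S).subscheme.Over (Spec (CommRingCat.of k)) := ⟨(vI S).subschemeι ≫ (X ↘ Spec (CommRingCat.of k))⟩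
    haveI : IsProper ((vI S).subscheme ↘ Spec (CommRingCat.of k)) :=
      inferInstanceAs (IsProper ((vI S).subschemeι ≫ (X ↘ Spec (CommRingCat.of k))))
    rw [← deg_eq_degS k hLM, ← deg_eq_degS k hL, ← deg_eq_degS k hM,
      deg_iso (k := k) (AmpleLib.pullTensor (vI S).subschemeι L M),
      deg_tensor_add (k := k) (dim_vI_eq_one hdim hS.2).le (AmpleLib.isInvertible_pullback _ hL)
        (AmpleLib.isInvertible_pullback _ hM)]
  · rw [degS_union k hLM hAB hd, degS_union k hL hAB hd, degS_union k hM hAB hd, hA, hB]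
    ring

theorem degS_unit (S : Closeds X) : degS k (Coh.structureModule X) S = 0 := by
  unfold degS
  rw [euler_quotMod_eq, sub_self]

variable {D : Closeds X} {LD : X.Modules}

/-- The inverse of the ideal of `D` has degree the number of common points. -/
theorem degS_inverse_points (hdim : topologicalKrullDim X ≤ 1) (hd : topologicalKrullDim (D : Set X) ≤ 0)
    (hLD : PicF.IsInvertible LD) (hinv : ClSub.IsInverseOf LD (ClSub.idealMod (vI D))) {S : Closeds X} (hS : IsSub S)
    (hi : IsIrreducible (S : Set X)) :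
    degS k LD S = Module.finrank k (Coh.HH X (ClSub.quotMod (vI S ⊔ vI D)) 0) := by
  haveI := EulerIneqLib.isNoetherian_proper (X := X) k
  have hI : PicF.IsInvertible (ClSub.idealMod (vI D)) :=
    AmpleLib.isInvertible_of_tensor_iso (AmpleLib.comm _ _ ≪≫ hinv.some)
  have h1 := degS_tensor k hLD hI hdim hS
  have h2 : degS k (CohB1.tensorMod LD (ClSub.idealMod (vI D))) S = 0 := by
    rw [← degS_unit k S]
    unfold degS
    rw [CurveLib.euler_iso (K := k) (((DCoh.tensorBi (X := X)).obj (ClSub.quotMod (vI S))).mapIso hinv.some :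
      LJ (vI S) (CohB1.tensorMod LD (ClSub.idealMod (vI D))) ≅ LJ (vI S) (Coh.structureModule X))]
  have hDs : ((vI D).support : Set X) = D := by
    rw [Scheme.IdealSheafData.coe_support_vanishingIdeal]
  rw [degS_idealMod k hS hi hI (by rw [hDs]; exact hd)] at h1
  omega

theorem degS_inverse_points_nonneg (hdim : topologicalKrullDim X ≤ 1) (hd : topologicalKrullDim (D : Set X) ≤ 0)
    (hLD : PicF.IsInvertible LD) (hinv : ClSub.IsInverseOf LD (ClSub.idealMod (vI D))) {S : Closeds X} (hS : IsSub S) :
    0 ≤ degS k LD S := by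
  refine sub_induction k hdim (P := fun S => 0 ≤ degS k LD S)
    (fun S hS hi => by rw [degS_inverse_points k hdim hd hLD hinv hS hi]; exact Int.natCast_nonneg _)
    (fun A B S _ _ _ hAB hdd hA hB => by rw [degS_union k hLD hAB hdd]; omega) S hS

/-- The total degree of the twist by `D`. -/
theorem degS_inverse_points_top [IsReduced X] [ConnectedSpace X] [IsAlgClosed k] (hdim : topologicalKrullDim X = 1)
    (hd : topologicalKrullDim (D : Set X) ≤ 0)
    (hLD : PicF.IsInvertible LD) (hinv : ClSub.IsInverseOf LD (ClSub.idealMod (vI D))) :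
    degS k LD ⊤ = Nat.card (D : Set X) := by
  haveI := EulerIneqLib.isNoetherian_proper (X := X) k
  have hI : PicF.IsInvertible (ClSub.idealMod (vI D)) :=
    AmpleLib.isInvertible_of_tensor_iso (AmpleLib.comm _ _ ≪≫ hinv.some)
  have hS := isSub_top (X := X) hdim
  have h1 := degS_tensor k hLD hI hdim.le hS
  have h2 : degS k (CohB1.tensorMod LD (ClSub.idealMod (vI D))) (⊤ : Closeds X) = 0 := by
    rw [← degS_unit k (⊤ : Closeds X)]
    unfold degS
    rw [CurveLib.euler_iso (K := k) (((DCoh.tensorBi (X := X)).obj (ClSub.quotMod (vI (⊤ : Closeds X)))).mapIso hinv.some :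
      LJ (vI (⊤ : Closeds X)) (CohB1.tensorMod LD (ClSub.idealMod (vI D))) ≅
        LJ (vI (⊤ : Closeds X)) (Coh.structureModule X))]
  have hse := euler_shortExact (K := k) (kerSeq_shortExact (ClSub.toSubscheme (vI D)) fun y =>
      (epi_iff_stalk _).1 (HilbObsLib.epi_toSubscheme _) y)
    (isCoh_of_isInvertible hI) (DevLib.isCoh_structureModule X) (IntLib.isCoh_quotMod _)
  change Curv2.euler k X (Coh.structureModule X) = Curv2.euler k X (ClSub.idealMod (vI D)) +
    Curv2.euler k X (ClSub.quotMod (vI D)) at hse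
  have hDs : ((vI D).support : Set X) = D := by
    rw [Scheme.IdealSheafData.coe_support_vanishingIdeal]
  rw [euler_of_dim_le_zero (k := k) D.isClosed ((IntLib.support_quotMod_subset _).trans hDs.le) hd,
    h0_quot_finite k hd] at hse
  have h3 : degS k (ClSub.idealMod (vI D)) (⊤ : Closeds X) = - (Nat.card (D : Set X) : ℤ) := by
    rw [degS_top]
    unfold Curv2.deg
    simp only [Nat.cast_one, one_mul]
    omega
  omega

include k in
/-- The intersection of a finite set with a subcurve has reduced structure. -/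
theorem vI_sup_finite (hd : topologicalKrullDim (D : Set X) ≤ 0) (S : Closeds X) :
    vI S ⊔ vI D = vI (S ⊓ D) := by
  haveI := EulerIneqLib.isNoetherian_proper (X := X) k
  refine DivisorialLib.ext_stalk fun x => le_antisymm
    (stalkIdeal_mono (sup_le (vI_mono inf_le_left) (vI_mono inf_le_right)) x) ?_
  rw [stalkIdeal_sup]
  by_cases hxD : x ∈ D
  swap
  · rw [stalkIdeal_vI_top hxD, sup_top_eq]; exact le_top
  by_cases hxS : x ∈ S
  swap
  · rw [stalkIdeal_vI_top hxS, top_sup_eq]; exact le_top
  have hx : IsClosed ({x} : Set X) := by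
    rw [← CurveLib.closure_singleton_eq D.isClosed hd hxD]; exact isClosed_closure
  have h1 : IntMult.stalkIdeal (vI (S ⊓ D)) x ≤ IsLocalRing.maximalIdeal (X.presheaf.stalk x) :=
    IsLocalRing.le_maximalIdeal ((mem_support_iff_stalk _ _).1 (mem_support_vI.2 (show x ∈ S ⊓ D from ⟨hxS, hxD⟩)))
  refine h1.trans (le_sup_of_le_right ?_)
  have hne : x ∉ closure ((D : Set X) \ {x}) := fun hc => by
    have hfin := (CurveLib.finite_of_dim_le_zero D.isClosed hd).subset
      (Set.sdiff_subset : (D : Set X) \ {x} ⊆ D)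
    have hcl : IsClosed ((D : Set X) \ {x}) := by
      rw [← Set.biUnion_of_singleton ((D : Set X) \ {x})]
      exact hfin.isClosed_biUnion fun v hv => by
        rw [← CurveLib.closure_singleton_eq D.isClosed hd hv.1]; exact isClosed_closure
    rw [hcl.closure_eq] at hc
    exact hc.2 rfl
  rw [← (stalkIdeal_point hx).1]
  exact stalkIdeal_vI_le (T := (⟨{x}, hx⟩ : Closeds X)) hne

end Groth.Agent.SubAdjLib
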