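import Groth.Agent.SubAdjLib.Subcurve

/-!
# Numerical consequences
-/

set_option autoImplicit false
set_option backward.isDefEq.respectTransparency false
set_option backward.isDefEq.respectTransparency.types false
set_option linter.style.haveILetI false
set_option maxHeartbeats 1000000

universe u

open CategoryTheory CategoryTheory.Limits AlgebraicGeometry TopologicalSpace Opposite
open Groth.Agent.PullbackMod Groth.Agent.DCohLib Groth.Agent.CurveLib Groth.Agent.H1ZeroLib
open Groth.Agent.CliffCurveLib

noncomputable section

namespace Groth.Agent.SubAdjLib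

variable {X : Scheme.{u}} (k : Type u) [Field k] [X.Over (Spec (CommRingCat.of k))]
  [IsProper (X ↘ Spec (CommRingCat.of k))]

theorem irreducibleSpace_vI {S : Closeds X} (h : IsIrreducible (S : Set X)) : IrreducibleSpace (vI S).subscheme := by
  haveI : IsIntegral (vI S).subscheme := isIntegral_vanishingIdeal S.isClosed h
  infer_instance

/-- An exceptional subcurve is irreducible. -/
theorem irreducible_of_exceptional (hdim : topologicalKrullDim X ≤ 1) {ω L : X.Modules}
    (hω : PicF.IsInvertible ω) (hL : PicF.IsInvertible L) (hw : ∀ S, IsSub S → 0 ≤ degS k ω S)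
    (hl : ∀ S, IsSub S → degS k ω S = 0 → degS k L S = 1) {S : Closeds X} (hS : IsSub S)
    (h0 : degS k ω S = 0) : IsIrreducible (S : Set X) := by
  refine sub_induction k hdim (P := fun S => degS k ω S = 0 → IsIrreducible (S : Set X)) (fun _ _ h _ => h)
    (fun A B S hS' hA hB hAB hd _ _ hS0 => ?_) S hS h0
  have h1 := degS_union k hω hAB hd
  have h2 := degS_union k hL hAB hd
  have hwA := hw A hA
  have hwB := hw B hB
  have h3 := hl A hA (by omega)
  have h4 := hl B hB (by omega)
  have h5 := hl S hS' hS0
  omega

end Groth.Agent.SubAdjLib
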