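import Groth.Agent.SubAdjLib.Semistable
import Groth.Agent.S10962

/-!
# Degrees of pullbacks along morphisms of a curve
-/

set_option autoImplicit false
set_option backward.isDefEq.respectTransparency false
set_option backward.isDefEq.respectTransparency.types false
set_option linter.style.haveILetI false
set_option maxHeartbeats 1000000

universe u

open CategoryTheory CategoryTheory.Limits AlgebraicGeometry TopologicalSpace Opposite
open Groth.Agent.PullbackMod Groth.Agent.DCohLib Groth.Agent.CurveLib Groth.Agent.H1ZeroLib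
open Groth.Agent.CliffCurveLib

noncomputable section

namespace Groth.Agent.SubAdjLib

variable {X Y : Scheme.{u}}

/-- A proper morphism from an irreducible curve is constant or finite. -/
theorem eq_or_isFinite [IrreducibleSpace X] (g : X ⟶ Y) [IsProper g] (hX : topologicalKrullDim X ≤ 1)
    [JacobsonSpace X] [NoetherianSpace X] :
    (∀ x x' : X, g.base x = g.base x') ∨ IsFinite g := by
  by_cases hc : ∀ x x' : X, g.base x = g.base x'
  · exact Or.inl hc
  refine Or.inr ?_
  obtain ⟨ξ, hξ⟩ := QuasiSober.sober (IrreducibleSpace.isIrreducible_univ X) isClosed_univ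
  have hfib : ∀ y : Y, (g.base ⁻¹' {y}).Finite := by
    intro y
    have hrange : ∀ x, g.base ξ ⤳ g.base x := fun x => (hξ.specializes (Set.mem_univ x)).map g.continuous
    by_cases hyr : y ∈ Set.range g.base
    swap
    · rw [Set.preimage_singleton_eq_empty.2 hyr]; exact Set.finite_empty
    obtain ⟨x₀, rfl⟩ := hyr
    by_cases hy : g.base x₀ = g.base ξ
    · -- only the generic point
      refine (Set.finite_singleton ξ).subset fun x hx => ?_
      by_contra hne
      have hxc : IsClosed ({x} : Set X) := closure_subset_iff_isClosed.1 fun z hz => by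
        by_contra hzx
        have h2 : topologicalKrullDim X ≤ 1 := hX
        let A : IrreducibleCloseds X := ⟨closure {z}, isIrreducible_singleton.closure, isClosed_closure⟩
        let B : IrreducibleCloseds X := ⟨closure {x}, isIrreducible_singleton.closure, isClosed_closure⟩
        let T : IrreducibleCloseds X := ⟨Set.univ, IrreducibleSpace.isIrreducible_univ X, isClosed_univ⟩
        have hAB : A < B := SetLike.coe_ssubset_coe.1 ⟨closure_minimal (Set.singleton_subset_iff.2 hz) isClosed_closure,
          fun h => hzx (((specializes_iff_mem_closure.2 hz).antisymm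
            (specializes_iff_mem_closure.2 (h (subset_closure rfl)))).eq.symm)⟩
        have hBT : B < T := SetLike.coe_ssubset_coe.1 ⟨Set.subset_univ _, fun h => hne
          ((IsGenericPoint.eq (show IsGenericPoint x Set.univ from le_antisymm (Set.subset_univ _) h) hξ))⟩
        let p : LTSeries (IrreducibleCloseds X) :=
          LTSeries.mk 2 ![A, B, T] (Fin.strictMono_iff_lt_succ.2 fun i => by fin_cases i <;> simpa)
        exact absurd ((Order.LTSeries.length_le_krullDim p).trans h2) (by show ¬((2 : ℕ) : WithBot ℕ∞) ≤ 1; decide)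
      have h1 : IsClosed ({g.base x} : Set Y) := by
        rw [← Set.image_singleton (f := g.base) (a := x)]
        exact g.isClosedMap _ hxc
      refine hc fun a b => ?_
      have h2 : ∀ a, g.base a = g.base x := fun a => by
        have h := hrange a
        rw [← hy, show g.base x₀ = g.base x from (Set.mem_singleton_iff.1 hx).symm] at h
        exact h.mem_closed h1 rfl
      rw [h2 a, h2 b]
    · let C : Set X := g.base ⁻¹' closure {g.base x₀}
      have hC : IsClosed C := isClosed_closure.preimage g.continuous
      have hξC : ξ ∉ C := fun h => hy ((specializes_iff_mem_closure.2 h).antisymm (hrange x₀)).eq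
      refine (CurveLib.finite_of_dim_le_zero hC ?_).subset fun x hx => subset_closure hx
      refine Order.krullDim_nonpos_iff_forall_isMax.2 fun Z Z' hle => ?_
      by_contra hne
      let ι : IrreducibleCloseds C → IrreducibleCloseds X := IrreducibleCloseds.map _ continuous_subtype_val
      have hι : StrictMono ι := IrreducibleCloseds.map_strictMono_of_isInducing Topology.IsInducing.subtypeVal
      have hlt : ι Z < ι Z' := hι (lt_of_le_not_ge hle hne)
      have hZ' : ((ι Z' : IrreducibleCloseds X) : Set X) ⊆ C :=
        closure_minimal (by rintro _ ⟨x, -, rfl⟩; exact x.2) hC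
      let T : IrreducibleCloseds X := ⟨Set.univ, IrreducibleSpace.isIrreducible_univ X, isClosed_univ⟩
      have hlt' : ι Z' < T := SetLike.coe_ssubset_coe.1 ⟨Set.subset_univ _, fun h => hξC (hZ' (h trivial))⟩
      let p : LTSeries (IrreducibleCloseds X) :=
        LTSeries.mk 2 ![ι Z, ι Z', T] (Fin.strictMono_iff_lt_succ.2 fun i => by fin_cases i <;> simpa)
      exact absurd ((Order.LTSeries.length_le_krullDim p).trans hX) (by show ¬((2 : ℕ) : WithBot ℕ∞) ≤ 1; decide)
  haveI : LocallyQuasiFinite g := locallyQuasiFinite_iff_finite_preimage_singleton.2 hfib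
  exact IsFinite.of_isProper_of_locallyQuasiFinite g

/-- The pullback of an invertible module along a constant morphism is trivial. -/
theorem nonempty_pullback_iso_of_const (g : X ⟶ Y) [Nonempty X] (hg : ∀ x x' : X, g.base x = g.base x')
    {L : Y.Modules} (hL : PicF.IsInvertible L) :
    Nonempty ((Scheme.Modules.pullback g).obj L ≅ Coh.structureModule X) := by
  obtain ⟨W, hyW, ⟨i⟩⟩ := hL (g.base (Classical.arbitrary X))
  have hrange : Set.range g.base ⊆ Set.range W.ι.base := by
    rw [Scheme.Opens.range_ι]
    rintro _ ⟨x, rfl⟩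
    rw [hg x (Classical.arbitrary X)]
    exact hyW
  let g₀ : X ⟶ W := IsOpenImmersion.lift W.ι g hrange
  have e : g₀ ≫ W.ι = g := IsOpenImmersion.lift_fac _ _ _
  exact ⟨(eqToIso (by rw [e])) ≪≫ (Scheme.Modules.pullbackComp g₀ W.ι).symm.app L ≪≫
    (Scheme.Modules.pullback g₀).mapIso (((Scheme.Modules.restrictFunctorIsoPullback W.ι).symm.app L) ≪≫ i) ≪≫
    AmpleLib.pullO g₀⟩

variable (k : Type u) [Field k] [X.Over (Spec (CommRingCat.of k))] [IsProper (X ↘ Spec (CommRingCat.of k))]

/-- The pullback of an ample module has nonnegative degree on subcurves, zero only on contracted ones. -/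
theorem degS_pullback (hdim : topologicalKrullDim X ≤ 1) {π : X ⟶ Y} (p : Y ⟶ Spec (CommRingCat.of k))
    [IsSeparated p] (hπ : π ≫ p = X ↘ Spec (CommRingCat.of k)) {L : Y.Modules} (hL : CohB1.IsAmple L) {S : Closeds X} (hS : IsSub S) :
    0 ≤ degS k ((Scheme.Modules.pullback π).obj L) S ∧
      (degS k ((Scheme.Modules.pullback π).obj L) S = 0 → ∀ x ∈ S, ∀ y ∈ S, π.base x = π.base y) := by
  haveI := EulerIneqLib.isNoetherian_proper (X := X) k
  haveI : IsProper π := by
    have : IsProper (π ≫ p) := hπ ▸ inferInstance
    exact IsProper.of_comp π p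
  let M := (Scheme.Modules.pullback π).obj L
  have hM : PicF.IsInvertible M := AmpleLib.isInvertible_pullback _ hL.1
  refine sub_induction k hdim (P := fun S => 0 ≤ degS k M S ∧
      (degS k M S = 0 → ∀ x ∈ S, ∀ y ∈ S, π.base x = π.base y)) (fun S hS hi => ?_)
    (fun A B S hS' hA' hB' hAB hd hA hB => ?_) S hS
  · haveI : IsIntegral (vI S).subscheme := isIntegral_vanishingIdeal S.isClosed hi
    letI : (vI S).subscheme.Over (Spec (CommRingCat.of k)) := ⟨(vI S).subschemeι ≫ (X ↘ Spec (CommRingCat.of k))⟩
    haveI : IsProper ((vI S).subscheme ↘ Spec (CommRingCat.of k)) :=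
      inferInstanceAs (IsProper ((vI S).subschemeι ≫ (X ↘ Spec (CommRingCat.of k))))
    haveI := EulerIneqLib.isNoetherian_proper (X := (vI S).subscheme) k
    haveI : JacobsonSpace (vI S).subscheme :=
      LocallyOfFiniteType.jacobsonSpace ((vI S).subscheme ↘ Spec (CommRingCat.of k))
    have hd1 := dim_vI_eq_one hdim hS.2
    rw [← deg_eq_degS k hM]
    have hmem : ∀ x ∈ S, ∃ w, (vI S).subschemeι w = x := fun x hx => by
      rw [← Set.mem_range, Scheme.IdealSheafData.range_subschemeι]; exact mem_support_vI.2 hx
    rcases eq_or_isFinite ((vI S).subschemeι ≫ π) hd1.le with hc | hf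
    · obtain ⟨e⟩ := nonempty_pullback_iso_of_const ((vI S).subschemeι ≫ π) hc hL.1
      have h0 : Curv2.deg k (vI S).subscheme ((Scheme.Modules.pullback (vI S).subschemeι).obj M) 1 = 0 := by
        rw [deg_iso (k := k) ((Scheme.Modules.pullbackComp (vI S).subschemeι π).app L ≪≫ e :
          (Scheme.Modules.pullback (vI S).subschemeι).obj M ≅ _) 1]
        unfold Curv2.deg
        simp
      refine ⟨h0.ge, fun _ x hx y hy => ?_⟩
      obtain ⟨v, rfl⟩ := hmem x hx
      obtain ⟨w, rfl⟩ := hmem y hy
      exact hc v w
    · haveI := hf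
      have h1 : CohB1.IsAmple ((Scheme.Modules.pullback (vI S).subschemeι).obj M) :=
        AmpleLib.isAmple_of_iso ((Scheme.Modules.pullbackComp (vI S).subschemeι π).app L).symm
          (AmpleLib.isAmple_pullback ((vI S).subschemeι ≫ π) hL)
      have h2 := (isAmple_iff_deg_pos (k := k) hd1 (AmpleLib.isInvertible_pullback _ hM)).1 h1
      exact ⟨h2.le, fun h => absurd h h2.ne'⟩
  · rw [degS_union k hM hAB hd]
    refine ⟨add_nonneg hA.1 hB.1, fun h0 => ?_⟩
    have hA0 := hA.2 (by omega)
    have hB0 := hB.2 (by omega)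
    obtain ⟨a, ha⟩ := hA'.1.1
    obtain ⟨b, hb⟩ := hB'.1.1
    obtain ⟨m, -, hm1, hm2⟩ := isPreconnected_closed_iff.1 hS'.1.2 (A : Set X) (B : Set X) A.isClosed B.isClosed
      (by rw [← Closeds.coe_sup, hAB]) ⟨a, hAB.le (Or.inl ha), ha⟩ ⟨b, hAB.le (Or.inr hb), hb⟩
    have key : ∀ x ∈ S, π.base x = π.base m := fun x hx => by
      rcases hAB.ge hx with h | h
      · exact hA0 x h m hm1
      · exact hB0 x h m hm2
    exact fun x hx y hy => (key x hx).trans (key y hy).symm

end Groth.Agent.SubAdjLib
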