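import Groth.Agent.S19827
import Groth.Agent.S0341
import Groth.Agent.SubAdjLib.OmegaBC
import Groth.Agent.TwistShriek.CurveSetup
import Groth.Agent.TwistShriek.DualPair
import Groth.Agent.CurvLocLib.FieldRows
import Groth.Agent.CurveLib.DegTensor
import Groth.Agent.DevLib.Closed

/-!
# The dualizing sheaf of a Gorenstein curve over a field
-/

set_option autoImplicit false
set_option linter.style.haveILetI false
set_option backward.isDefEq.respectTransparency false
set_option maxHeartbeats 1600000

universe u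

open CategoryTheory CategoryTheory.Limits AlgebraicGeometry
open Groth.Agent.DCohLib Groth.Agent.DCohMore Groth.Agent.TwistShriek Groth.Agent.CohBase Groth.Agent.QGorLib

attribute [local instance] HasDerivedCategory.standard

noncomputable section

namespace Groth.Agent.SubAdjLib

variable (k : Type u) [Field k] {X : Scheme.{u}} [X.Over (Spec (CommRingCat.of k))]
  [IsIntegral X] [IsProper (X ↘ (Spec (CommRingCat.of k)))]

/-- An integral Gorenstein curve has an invertible module of degree `2 g - 2`. -/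
theorem exists_invertible_deg_omega (hdim : topologicalKrullDim X = 1)
    (hgor : ∀ x : X, LocCoh.IsGorensteinLocalRing (X.presheaf.stalk x))
    (h0 : Module.finrank k (Coh.HH X (Coh.structureModule X) 0) = 1) :
    ∃ ω : X.Modules, PicF.IsInvertible ω ∧ Curv2.deg k X ω 1 = 2 * (Curv2.genus k X : ℤ) - 2 := by
  let f := X ↘ Spec (CommRingCat.of k)
  let S := Spec (CommRingCat.of k)
  haveI := EulerIneqLib.isNoetherian_proper (X := X) k
  haveI : ∀ (R : CommRingCat.{u}), PreservesFiniteLimits (tilde.functor R) := fun R =>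
    TildeD.preservesFiniteLimits_tilde
  haveI := BC.hasRpush f
  have h : DCoh.RpushPreservesQCoh f := rpushQC f
  haveI := isLeftAdjoint_rpushQ' f
  have hdim' : topologicalKrullDim X ≤ (1 : ℕ) := hdim.le.trans (by rfl)
  obtain ⟨tr, hω, hfin, hle⟩ := TwistShriek.exists_pair_dualizingMod k X h (oQ S) ⟨Iso.refl _⟩ hdim'
  let ω := DCoh.dualizingMod f h (oQ S) 1
  have hfld : ∀ x : X, IsField (S.presheaf.stalk (f x)) := fun x => (DimFormulaLib.isField_stalk _ _).1
  have hCM : ∀ y : X, MoreMor.IsCMAt f y := fun y =>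
    (CurvLocLib.isCMAt_iff_stalk f y (hfld y)).2 (@S0341.result _ _ (hgor y))
  have hd : Cyc.HasRelDim f 1 := by
    intro y T hT
    haveI : Subsingleton S := inferInstanceAs (Subsingleton (PrimeSpectrum k))
    have e : f ⁻¹' {y} = Set.univ := Set.eq_univ_of_forall fun _ => Subsingleton.elim _ _
    let E : f.fiber y ≃ₜ X := (f.fiberHomeo y).trans ((Homeomorph.setCongr e).trans (Homeomorph.Set.univ X))
    haveI : IrreducibleSpace (f.fiber y) := by
      rw [irreducibleSpace_def]
      have := ((IrreducibleSpace.isIrreducible_univ X).image E.symm E.symm.continuous.continuousOn)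
      rwa [Set.image_univ_of_surjective E.symm.surjective] at this
    rw [irreducibleComponents_eq_singleton] at hT
    rw [Set.mem_singleton_iff.1 hT]
    rw [IsHomeomorph.topologicalKrullDim_eq _ (((Homeomorph.Set.univ _).trans E).isHomeomorph), hdim]
    rfl
  obtain ⟨-, -, hloc⟩ := S19827.result k X 1 hCM hd ω ⟨tr, hω⟩
  have hinv : PicF.IsInvertible ω := (RelCanon.isInvertible_iff_invertibleAt ω).2 fun y =>
    (hloc y).1 ((CurvLocLib.gorAt_iff_stalk f y (hfld y)).2 (hgor y))
  refine ⟨ω, hinv, ?_⟩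
  have h0ω : Module.finrank k (Coh.HH X ω 0) = Curv2.genus k X := TwistShriek.finrank_H0_dualizing k hω
  have h1ω : Module.finrank k (Coh.HH X ω 1) = 1 := by
    haveI := hfin
    refine le_antisymm (hle.trans_eq h0) (Nat.pos_of_ne_zero fun hz => ?_)
    haveI : Subsingleton (Coh.HH X ω 1) := (Module.finrank_eq_zero_iff_of_free k _).1 hz
    have h2 := TwistShriek.hom_eq_zero_of_subsingleton_HH k hω ω hω.1 (𝟙 ω)
    obtain ⟨x₀⟩ := (inferInstance : Nonempty X)
    obtain ⟨U, hxU, ⟨e⟩⟩ := hinv x₀
    have hz' : IsZero (Coh.structureModule (U : Scheme.{u})) :=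
      IsZero.of_iso ((Scheme.Modules.restrictFunctor U.ι).map_isZero ((IsZero.iff_id_eq_zero ω).2 h2)) e.symm
    have h3 := (IsZero.iff_id_eq_zero _).1 hz'
    haveI : Nonempty (U : Scheme.{u}) := ⟨⟨x₀, hxU⟩⟩
    have h4 : (1 : Γ((U : Scheme.{u}), ⊤)) = 0 :=
      congrArg (fun φ : Coh.structureModule (U : Scheme.{u}) ⟶ Coh.structureModule (U : Scheme.{u}) =>
        φ.app ⊤ (1 : Γ((U : Scheme.{u}), ⊤))) h3
    exact one_ne_zero h4
  show Curv2.euler k X ω - (1 : ℕ) * Curv2.euler k X (Coh.structureModule X) = _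
  rw [CurveLib.euler_eq_sub (k := k) hdim.le, CurveLib.euler_eq_sub (k := k) hdim.le, h0ω, h1ω, h0]
  simp only [Curv2.genus]
  omega

end Groth.Agent.SubAdjLib
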