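import Groth.Agent.CliffCurveLib.DegBound
import Groth.Agent.TwistShriek.CurveSetup

/-!
# Adjunction for a union of two reduced curves with finite intersection
-/

set_option autoImplicit false
set_option backward.isDefEq.respectTransparency false
set_option backward.isDefEq.respectTransparency.types false
set_option linter.style.haveILetI false
set_option maxHeartbeats 1000000

universe u

open CategoryTheory CategoryTheory.Limits AlgebraicGeometry TopologicalSpace Opposite
open Groth.Agent.PullbackMod Groth.Agent.DCohLib Groth.Agent.CurveLib Groth.Agent.H1ZeroLib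
open Groth.Agent.CliffCurveLib
open scoped TensorProduct

noncomputable section

namespace Groth.Agent.SubAdjLib

variable {X : Scheme.{u}} {L : X.Modules} {S T Z : Closeds X}

theorem stalkIdeal_inf_le (hS : T ⊔ Z = S) (y : X) :
    IntMult.stalkIdeal (vI T) y ⊓ IntMult.stalkIdeal (vI Z) y ≤ IntMult.stalkIdeal (vI S) y := by
  subst hS
  rw [← H1ZeroLib.stalkIdeal_inf]
  exact (congrArg (fun I => IntMult.stalkIdeal I y)
    (Scheme.IdealSheafData.vanishingIdeal_sup T Z).symm).le

theorem le_left (hS : T ⊔ Z = S) : T ≤ S := hS ▸ le_sup_left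
theorem le_right (hS : T ⊔ Z = S) : Z ≤ S := hS ▸ le_sup_right

/-- Sections on `S` vanishing on `Z` are sections on `T` vanishing on `T ∩ Z`. -/
def kerIso (hL : PicF.IsInvertible L) (hS : T ⊔ Z = S) :
    kernel (qmapL (vI_mono (le_right hS)) L) ≅ NS T (vI Z) L :=
  haveI : IsIso (kerMap (vI_mono (le_left hS)) (vI_mono (le_right hS)) L) := (isIso_iff_stalk _).2 fun y =>
    ⟨injective_kerMap (vI_mono (le_left hS)) (vI_mono (le_right hS)) hL (stalkIdeal_inf_le hS) y,
      surjective_kerMap (vI_mono (le_left hS)) (vI_mono (le_right hS)) hL y⟩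
  asIso (kerMap (vI_mono (le_left hS)) (vI_mono (le_right hS)) L)

variable {k : Type u} [Field k] [X.Over (Spec (CommRingCat.of k))] [IsProper (X ↘ Spec (CommRingCat.of k))]

/-- The length of the intersection. -/
abbrev kk (k : Type u) [Field k] [X.Over (Spec (CommRingCat.of k))] (T Z : Closeds X) : ℕ :=
  Module.finrank k (Coh.HH X (ClSub.quotMod (vI T ⊔ vI Z)) 0)

theorem euler_NS (hL : PicF.IsInvertible L) (hd : topologicalKrullDim ((T : Set X) ∩ Z : Set X) ≤ 0) :
    Curv2.euler k X (LJ (vI T) L) = Curv2.euler k X (NS T (vI Z) L) + kk k T Z := by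
  haveI := EulerIneqLib.isNoetherian_proper (X := X) k
  have hse := euler_shortExact (K := k) (kerSeq_shortExact (qmapL (le_sup_left : vI T ≤ vI T ⊔ vI Z) L) fun y => by
    obtain ⟨e, he⟩ := ParaFLib.exists_stalk_gen hL y
    exact surjective_qmapL he le_sup_left) (isCoh_NS hL T (vI Z)) (isCoh_LJ hL _) (isCoh_LJ hL _)
  change Curv2.euler k X (LJ (vI T) L) = Curv2.euler k X (NS T (vI Z) L) +
    Curv2.euler k X (LJ (vI T ⊔ vI Z) L) at hse
  rwa [euler_LJ_finite hL (vI T ⊔ vI Z) (dim_mono (by
    rw [Scheme.IdealSheafData.support_sup, H1ZeroLib.support_vanishingIdeal', H1ZeroLib.support_vanishingIdeal']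
    exact fun z hz => hz) hd)] at hse

theorem euler_LJ_union (hL : PicF.IsInvertible L) (hS : T ⊔ Z = S) :
    Curv2.euler k X (LJ (vI S) L) = Curv2.euler k X (NS T (vI Z) L) + Curv2.euler k X (LJ (vI Z) L) := by
  haveI := EulerIneqLib.isNoetherian_proper (X := X) k
  let π := qmapL (vI_mono (le_right hS)) L
  have hse := euler_shortExact (K := k) (kerSeq_shortExact π fun y => by
    obtain ⟨e, he⟩ := ParaFLib.exists_stalk_gen hL y
    exact surjective_qmapL he _) (QCohLib.isCoh_kernel_cokernel π (isCoh_LJ hL _) (isCoh_LJ hL _)).1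
      (isCoh_LJ hL _) (isCoh_LJ hL _)
  change Curv2.euler k X (LJ (vI S) L) = Curv2.euler k X (kernel π) + Curv2.euler k X (LJ (vI Z) L) at hse
  rwa [CurveLib.euler_iso (K := k) (kerIso hL hS)] at hse

/-- Mayer–Vietoris for a twist. -/
theorem euler_split (hL : PicF.IsInvertible L) (hS : T ⊔ Z = S)
    (hd : topologicalKrullDim ((T : Set X) ∩ Z : Set X) ≤ 0) :
    Curv2.euler k X (LJ (vI S) L) + kk k T Z =
      Curv2.euler k X (LJ (vI T) L) + Curv2.euler k X (LJ (vI Z) L) := by
  rw [euler_LJ_union hL hS, euler_NS (k := k) hL hd]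
  ring

theorem euler_quotMod_eq (S : Closeds X) :
    Curv2.euler k X (LJ (vI S) (Coh.structureModule X)) = Curv2.euler k X (ClSub.quotMod (vI S)) :=
  CurveLib.euler_iso (K := k) (tensorStructureIso _)

/-- Mayer–Vietoris for the structure sheaves. -/
theorem euler_quotMod_split (hS : T ⊔ Z = S) (hd : topologicalKrullDim ((T : Set X) ∩ Z : Set X) ≤ 0) :
    Curv2.euler k X (ClSub.quotMod (vI S)) + kk k T Z =
      Curv2.euler k X (ClSub.quotMod (vI T)) + Curv2.euler k X (ClSub.quotMod (vI Z)) := by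
  rw [← euler_quotMod_eq, ← euler_quotMod_eq, ← euler_quotMod_eq]
  exact euler_split ParaFLib.isInvertible_structureModule hS hd

/-- A module without stalks has no sections. -/
theorem subsingleton_H0_of_support_empty (M : X.Modules) (h : CohB1.support M = ∅) :
    Subsingleton (Coh.HH X M 0) :=
  subsingleton_of_forall_eq 0 fun c => by
    by_contra hc
    refine secHom_secOf_ne_zero M hc (hom_ext_stalk fun y => LinearMap.ext fun z => ?_)
    haveI : Subsingleton (M.presheaf.stalk y) := DevLib.subsingleton_of_notMem (by rw [h]; exact Set.notMem_empty y)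
    exact Subsingleton.elim _ _

/-! ### Duality bounds -/

omit [X.Over (Spec (CommRingCat.of k))] [IsProper (X ↘ Spec (CommRingCat.of k))] in
theorem eq_zero_of_mulS_quot {N : X.Modules} {J : X.IdealSheafData} (hN : Killed J N)
    (σ : Coh.structureModule X ⟶ N) (h : mulS (ClSub.quotMod J) σ = 0) : σ = 0 := by
  refine hom_ext_stalk fun y => LinearMap.ext fun a => ?_
  rw [DevLib.stalkLin_zero, LinearMap.zero_apply]
  have h1 : (stalkLin σ y).lTensor ((ClSub.quotMod J).presheaf.stalk y)
      (qv J y 1 ⊗ₜ[X.presheaf.stalk y] a) = 0 := by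
    refine (stalkTensor y (ClSub.quotMod J) N).injective ?_
    rw [map_zero, ← stalkTensor_natural_right, show ((DCoh.tensorBi (X := X)).obj (ClSub.quotMod J)).map σ =
      mulS (ClSub.quotMod J) σ from rfl, h, DevLib.stalkLin_zero, LinearMap.zero_apply]
  rw [LinearMap.lTensor_tmul] at h1
  have h2 := congrArg (TensorProduct.comm (X.presheaf.stalk y) _ _) h1
  rw [TensorProduct.comm_tmul, map_zero] at h2
  haveI := isIso_mulS_toSubscheme hN
  have hinj : Function.Injective
      ((stalkLin (ClSub.toSubscheme J) y).lTensor (N.presheaf.stalk y)) := fun p q hpq => by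
    refine (stalkTensor y N (Coh.structureModule X)).injective
      (((isIso_iff_stalk (mulS N (ClSub.toSubscheme J))).1 inferInstance y).1 ?_)
    refine (stalkTensor_natural_right y (ClSub.toSubscheme J) p).trans ?_
    exact (congrArg _ hpq).trans (stalkTensor_natural_right y (ClSub.toSubscheme J) q).symm
  have h3 : stalkLin σ y a ⊗ₜ[X.presheaf.stalk y] ParaFLib.oneG y = 0 := hinj (by
    rw [LinearMap.lTensor_tmul, map_zero, show stalkLin (ClSub.toSubscheme J) y (ParaFLib.oneG y) = qv J y 1 by
      rw [qv, one_smul]]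
    exact h2)
  have h4 := congrArg (fun z => TensorProduct.rid (X.presheaf.stalk y) (N.presheaf.stalk y)
    ((LinearEquiv.ofBijective (LinearMap.toSpanSingleton _ _ (ParaFLib.oneG y))
      (ParaFLib.bijective_oneG y)).symm.toLinearMap.lTensor _ z)) h3
  simp only [LinearMap.lTensor_tmul, map_zero, TensorProduct.rid_tmul] at h4
  have h5 : (LinearEquiv.ofBijective (LinearMap.toSpanSingleton _ _ (ParaFLib.oneG y))
      (ParaFLib.bijective_oneG y)).symm.toLinearMap (ParaFLib.oneG y) = 1 := by
    refine (LinearEquiv.symm_apply_eq _).2 ?_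
    simp [LinearMap.toSpanSingleton_apply]
  rwa [h5, one_smul] at h4

omit [X.Over (Spec (CommRingCat.of k))] [IsProper (X ↘ Spec (CommRingCat.of k))] in
theorem eq_zero_of_mulS_NS (hL : PicF.IsInvertible L) (hdense : (T : Set X) ⊆ closure ((T : Set X) \ Z))
    (σ : Coh.structureModule X ⟶ ClSub.quotMod (vI T)) (h : mulS (NS T (vI Z) L) σ = 0) : σ = 0 := by
  let N := NS T (vI Z) L
  let σ' : Coh.structureModule X ⟶ LJ (vI T) (Coh.structureModule X) :=
    σ ≫ (tensorStructureIso (ClSub.quotMod (vI T))).inv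
  have key : ∀ y ∈ (T : Set X) \ Z, ¬ Function.Surjective (stalkLin σ' y) := by
    intro y hy hsurj
    have hs : Function.Surjective (stalkLin σ y) := fun z => by
      obtain ⟨w, hw⟩ := hsurj (stalkLin (tensorStructureIso (ClSub.quotMod (vI T))).inv y z)
      rw [stalkLin_comp, LinearMap.comp_apply] at hw
      exact ⟨w, ((isIso_iff_stalk (tensorStructureIso (ClSub.quotMod (vI T))).inv).1 inferInstance y).1 hw⟩
    have hne : IntMult.stalkIdeal (vI T) y ≠ ⊤ :=
      (mem_support_iff_stalk _ _).1 (mem_support_vI.2 hy.1)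
    obtain ⟨e, he⟩ := ParaFLib.exists_stalk_gen hL y
    obtain ⟨v, hv⟩ := exists_preimage (S := T) (B := vI Z) he (r := 1) (by
      rw [H1ZeroLib.stalkIdeal_sup, stalkIdeal_vI_top hy.2, sup_top_eq]; trivial)
    obtain ⟨w, hw⟩ := hs (qv (vI T) y 1)
    have h1 : (stalkLin σ y).lTensor (N.presheaf.stalk y) (v ⊗ₜ[X.presheaf.stalk y] w) = 0 := by
      refine (stalkTensor y N (ClSub.quotMod (vI T))).injective ?_
      rw [map_zero, ← stalkTensor_natural_right, show ((DCoh.tensorBi (X := X)).obj N).map σ = mulS N σ from rfl,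
        h, DevLib.stalkLin_zero, LinearMap.zero_apply]
    rw [LinearMap.lTensor_tmul, hw] at h1
    haveI := isIso_mulS_toSubscheme (killed_NS hL T (vI Z))
    have h2 : v ⊗ₜ[X.presheaf.stalk y] ParaFLib.oneG y = 0 := by
      refine (stalkTensor y N (Coh.structureModule X)).injective
        (((isIso_iff_stalk (mulS N (ClSub.toSubscheme (vI T)))).1 inferInstance y).1 ?_)
      rw [map_zero, map_zero]
      refine (stalkTensor_natural_right y (ClSub.toSubscheme (vI T)) _).trans ?_
      rw [LinearMap.lTensor_tmul, show stalkLin (ClSub.toSubscheme (vI T)) y (ParaFLib.oneG y) = qv (vI T) y 1 by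
        rw [qv, one_smul], h1, map_zero]
    have h3 : v = 0 := by
      have h4 := congrArg (fun z => TensorProduct.rid (X.presheaf.stalk y) (N.presheaf.stalk y)
        ((LinearEquiv.ofBijective (LinearMap.toSpanSingleton _ _ (ParaFLib.oneG y))
          (ParaFLib.bijective_oneG y)).symm.toLinearMap.lTensor _ z)) h2
      simp only [LinearMap.lTensor_tmul, map_zero, TensorProduct.rid_tmul] at h4
      have h5 : (LinearEquiv.ofBijective (LinearMap.toSpanSingleton _ _ (ParaFLib.oneG y))
          (ParaFLib.bijective_oneG y)).symm.toLinearMap (ParaFLib.oneG y) = 1 := by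
        refine (LinearEquiv.symm_apply_eq _).2 ?_
        simp [LinearMap.toSpanSingleton_apply]
      rwa [h5, one_smul] at h4
    rw [h3, map_zero] at hv
    exact hne ((Ideal.eq_top_iff_one _).2 ((tq_eq_zero_iff he _ 1).1 hv.symm))
  have hall : ∀ y ∈ T, ¬ Function.Surjective (stalkLin σ' y) := fun y hy =>
    ((closure_minimal (fun z hz => (⟨hz.1, key z hz⟩ : z ∈ T ∧ _))
      (isClosed_nongen ParaFLib.isInvertible_structureModule σ')) (hdense hy)).2
  have h0 := eq_zero_of_nowhere_gen ParaFLib.isInvertible_structureModule σ' hall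
  rwa [← cancel_mono (tensorStructureIso (ClSub.quotMod (vI T))).inv, zero_comp]

section Dual

variable [IsReduced X] (hdim : topologicalKrullDim X ≤ 1) {ω : X.Modules} (hω : PicF.IsInvertible ω)
  {tr : Coh.HH X ω 1 →ₗ[k] k} (hdual : Canon.IsRDualOver k X 1 ω tr)

/-- The inclusion of `NS T Z ω` into `ω`. -/
def toOmega (hω : PicF.IsInvertible ω) (hS : T ⊔ Z = ⊤) : NS T (vI Z) ω ⟶ ω :=
  (kerIso hω hS).inv ≫ kernel.ι _ ≫
    (eqToIso (congrArg (fun J => LJ J ω) (vI_top (X := X))) ≪≫ ljBot ω).hom

omit [X.Over (Spec (CommRingCat.of k))] [IsProper (X ↘ Spec (CommRingCat.of k))] in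
instance mono_toOmega (hω : PicF.IsInvertible ω) (hS : T ⊔ Z = ⊤) : Mono (toOmega hω hS) := by
  unfold toOmega
  infer_instance

/-- The pairing into the dualizing module. -/
def pairing (tr : Coh.HH X ω 1 →ₗ[k] k) {A N : X.Modules} (f : tmod A N ⟶ ω) :
    Coh.HH X N 0 →ₗ[k] Module.Dual k (Coh.HH X (tmod A (Coh.structureModule X)) 1) :=
  (mulH (k := k) A N 1).compr₂ (tr ∘ₗ hMap (k := k) f 1)

include hdual in
theorem finrank_le_of_pairing {A N : X.Modules} (hA : Coh.IsCoh A) (f : tmod A N ⟶ ω) [Mono f]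
    (h : ∀ σ : Coh.structureModule X ⟶ N, mulS A σ = 0 → σ = 0) :
    Module.finrank k (Coh.HH X N 0) ≤ Module.finrank k (Coh.HH X A 1) := by
  haveI := EulerIneqLib.isNoetherian_proper (X := X) k
  haveI : Coh.IsQCoh (tmod A (Coh.structureModule X)) :=
    (CurveLib.isCoh_tmod hA (DevLib.isCoh_structureModule X)).1
  haveI := EulerIneqLib.finite_HH (k := k) hA 1
  have e₀ := hMap_bijective_iso (k := k) (tensorStructureIso A) 1
  haveI : Module.Finite k (Coh.HH X (tmod A (Coh.structureModule X)) 1) :=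
    Module.Finite.equiv (LinearEquiv.ofBijective _ e₀).symm
  refine (LinearMap.finrank_le_finrank_of_injective (f := pairing tr f)
    ((injective_iff_map_eq_zero _).2 fun c hc => ?_)).trans ?_
  · by_contra hne
    refine secHom_secOf_ne_zero N hne (h _ ?_)
    rw [← cancel_mono f, zero_comp]
    refine (hdual.2 _ inferInstance).1 (LinearMap.ext fun x => ?_)
    show tr (Canon.HHlin k (mulS A _ ≫ f) 1 x) = tr (Canon.HHlin k (0 : tmod A (Coh.structureModule X) ⟶ ω) 1 x)
    have h0 : Canon.dualityMap k X 1 ω tr _ (0 : tmod A (Coh.structureModule X) ⟶ ω) x = 0 := by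
      have hz := TwistShriek.dualityMap_add k (tr := tr) (tmod A (Coh.structureModule X))
        (0 : tmod A (Coh.structureModule X) ⟶ ω) 0
      rw [add_zero] at hz
      rw [left_eq_add.1 hz]
      rfl
    refine Eq.trans ?_ h0.symm
    rw [TwistShriek.HHlin_comp]
    exact LinearMap.congr_fun hc x
  · rw [Subspace.dual_finrank_eq, (LinearEquiv.ofBijective _ e₀).finrank_eq]

include hdim hω hdual in
theorem euler_NS_le (hS : T ⊔ Z = ⊤) (hdense : (T : Set X) ⊆ closure ((T : Set X) \ Z)) :
    Curv2.euler k X (NS T (vI Z) ω) ≤ - Curv2.euler k X (ClSub.quotMod (vI T)) := by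
  haveI := EulerIneqLib.isNoetherian_proper (X := X) k
  let Q := ClSub.quotMod (vI T)
  let N := NS T (vI Z) ω
  have hk : Killed (vI T) N := killed_NS hω T (vI Z)
  haveI := isIso_mulS_toSubscheme hk
  have ha := finrank_le_of_pairing (k := k) hdual (IntLib.isCoh_quotMod (vI T))
    ((killedIso hk).hom ≫ toOmega hω hS) fun σ hσ => eq_zero_of_mulS_quot hk σ hσ
  have hb := finrank_le_of_pairing (k := k) hdual (A := N) (N := Q) (isCoh_NS hω T (vI Z))
    (((asIso (mulS N (ClSub.toSubscheme (vI T)))).symm ≪≫ tensorStructureIso N).hom ≫ toOmega hω hS)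
    fun σ hσ => eq_zero_of_mulS_NS hω hdense σ hσ
  rw [euler_eq_sub (k := k) hdim, euler_eq_sub (k := k) hdim]
  simp only [N, Q] at ha hb
  omega

include hdim hω hdual in
theorem euler_omega_eq (hle : Module.finrank k (Coh.HH X ω 1) ≤ Module.finrank k (Coh.HH X (Coh.structureModule X) 0)) :
    Curv2.euler k X ω = - Curv2.euler k X (Coh.structureModule X) := by
  haveI := EulerIneqLib.isNoetherian_proper (X := X) k
  have hS : (⊤ : Closeds X) ⊔ ⊥ = ⊤ := by simp
  have hfin : topologicalKrullDim (((⊤ : Closeds X) : Set X) ∩ (⊥ : Closeds X) : Set X) ≤ 0 := by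
    rw [Closeds.coe_bot, Set.inter_empty]
    exact topologicalKrullDim_zero_of_discreteTopology (∅ : Set X)
  have h1 := euler_NS_le (k := k) hdim hω hdual hS (by
    rw [Closeds.coe_bot, Set.diff_empty]; exact subset_closure)
  have h2 := euler_NS (k := k) hω hfin
  have h3 : kk k (⊤ : Closeds X) ⊥ = 0 := by
    have htop : vI (⊤ : Closeds X) ⊔ vI ⊥ = ⊤ := by
      rw [vI, vI, Scheme.IdealSheafData.vanishingIdeal_bot, sup_top_eq]
    haveI : Subsingleton (Coh.HH X (ClSub.quotMod (vI (⊤ : Closeds X) ⊔ vI ⊥)) 0) :=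
      subsingleton_H0_of_support_empty _ (by
        refine Set.subset_empty_iff.1 ((IntLib.support_quotMod_subset _).trans ?_)
        rw [htop, Scheme.IdealSheafData.support_top]; rfl)
    exact Module.finrank_zero_of_subsingleton
  have h4 : Curv2.euler k X (LJ (vI (⊤ : Closeds X)) ω) = Curv2.euler k X ω :=
    CurveLib.euler_iso (K := k) (eqToIso (congrArg (fun J => LJ J ω) (vI_top (X := X))) ≪≫ ljBot ω)
  have h5 : Curv2.euler k X (ClSub.quotMod (vI (⊤ : Closeds X))) = Curv2.euler k X (Coh.structureModule X) :=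
    CurveLib.euler_iso (K := k) ((tensorStructureIso _).symm ≪≫
      eqToIso (congrArg (fun J => LJ J (Coh.structureModule X)) (vI_top (X := X))) ≪≫ ljBot _)
  rw [h4, h3] at h2
  rw [h5] at h1
  have h6 := TwistShriek.finrank_H0_dualizing k hdual
  rw [euler_eq_sub (k := k) (M := ω) hdim, euler_eq_sub (k := k) (M := Coh.structureModule X) hdim, h6]
  rw [euler_eq_sub (k := k) (M := ω) hdim, h6] at h2
  rw [euler_eq_sub (k := k) (M := Coh.structureModule X) hdim] at h1
  omega

include hdim hω hdual in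
/-- **Adjunction**: the degree of `ω` on `T`. -/
theorem adjunction (hle : Module.finrank k (Coh.HH X ω 1) ≤ Module.finrank k (Coh.HH X (Coh.structureModule X) 0))
    (hS : T ⊔ Z = ⊤) (hd : topologicalKrullDim ((T : Set X) ∩ Z : Set X) ≤ 0)
    (hT : (T : Set X) ⊆ closure ((T : Set X) \ Z)) (hZ : (Z : Set X) ⊆ closure ((Z : Set X) \ T)) :
    Curv2.euler k X (LJ (vI T) ω) = kk k T Z - Curv2.euler k X (ClSub.quotMod (vI T)) := by
  have hd' : topologicalKrullDim ((Z : Set X) ∩ T : Set X) ≤ 0 := by rwa [Set.inter_comm]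
  have h1 := euler_NS_le (k := k) hdim hω hdual hS hT
  have h2 := euler_NS_le (k := k) hdim hω hdual ((sup_comm Z T).trans hS) hZ
  have h3 := euler_NS (k := k) hω hd
  have h4 := euler_NS (k := k) hω hd'
  have h5 : kk k Z T = kk k T Z := by rw [kk, kk, sup_comm]
  have h6 := euler_split (k := k) hω hS hd
  have h7 := euler_quotMod_split (k := k) hS hd
  have h8 : Curv2.euler k X (LJ (vI (⊤ : Closeds X)) ω) = Curv2.euler k X ω :=
    CurveLib.euler_iso (K := k) (eqToIso (congrArg (fun J => LJ J ω) (vI_top (X := X))) ≪≫ ljBot ω)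
  have h9 : Curv2.euler k X (ClSub.quotMod (vI (⊤ : Closeds X))) = Curv2.euler k X (Coh.structureModule X) :=
    CurveLib.euler_iso (K := k) ((tensorStructureIso _).symm ≪≫
      eqToIso (congrArg (fun J => LJ J (Coh.structureModule X)) (vI_top (X := X))) ≪≫ ljBot _)
  have h10 := euler_omega_eq (k := k) hdim hω hdual hle
  rw [h5] at h4
  omega

end Dual

end Groth.Agent.SubAdjLib
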