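import Groth.Agent.SubAdjLib.Subcurve
import Groth.Agent.TwistShriek.CurveConn
import Groth.Agent.ZeroConnLib.Basic
import Groth.Agent.S7856

/-!
# Constants on a connected subcurve and the intersection with the rest
-/

set_option autoImplicit false
set_option backward.isDefEq.respectTransparency false
set_option backward.isDefEq.respectTransparency.types false
set_option linter.style.haveILetI false
set_option maxHeartbeats 1000000

universe u

open CategoryTheory CategoryTheory.Limits AlgebraicGeometry TopologicalSpace Opposite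
open Groth.Agent.PullbackMod Groth.Agent.DCohLib Groth.Agent.CurveLib Groth.Agent.H1ZeroLib
open Groth.Agent.CliffCurveLib

noncomputable section

namespace Groth.Agent.SubAdjLib

variable {X : Scheme.{u}}

/-- The scheme-theoretic closure of an open subscheme of a reduced scheme is reduced. -/
theorem ker_opens_eq [IsNoetherian X] [IsReduced X] (U : X.Opens) :
    (U.ι).ker = vI ⟨closure (U : Set X), isClosed_closure⟩ := by
  have hrad : (U.ι).ker.radical = (U.ι).ker := by
    refine le_antisymm (fun V => ?_) (Scheme.IdealSheafData.le_radical _)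
    rw [Scheme.IdealSheafData.radical_ideal, Scheme.Hom.ker_apply]
    intro a ha
    obtain ⟨n, hn⟩ := ha
    rw [RingHom.mem_ker, map_pow] at hn
    exact RingHom.mem_ker.2 (IsNilpotent.eq_zero ⟨n, hn⟩)
  rw [← hrad, ← Scheme.IdealSheafData.vanishingIdeal_support]
  refine congrArg Scheme.IdealSheafData.vanishingIdeal (SetLike.coe_injective ?_)
  rw [Scheme.Hom.support_ker, Scheme.Opens.range_ι]
  rfl

variable (k : Type u) [Field k] [X.Over (Spec (CommRingCat.of k))] [IsProper (X ↘ Spec (CommRingCat.of k))]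

theorem finrank_quot_eq (J : X.IdealSheafData) :
    letI : Algebra k Γ(J.subscheme, ⊤) :=
      (Coh.toGlobal (J.subschemeι ≫ (X ↘ Spec (CommRingCat.of k))) : k →+* Γ(J.subscheme, ⊤)).toAlgebra
    Module.finrank k (Coh.HH X (ClSub.quotMod J) 0) = Module.finrank k Γ(J.subscheme, ⊤) := by
  letI : J.subscheme.Over (Spec (CommRingCat.of k)) := ⟨J.subschemeι ≫ (X ↘ Spec (CommRingCat.of k))⟩
  letI : Algebra k Γ(J.subscheme, ⊤) :=
    (Coh.toGlobal (J.subschemeι ≫ (X ↘ Spec (CommRingCat.of k))) : k →+* Γ(J.subscheme, ⊤)).toAlgebra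
  haveI : Coh.IsQCoh (Coh.structureModule J.subscheme) := CohBase.isQCoh_structureModule
  refine (IntLib.finrank_push k J.subschemeι rfl (Coh.structureModule J.subscheme) 0).trans ?_
  let e : Coh.HH J.subscheme (Coh.structureModule J.subscheme) 0 ≃ₗ[k] Γ(J.subscheme, ⊤) :=
    { (secOf (Coh.structureModule J.subscheme)) with map_smul' := fun r c => secOf_smul (k := k) _ r c }
  exact e.finrank_eq

include k in
/-- Functions on a connected subcurve form a field. -/
theorem isField_global {S : Closeds X} (hS : IsSub S) : IsField Γ((vI S).subscheme, ⊤) := by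
  haveI : IsReduced (vI S).subscheme := DVRCrit.isReduced_vanishingIdeal S
  haveI := connectedSpace_vI hS.1
  letI : (vI S).subscheme.Over (Spec (CommRingCat.of k)) := ⟨(vI S).subschemeι ≫ (X ↘ Spec (CommRingCat.of k))⟩
  haveI : IsProper ((vI S).subscheme ↘ Spec (CommRingCat.of k)) :=
    inferInstanceAs (IsProper ((vI S).subschemeι ≫ (X ↘ Spec (CommRingCat.of k))))
  haveI : Nontrivial Γ((vI S).subscheme, ⊤) := by
    haveI : Nonempty (⊤ : (vI S).subscheme.Opens).toScheme := ⟨⟨Classical.arbitrary _, trivial⟩⟩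
    infer_instance
  refine ⟨⟨0, 1, zero_ne_one⟩, mul_comm, fun {a} ha => ?_⟩
  rcases ZeroConnLib.isUnit_or_isNilpotent (X := (vI S).subscheme) k a with hu | hn
  · exact hu.exists_right_inv
  · exact absurd hn.eq_zero ha

theorem h0_pos {S : Closeds X} (hS : IsSub S) : 0 < Module.finrank k (Coh.HH X (ClSub.quotMod (vI S)) 0) :=
  h0_quotMod_pos hS.1.1

include k in
/-- Nonzero `H¹` of a connected subcurve has at least the dimension of its functions. -/
theorem h0_le_gS {S : Closeds X} (hS : IsSub S) (hg : 0 < gS k S) :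
    Module.finrank k (Coh.HH X (ClSub.quotMod (vI S)) 0) ≤ gS k S := by
  haveI := EulerIneqLib.isNoetherian_proper (X := X) k
  let J := vI S
  let N := ClSub.quotMod J
  haveI : Nontrivial (Coh.HH X N 1) := Module.nontrivial_of_finrank_pos (R := k) hg
  haveI := EulerIneqLib.finite_HH (k := k) (IntLib.isCoh_quotMod J) 1
  have hF := fieldLike_vanishingIdeal (k := k) S hS.1
  let e1 : Coh.HH X N 1 ≃ₗ[k] Coh.HH X (tmod N (Coh.structureModule X)) 1 :=
    LinearEquiv.ofBijective _ (hMap_bijective_iso (k := k) (tensorStructureIso N).symm 1)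
  haveI := isIso_mulS_toSubscheme (killed_quotMod J)
  let e2 : Coh.HH X (tmod N (ClSub.quotMod J)) 1 ≃ₗ[k] Coh.HH X N 1 :=
    LinearEquiv.ofBijective _ (hMap_bijective_iso (k := k)
      ((asIso (mulS N (ClSub.toSubscheme J))).symm ≪≫ tensorStructureIso N) 1)
  obtain ⟨w, hw⟩ := exists_ne (0 : Coh.HH X N 1)
  let f : Coh.HH X (ClSub.quotMod J) 0 →ₗ[k] Coh.HH X N 1 :=
    e2.toLinearMap ∘ₗ ((mulH (k := k) N (ClSub.quotMod J) 1).flip (e1 w))
  refine LinearMap.finrank_le_finrank_of_injective (f := f) ((injective_iff_map_eq_zero f).2 fun c hc => ?_)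
  by_contra hne
  let σ := DCohLib.secHom (ClSub.quotMod J) (secOf _ c)
  have hσ : σ ≠ 0 := secHom_secOf_ne_zero _ hne
  haveI := isIso_mulS_section (killed_quotMod J) σ fun x _ => hF σ hσ x
  have hinj : Function.Injective (hMap (k := k) (mulS N σ) 1) :=
    (hMap_bijective_iso (k := k) (asIso (mulS N σ)) 1).1
  have h2 : e2 (hMap (k := k) (mulS N σ) 1 (e1 w)) = 0 := hc
  exact hw (e1.injective (hinj ((e2.injective (h2.trans (map_zero e2).symm)).trans (map_zero _).symm) |>.trans (map_zero e1).symm))

/-- The intersection of a connected subcurve with the rest, as a vector space over the constants. -/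
theorem exists_kc_mul [ConnectedSpace X] (hdim : topologicalKrullDim X ≤ 1) {S : Closeds X} (hS : IsSub S)
    (hne : S ≠ ⊤) :
    ∃ b : ℕ, 1 ≤ b ∧ kc k S = b * Module.finrank k (Coh.HH X (ClSub.quotMod (vI S)) 0) ∧
      (b = 1 → Nonempty (vI S ⊔ vI (compl S)).subscheme ∧ Subsingleton (vI S ⊔ vI (compl S)).subscheme ∧
        IsReduced (vI S ⊔ vI (compl S)).subscheme ∧
        ∀ c : (vI S ⊔ vI (compl S)).subscheme, Function.Bijective
          ((vI S).subscheme.evaluation ⊤ ((Scheme.IdealSheafData.inclusion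
            (le_sup_left : vI S ≤ vI S ⊔ vI (compl S))).base c) trivial)) := by
  haveI := EulerIneqLib.isNoetherian_proper (X := X) k
  let I := vI S
  let J := vI S ⊔ vI (compl S)
  let i := Scheme.IdealSheafData.inclusion (le_sup_left : vI S ≤ vI S ⊔ vI (compl S))
  letI fK := (isField_global k hS).toField
  letI aK : Algebra k Γ(I.subscheme, ⊤) :=
    (Coh.toGlobal (I.subschemeι ≫ (X ↘ Spec (CommRingCat.of k))) : k →+* Γ(I.subscheme, ⊤)).toAlgebra
  letI aA : Algebra k Γ(J.subscheme, ⊤) :=
    (Coh.toGlobal (J.subschemeι ≫ (X ↘ Spec (CommRingCat.of k))) : k →+* Γ(J.subscheme, ⊤)).toAlgebra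
  letI aKA : Algebra Γ(I.subscheme, ⊤) Γ(J.subscheme, ⊤) := i.appTop.hom.toAlgebra
  haveI : IsScalarTower k Γ(I.subscheme, ⊤) Γ(J.subscheme, ⊤) := IsScalarTower.of_algebraMap_eq fun r => by
    show Coh.toGlobal (J.subschemeι ≫ (X ↘ Spec (CommRingCat.of k))) r =
      i.appTop.hom (Coh.toGlobal (I.subschemeι ≫ (X ↘ Spec (CommRingCat.of k))) r)
    rw [← Scheme.IdealSheafData.inclusion_subschemeι (le_sup_left : vI S ≤ vI S ⊔ vI (compl S)), Category.assoc]
    rfl
  have hA : kc k S = Module.finrank k Γ(I.subscheme, ⊤) * Module.finrank Γ(I.subscheme, ⊤) Γ(J.subscheme, ⊤) :=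
    (finrank_quot_eq k J).trans (Module.finrank_mul_finrank k Γ(I.subscheme, ⊤) Γ(J.subscheme, ⊤)).symm
  have hpos := kc_pos k hdim hS hne
  refine ⟨Module.finrank Γ(I.subscheme, ⊤) Γ(J.subscheme, ⊤), ?_, ?_, fun h1 => ?_⟩
  · by_contra h
    rw [show Module.finrank Γ(I.subscheme, ⊤) Γ(J.subscheme, ⊤) = 0 by omega, mul_zero] at hA
    omega
  · rw [hA, mul_comm, finrank_quot_eq k I]
  haveI : Nontrivial Γ(J.subscheme, ⊤) := Module.nontrivial_of_finrank_pos (R := Γ(I.subscheme, ⊤)) (by omega)
  have hbij : Function.Bijective i.appTop.hom := by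
    refine ⟨RingHom.injective i.appTop.hom, fun a => ?_⟩
    obtain ⟨c, hc⟩ := exists_smul_eq_of_finrank_eq_one h1 (one_ne_zero (α := Γ(J.subscheme, ⊤))) a
    exact ⟨c, by rw [← hc, Algebra.smul_def, mul_one]; rfl⟩
  have hAfield : IsField Γ(J.subscheme, ⊤) :=
    MulEquiv.isField (isField_global k hS) (RingEquiv.ofBijective i.appTop.hom hbij).symm.toMulEquiv
  -- the points are closed and finitely many
  have hC : IsClosed ((S : Set X) ∩ compl S) := S.isClosed.inter (compl S).isClosed
  have hCd := dim_compl_inter k hdim S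
  have hmem : ∀ z : J.subscheme, J.subschemeι z ∈ (S : Set X) ∩ compl S := fun z => by
    have h : J.subschemeι z ∈ (J.support : Set X) := by
      rw [← Scheme.IdealSheafData.range_subschemeι]; exact ⟨z, rfl⟩
    rw [Scheme.IdealSheafData.support_sup, support_vanishingIdeal', support_vanishingIdeal'] at h
    exact h
  haveI : T1Space J.subscheme := ⟨fun z => by
    have h : IsClosed ({J.subschemeι z} : Set X) := by
      rw [← CurveLib.closure_singleton_eq hC hCd (hmem z)]; exact isClosed_closure
    have h' := h.preimage J.subschemeι.continuous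
    rwa [show J.subschemeι ⁻¹' {J.subschemeι z} = {z} from Set.ext fun w =>
      ⟨fun hw => J.subschemeι.isEmbedding.injective hw, fun hw => by rw [hw]; rfl⟩] at h'⟩
  haveI : Finite J.subscheme := by
    haveI := (CurveLib.finite_of_dim_le_zero hC hCd).to_subtype
    exact Finite.of_injective (fun z => (⟨J.subschemeι z, hmem z⟩ : ((S : Set X) ∩ compl S : Set X)))
      fun a b h => J.subschemeι.isEmbedding.injective (congrArg (fun w : ((S : Set X) ∩ compl S : Set X) => (w : X)) h : _)
  haveI hne' : Nonempty J.subscheme := by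
    by_contra hemp
    rw [not_nonempty_iff] at hemp
    exact not_subsingleton Γ(J.subscheme, ⊤) inferInstance
  haveI : ConnectedSpace J.subscheme := (Groth.Agent.S7856.idem_trivial_iff J.subscheme).2 ⟨inferInstance, fun a ha => by
    letI := hAfield.toField
    exact IsIdempotentElem.iff_eq_zero_or_one.1 ha⟩
  haveI hsub : Subsingleton J.subscheme := PreconnectedSpace.trivial_of_discrete
  haveI : IsAffine J.subscheme := by
    obtain ⟨z⟩ := hne'
    obtain ⟨U, hU, hzU, -⟩ := exists_isAffineOpen_mem_and_subset (X := J.subscheme) (x := z) (U := ⊤) trivial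
    have e : U = ⊤ := eq_top_iff.2 fun w _ => Subsingleton.elim z w ▸ hzU
    rw [e] at hU
    haveI : IsAffine (⊤ : J.subscheme.Opens).toScheme := hU
    exact IsAffine.of_isIso J.subscheme.topIso.inv
  haveI hred : IsReduced J.subscheme := by
    letI := hAfield.toField
    haveI : IsReduced (Spec Γ(J.subscheme, ⊤)) := inferInstance
    exact isReduced_of_isOpenImmersion J.subscheme.isoSpec.hom
  refine ⟨hne', hsub, hred, fun c => ?_⟩
  let ev := (I.subscheme.evaluation ⊤ (i.base c) trivial).hom
  refine ⟨RingHom.injective ev, fun t => ?_⟩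
  have hsurjJ : Function.Surjective (J.subscheme.evaluation ⊤ c trivial).hom := by
    have h1 : Function.Surjective (J.subscheme.presheaf.germ ⊤ c trivial).hom := fun s => by
      obtain ⟨U, hcU, v, rfl⟩ := TopCat.Presheaf.exists_germ_eq J.subscheme.presheaf s
      have e : U = ⊤ := eq_top_iff.2 fun w _ => Subsingleton.elim c w ▸ hcU
      subst e
      exact ⟨v, rfl⟩
    exact (IsLocalRing.residue_surjective.comp h1 :)
  obtain ⟨a, ha⟩ := hsurjJ ((i.residueFieldMap c).hom t)
  obtain ⟨b, rfl⟩ := hbij.2 a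
  refine ⟨b, (i.residueFieldMap c).hom.injective ?_⟩
  exact (Scheme.Γevaluation_naturality_apply i c b).trans ha

end Groth.Agent.SubAdjLib
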