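import Groth.Agent.SubAdjLib.Rational

/-!
# At most two components pass through a node
-/

set_option autoImplicit false
set_option backward.isDefEq.respectTransparency false
set_option backward.isDefEq.respectTransparency.types false
set_option linter.style.haveILetI false
set_option maxHeartbeats 1000000

universe u

open CategoryTheory CategoryTheory.Limits AlgebraicGeometry TopologicalSpace Opposite IsLocalRing
open Groth.Agent.PullbackMod Groth.Agent.DCohLib Groth.Agent.CurveLib Groth.Agent.H1ZeroLib
open Groth.Agent.CliffCurveLib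

noncomputable section

namespace Groth.Agent.SubAdjLib

/-- A local ring of δ-invariant one has no three orthogonal pieces. -/
theorem false_of_three_pieces (A : Type u) [CommRing A] [IsLocalRing A] [_root_.IsReduced A]
    (hδ : Curv2.deltaInv A = 1) {a b c : A} (hab : a * b = 0) (hac : a * c = 0) (hbc : b * c = 0)
    (ha : a ≠ 0) (hb : b ≠ 0) (hc : c ≠ 0) (hs : a + b + c ∈ nonZeroDivisors A) : False := by
  let K := FractionRing A
  let Q := LinearMap.range (Algebra.linearMap A (DeltaBC.Nor A))
  haveI : IsSimpleModule A (DeltaBC.Nor A ⧸ Q) := Module.length_eq_one_iff.1 hδ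
  let s : nonZeroDivisors A := ⟨a + b + c, hs⟩
  have hu : IsUnit (algebraMap A K (a + b + c)) := IsLocalization.map_units _ s
  have key : ∀ x y : A, x * y = 0 → x + y = a + b + c → ∃ e : DeltaBC.Nor A,
      (e : K) * algebraMap A K (a + b + c) = algebraMap A K x := by
    intro x y hxy hsum
    let e : K := IsLocalization.mk' _ x s
    have he : e * algebraMap A _ (a + b + c) = algebraMap A _ x := IsLocalization.mk'_spec _ x s
    have hidem : e * e = e := by
      apply (hu.mul hu).mul_right_cancel
      calc e * e * (algebraMap A _ (a + b + c) * algebraMap A _ (a + b + c))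
          = (e * algebraMap A _ (a + b + c)) * (e * algebraMap A _ (a + b + c)) := by ring
        _ = algebraMap A _ x * algebraMap A _ (a + b + c) := by
            rw [he, ← map_mul, ← map_mul, ← hsum, mul_add, hxy, add_zero]
        _ = e * (algebraMap A _ (a + b + c) * algebraMap A _ (a + b + c)) := by rw [← mul_assoc, he]
    exact ⟨⟨e, ⟨Polynomial.X ^ 2 - Polynomial.X, Polynomial.monic_X_pow_sub (by simp), by
      simp [pow_two, hidem]⟩⟩, he⟩
  obtain ⟨e₁, he₁⟩ := key a (b + c) (by rw [mul_add, hab, hac, add_zero]) (by ring)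
  obtain ⟨e₂, he₂⟩ := key b (a + c) (by rw [mul_add, mul_comm b a, hab, hbc, add_zero]) (by ring)
  -- a piece with a trivial idempotent
  have hne : ∀ {x : A}, x ≠ 0 → ∀ e : DeltaBC.Nor A, (e : K) * algebraMap A K (a + b + c) = algebraMap A K x →
      ∀ {y : A}, y ≠ 0 → x * y = 0 → x * x = (a + b + c) * x → Submodule.Quotient.mk e ≠ (0 : DeltaBC.Nor A ⧸ Q) := by
    intro x hx e he y hy hxy hxs h0
    rw [Submodule.Quotient.mk_eq_zero] at h0
    obtain ⟨t, ht⟩ := h0
    have ht' : algebraMap A K t = (e : K) := congrArg Subtype.val ht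
    have hxt : x = t * (a + b + c) := IsFractionRing.injective A K (by rw [map_mul, ht', he])
    have h1 : t * (t - 1) = 0 := by
      refine (mem_nonZeroDivisors_iff.1 (mul_mem hs hs)).1 _ ?_
      have hh : (t * (a + b + c)) * (t * (a + b + c)) = (a + b + c) * (t * (a + b + c)) := by rw [← hxt]; exact hxs
      linear_combination hh
    rcases IsLocalRing.isUnit_or_isUnit_one_sub_self t with htu | htu
    · have h2 : t - 1 = 0 := htu.mul_right_eq_zero.1 h1
      rw [sub_eq_zero.1 h2, one_mul] at hxt
      rw [hxt, mul_comm] at hxy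
      exact hy ((mem_nonZeroDivisors_iff.1 hs).1 y (by rwa [mul_comm] at hxy))
    · refine hx ?_
      have htu' : IsUnit (t - 1) := by rw [← neg_sub]; exact htu.neg
      rw [hxt, htu'.mul_left_eq_zero.1 h1, zero_mul]
  have h2ne := hne hb e₂ he₂ ha (by rw [mul_comm]; exact hab)
    (by linear_combination (-1 : A) * hab + (-1 : A) * hbc)
  obtain ⟨r, hr⟩ := Submodule.mem_span_singleton.1
    ((IsSimpleModule.span_singleton_eq_top A h2ne).ge (Submodule.mem_top (x := Submodule.Quotient.mk e₁)))
  rw [← Submodule.Quotient.mk_smul, Submodule.Quotient.eq] at hr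
  obtain ⟨t, ht⟩ := hr
  have ht' : algebraMap A K t = algebraMap A K r * (e₂ : K) - (e₁ : K) := by
    have := congrArg Subtype.val ht
    simp only [AddSubgroupClass.coe_sub, SetLike.val_smul, Algebra.smul_def] at this
    exact this
  have heq : t * (a + b + c) = r * b - a := IsFractionRing.injective A K (by
    rw [map_mul, ht', sub_mul, mul_assoc, he₂, he₁, map_sub, map_mul])
  have htc : t * (c * c) = 0 := by linear_combination c * heq + (-t + (-1 : A)) * hac + (-t + r) * hbc
  rcases IsLocalRing.isUnit_or_isUnit_one_sub_self (-t) with htu | htu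
  · exact hc ((isReduced_iff A).1 inferInstance c ⟨2, by
      rw [pow_two]; exact (htu.neg).mul_right_eq_zero.1 (by rw [neg_neg]; exact htc)⟩)
  · have h1 : (1 - -t) * (a * a) = 0 := by linear_combination a * heq + (-t + r) * hab + (-t) * hac
    exact ha ((isReduced_iff A).1 inferInstance a ⟨2, by rw [pow_two]; exact htu.mul_right_eq_zero.1 h1⟩)

variable {X : Scheme.{u}} [IsReduced X]

/-- A germ on the branch of one component at `x`, vanishing on all other branches. -/
theorem exists_branch_element [NoetherianSpace X] {x : X} {C : Set X} (hC : C ∈ irreducibleComponents (X : Type u))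
    (hxC : x ∈ C) : ∃ a : X.presheaf.stalk x, a ∈ IntMult.stalkIdeal (vI (compl (compo hC))) x ∧
      a ∉ IntMult.stalkIdeal (vI (compo hC)) x := by
  obtain ⟨ξ, hξ⟩ := QuasiSober.sober hC.1 (isClosed_of_mem_irreducibleComponents C hC)
  have hξn : ξ ∉ compl (compo hC) := fun h => by
    obtain ⟨C', hC', hne, hξC'⟩ := exists_other_component hC h
    refine hne (le_antisymm (hC.2 hC'.1 ?_) ?_) <;>
    · rw [← hξ.def]
      exact closure_minimal (Set.singleton_subset_iff.2 hξC') (isClosed_of_mem_irreducibleComponents C' hC')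
  by_contra h
  push Not at h
  have h1 := Ideal.map_mono (f := (X.presheaf.stalkSpecializes (hξ.specializes hxC)).hom) (fun a ha => h a ha)
  rw [DivisorialLib.map_stalkSpecializes, DivisorialLib.map_stalkSpecializes, stalkIdeal_vI_top hξn, top_le_iff] at h1
  exact (mem_support_iff_stalk _ _).1 (mem_support_vI.2 (show ξ ∈ compo hC from hξ.mem)) h1

/-- A germ vanishing on every component through `x` vanishes. -/
theorem eq_zero_of_mem_components [NoetherianSpace X] {x : X} {r : X.presheaf.stalk x}
    (h : ∀ (C : Set X) (hC : C ∈ irreducibleComponents (X : Type u)), x ∈ C → r ∈ IntMult.stalkIdeal (vI (compo hC)) x) :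
    r = 0 := by
  classical
  have hfin := (NoetherianSpace.finite_irreducibleComponents (α := X)).to_subtype
  haveI := Fintype.ofFinite (irreducibleComponents (X : Type u))
  have key : ∀ s : Finset (irreducibleComponents (X : Type u)),
      r ∈ IntMult.stalkIdeal (vI (s.sup fun C => compo C.2)) x := by
    intro s
    induction s using Finset.induction_on with
    | empty => rw [Finset.sup_empty, stalkIdeal_vI_top (fun hx : x ∈ (⊥ : Closeds X) => hx)]; trivial
    | insert C s _ ih =>
      rw [Finset.sup_insert]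
      refine stalkIdeal_inf_le rfl x ⟨?_, ih⟩
      by_cases hx : x ∈ (C : Set X)
      · exact h _ C.2 hx
      · rw [stalkIdeal_vI_top (S := compo C.2) hx]; trivial
  have htop : (Finset.univ.sup fun C : irreducibleComponents (X : Type u) => compo C.2) = (⊤ : Closeds X) :=
    top_le_iff.1 fun y _ => (Finset.le_sup (f := fun C : irreducibleComponents (X : Type u) => compo C.2)
      (Finset.mem_univ ⟨_, irreducibleComponent_mem_irreducibleComponents y⟩)) mem_irreducibleComponent
  have h1 := key Finset.univ
  rw [htop, show vI (⊤ : Closeds X) = ⊥ from vI_top, stalkIdeal_bot'] at h1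
  exact h1

variable (k : Type u) [Field k] [IsAlgClosed k] [X.Over (Spec (CommRingCat.of k))] [IsProper (X ↘ Spec (CommRingCat.of k))]

include k in
/-- A point lies on at most two components. -/
theorem not_three_components [ConnectedSpace X] (hdim : topologicalKrullDim X = 1) (hX : Curv2.AtWorstNodal k X)
    {x : X} {C₁ C₂ C₃ : Set X} (h₁ : C₁ ∈ irreducibleComponents (X : Type u))
    (h₂ : C₂ ∈ irreducibleComponents (X : Type u)) (h₃ : C₃ ∈ irreducibleComponents (X : Type u))
    (h12 : C₁ ≠ C₂) (h13 : C₁ ≠ C₃) (h23 : C₂ ≠ C₃) (hx₁ : x ∈ C₁) (hx₂ : x ∈ C₂) (hx₃ : x ∈ C₃) : False := by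
  classical
  haveI := EulerIneqLib.isNoetherian_proper (X := X) k
  have hc : ∀ Z ∈ irreducibleComponents (X : Type u), topologicalKrullDim Z = 1 := fun Z hZ =>
    TwistShriek.dim_irreducibleComponent k hdim hZ
  have hn : Curv2.IsNode k X x := (NodePtLib.smooth_or_node_at hc hX x).resolve_left fun hs =>
    h12 (component_unique_of_smooth k hs h₁ h₂ hx₁ hx₂)
  let F := {C : irreducibleComponents (X : Type u) // x ∈ (C : Set X)}
  haveI : Finite (irreducibleComponents (X : Type u)) := NoetherianSpace.finite_irreducibleComponents.to_subtype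
  haveI := Fintype.ofFinite F
  choose a ha hna using fun C : F => exists_branch_element C.1.2 C.2
  have horth : ∀ C D : F, C ≠ D → a C * a D = 0 := fun C D hne => by
    refine eq_zero_of_mem_components fun Z hZ hxZ => ?_
    by_cases hZC : Z = (C.1 : Set X)
    · subst hZC
      have hne' : (C.1 : Set X) ≠ (D.1 : Set X) := fun e => hne (Subtype.ext (Subtype.ext e))
      exact Ideal.mul_mem_left _ _ (stalkIdeal_mono (vI_mono (subset_closure_compl D.1.2 C.1.2 hne')) x (ha D))
    · exact Ideal.mul_mem_right _ _ (stalkIdeal_mono (vI_mono (subset_closure_compl C.1.2 hZ hZC)) x (ha C))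
  let c₁ : F := ⟨⟨C₁, h₁⟩, hx₁⟩
  let c₂ : F := ⟨⟨C₂, h₂⟩, hx₂⟩
  let c₃ : F := ⟨⟨C₃, h₃⟩, hx₃⟩
  have e12 : c₁ ≠ c₂ := fun e => h12 (congrArg (fun C : F => (C.1 : Set X)) e)
  have e13 : c₁ ≠ c₃ := fun e => h13 (congrArg (fun C : F => (C.1 : Set X)) e)
  have e23 : c₂ ≠ c₃ := fun e => h23 (congrArg (fun C : F => (C.1 : Set X)) e)
  let rest := ((Finset.univ : Finset F).erase c₁).erase c₂
  have hne0 : ∀ C : F, a C ≠ 0 := fun C h => hna C (h ▸ Submodule.zero_mem _)
  have hprime : ∀ C : F, (IntMult.stalkIdeal (vI (compo C.1.2)) x).IsPrime := fun C =>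
    isPrime_stalkIdeal C.1.2.1 C.2
  have hsum : a c₁ + a c₂ + ∑ C ∈ rest, a C = ∑ C, a C := by
    have e1 := Finset.add_sum_erase (Finset.univ : Finset F) a (Finset.mem_univ c₁)
    have e2 := Finset.add_sum_erase ((Finset.univ : Finset F).erase c₁) a
      (Finset.mem_erase.2 ⟨e12.symm, Finset.mem_univ c₂⟩)
    rw [← e1, ← e2, add_assoc]
  have hmul : ∀ C : F, a C * (∑ D, a D) = a C * a C := fun C => by
    rw [Finset.mul_sum, Finset.sum_eq_single C (fun D _ hD => horth C D hD.symm) fun h => absurd (Finset.mem_univ C) h]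
  refine false_of_three_pieces (X.presheaf.stalk x) (DeltaBC.deltaInv_node (k := k) hc hn)
    (a := a c₁) (b := a c₂) (c := ∑ C ∈ rest, a C) (horth _ _ e12) ?_ ?_ (hne0 _) (hne0 _) ?_ ?_
  · rw [Finset.mul_sum]
    exact Finset.sum_eq_zero fun D hD => horth _ _ (Finset.mem_erase.1 (Finset.mem_erase.1 hD).2).1.symm
  · rw [Finset.mul_sum]
    exact Finset.sum_eq_zero fun D hD => horth _ _ (Finset.mem_erase.1 hD).1.symm
  · intro h0
    have h1 := hmul c₃
    rw [← hsum, h0, add_zero, mul_add, horth _ _ e13.symm, horth _ _ e23.symm, add_zero] at h1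
    exact hna c₃ (((hprime c₃).mem_or_mem (h1 ▸ Submodule.zero_mem _)).elim id id)
  · rw [hsum]
    refine mem_nonZeroDivisors_iff_right.2 fun r hr => eq_zero_of_mem_components fun Z hZ hxZ => ?_
    let C : F := ⟨⟨Z, hZ⟩, hxZ⟩
    have h1 : r * (a C * a C) = 0 := by rw [← hmul C, mul_left_comm, hr, mul_zero]
    rcases (hprime C).mem_or_mem (h1 ▸ Submodule.zero_mem _ : r * (a C * a C) ∈ _) with h | h
    · exact h
    · exact absurd (((hprime C).mem_or_mem h).elim id id) (hna C)

end Groth.Agent.SubAdjLib
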