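import Groth.Agent.SubAdjLib.Basic
import Groth.Agent.DeltaBCLib.Components
import Groth.Agent.CurveLib.IntegralCrit
import Groth.Agent.CurveLib.Ample
import Groth.Agent.CurveLib.CurveVanish
import Groth.Agent.H1ZeroLib.Split
import Groth.Agent.CliffCurveLib.Global
import Groth.Agent.AmpleLib.Pullback

/-!
# Connected subcurves of a reduced Gorenstein curve
-/

set_option autoImplicit false
set_option backward.isDefEq.respectTransparency false
set_option backward.isDefEq.respectTransparency.types false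
set_option linter.style.haveILetI false
set_option maxHeartbeats 1000000

universe u

open CategoryTheory CategoryTheory.Limits AlgebraicGeometry TopologicalSpace Opposite
open Groth.Agent.PullbackMod Groth.Agent.DCohLib Groth.Agent.CurveLib Groth.Agent.H1ZeroLib
open Groth.Agent.CliffCurveLib

attribute [local instance] HasDerivedCategory.standard

noncomputable section

namespace Groth.Agent.SubAdjLib

variable {X : Scheme.{u}}

/-- A connected subcurve, as a closed subset. -/
def IsSub (S : Closeds X) : Prop :=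
  _root_.IsConnected (S : Set X) ∧ ¬ topologicalKrullDim (S : Set X) ≤ 0

/-- The closure of the complement. -/
def compl (S : Closeds X) : Closeds X := ⟨closure ((S : Set X)ᶜ), isClosed_closure⟩

theorem sup_compl (S : Closeds X) : S ⊔ compl S = ⊤ :=
  SetLike.coe_injective (by
    rw [Closeds.coe_sup, Closeds.coe_top]
    exact Set.eq_univ_of_forall fun x => (em (x ∈ (S : Set X))).imp id fun h => subset_closure h)

theorem radical_eq (J : X.IdealSheafData) [IsReduced J.subscheme] : J.radical = J := by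
  refine le_antisymm (fun U => ?_) (Scheme.IdealSheafData.le_radical J)
  haveI : _root_.IsReduced (Γ(X, U.1) ⧸ J.ideal U) :=
    isReduced_of_injective (J.subschemeObjIso U).commRingCatIsoToRingEquiv.symm
      (J.subschemeObjIso U).commRingCatIsoToRingEquiv.symm.injective
  exact ((Ideal.isRadical_iff_quotient_reduced _).2 this).radical.le

theorem exists_closeds (J : X.IdealSheafData) (hr : IsReduced J.subscheme) (hc : ConnectedSpace J.subscheme)
    (hd : topologicalKrullDim J.subscheme = 1) : ∃ S : Closeds X, IsSub S ∧ J = vI S := by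
  haveI := hr
  haveI := hc
  have e : J = vI J.support := by
    rw [vI, Scheme.IdealSheafData.vanishingIdeal_support, radical_eq]
  refine ⟨J.support, ⟨?_, ?_⟩, e⟩
  · rw [← Scheme.IdealSheafData.range_subschemeι, ← Set.image_univ]
    exact isConnected_univ.image _ J.subschemeι.continuous.continuousOn
  · rw [← dim_vI, ← e, hd]
    decide

theorem intersection_eq (S : Closeds X) :
    vI S ⊔ Scheme.IdealSheafData.vanishingIdeal ⟨closure ((((vI S).support : Closeds X) : Set X)ᶜ), isClosed_closure⟩ =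
      vI S ⊔ vI (compl S) :=
  congrArg (fun C => vI S ⊔ Scheme.IdealSheafData.vanishingIdeal C) (SetLike.coe_injective (by
    show closure _ = closure _
    rw [Scheme.IdealSheafData.coe_support_vanishingIdeal]))

variable (k : Type u) [Field k] [X.Over (Spec (CommRingCat.of k))] [IsProper (X ↘ Spec (CommRingCat.of k))]

/-- The degree on a closed subset. -/
def degS (L : X.Modules) (S : Closeds X) : ℤ :=
  Curv2.euler k X (LJ (vI S) L) - Curv2.euler k X (ClSub.quotMod (vI S))

theorem deg_eq_degS {L : X.Modules} (hL : PicF.IsInvertible L) (S : Closeds X) :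
    @Curv2.deg k _ (vI S).subscheme ⟨(vI S).subschemeι ≫ (X ↘ Spec (CommRingCat.of k))⟩
      ((Scheme.Modules.pullback (vI S).subschemeι).obj L) 1 = degS k L S :=
  deg_vI_eq hL S

include k in
theorem dim_compl_inter (hdim : topologicalKrullDim X ≤ 1) (S : Closeds X) :
    topologicalKrullDim ((S : Set X) ∩ compl S : Set X) ≤ 0 := by
  haveI := EulerIneqLib.isNoetherian_proper (X := X) k
  refine dim_mono ?_ (dim_inter_closure_diff hdim (⊤ : Closeds X) S)
  rw [Closeds.coe_top, ← Set.compl_eq_univ_sdiff]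
  exact subset_rfl

include k in
theorem dense_of_isSub (hdim : topologicalKrullDim X ≤ 1) {S : Closeds X} (hS : IsSub S) :
    (S : Set X) ⊆ closure ((S : Set X) \ compl S) := by
  haveI := EulerIneqLib.isNoetherian_proper (X := X) k
  have hC := dim_compl_inter k hdim S
  have hCc : IsClosed ((S : Set X) ∩ compl S) := S.isClosed.inter (compl S).isClosed
  intro y hy
  by_contra hcl
  have hyC : y ∈ (S : Set X) ∩ compl S := ⟨hy, by_contra fun h => hcl (subset_closure ⟨hy, h⟩)⟩
  have hfin := CurveLib.finite_of_dim_le_zero hCc hC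
  have hpt : IsClosed ({y} : Set X) := by
    have h := CurveLib.closure_singleton_eq hCc hC hyC
    rw [← h]; exact isClosed_closure
  have hrest : IsClosed (((S : Set X) ∩ compl S) \ {y}) := by
    have e : ((S : Set X) ∩ compl S) \ {y} = ⋃ z ∈ ((S : Set X) ∩ compl S) \ {y}, {z} :=
      (Set.biUnion_of_singleton _).symm
    rw [e]
    refine (hfin.subset Set.sdiff_subset).isClosed_biUnion fun z hz => ?_
    have h := CurveLib.closure_singleton_eq hCc hC hz.1
    rw [← h]; exact isClosed_closure
  have hne : ((S : Set X) \ {y}).Nonempty := by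
    by_contra hh
    rw [Set.not_nonempty_iff_eq_empty, Set.sdiff_eq_empty] at hh
    exact hS.2 (dim_mono (fun z hz => hh hz ▸ hyC) hC)
  obtain ⟨z, hz, hzy⟩ := hne
  obtain ⟨w, hw, hw1, hw2⟩ := isPreconnected_closed_iff.1 hS.1.2 ({y} : Set X)
    (closure ((S : Set X) \ compl S) ∪ (((S : Set X) ∩ compl S) \ {y})) hpt (isClosed_closure.union hrest)
    (fun v hv => by
      by_cases hvy : v = y
      · exact Or.inl hvy
      by_cases hvC : v ∈ compl S
      · exact Or.inr (Or.inr ⟨⟨hv, hvC⟩, hvy⟩)
      · exact Or.inr (Or.inl (subset_closure ⟨hv, hvC⟩)))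
    ⟨y, hy, rfl⟩ ⟨z, hz, by
      by_cases hzC : z ∈ compl S
      · exact Or.inr ⟨⟨hz, hzC⟩, hzy⟩
      · exact Or.inl (subset_closure ⟨hz, hzC⟩)⟩
  rw [Set.mem_singleton_iff] at hw1
  subst hw1
  rcases hw2 with h | h
  · exact hcl h
  · exact h.2 rfl

theorem dense_compl (S : Closeds X) : (compl S : Set X) ⊆ closure ((compl S : Set X) \ S) :=
  closure_mono fun _ hy => ⟨subset_closure hy, hy⟩

/-- The intersection number with the rest. -/
abbrev kc (S : Closeds X) : ℕ := kk k S (compl S)

theorem kc_pos [ConnectedSpace X] (hdim : topologicalKrullDim X ≤ 1) {S : Closeds X} (hS : IsSub S)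
    (hne : S ≠ ⊤) : 1 ≤ kc k S := by
  haveI := EulerIneqLib.isNoetherian_proper (X := X) k
  obtain ⟨x, hx⟩ := hS.1.1
  have hc : ((compl S : Set X)).Nonempty := by
    by_contra h
    refine hne (SetLike.coe_injective ?_)
    rw [Closeds.coe_top]
    exact Set.eq_univ_of_forall fun z => by_contra fun hz => h ⟨z, subset_closure hz⟩
  obtain ⟨c, hc⟩ := hc
  obtain ⟨y, -, hy1, hy2⟩ := isPreconnected_closed_iff.1 isPreconnected_univ (S : Set X) (compl S : Set X)
    S.isClosed (compl S).isClosed (by rw [← Closeds.coe_sup, sup_compl, Closeds.coe_top])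
    ⟨x, trivial, hx⟩ ⟨c, trivial, hc⟩
  by_contra h0
  have hy : y ∈ (vI S ⊔ vI (compl S)).support := by
    rw [Scheme.IdealSheafData.support_sup]
    exact ⟨mem_support_vI.2 hy1, mem_support_vI.2 hy2⟩
  haveI := EulerIneqLib.finite_HH (k := k) (IntLib.isCoh_quotMod (vI S ⊔ vI (compl S))) 0
  haveI : Subsingleton (Coh.HH X (ClSub.quotMod (vI S ⊔ vI (compl S))) 0) :=
    (Module.finrank_eq_zero_iff_of_free k _).1 (show kc k S = 0 by omega)
  haveI := subsingleton_stalk_of_H0 (M := ClSub.quotMod (vI S ⊔ vI (compl S)))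
    (C := ((S : Set X) ∩ compl S)) (S.isClosed.inter (compl S).isClosed) (dim_compl_inter k hdim S) ((IntLib.support_quotMod_subset _).trans (by
      rw [Scheme.IdealSheafData.support_sup, support_vanishingIdeal', support_vanishingIdeal']
      exact subset_rfl)) y
  exact (mem_support_iff_stalk _ _).1 hy ((Ideal.eq_top_iff_one _).2 ((qv_eq_zero_iff _ y 1).1 (Subsingleton.elim _ _)))

theorem h0_quot [IsAlgClosed k] {S : Closeds X} (hS : IsSub S) :
    Module.finrank k (Coh.HH X (ClSub.quotMod (vI S)) 0) = 1 := by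
  haveI : IsReduced (vI S).subscheme := DVRCrit.isReduced_vanishingIdeal S
  haveI := connectedSpace_vI hS.1
  letI : (vI S).subscheme.Over (Spec (CommRingCat.of k)) := ⟨(vI S).subschemeι ≫ (X ↘ Spec (CommRingCat.of k))⟩
  haveI : IsProper ((vI S).subscheme ↘ Spec (CommRingCat.of k)) :=
    inferInstanceAs (IsProper ((vI S).subschemeι ≫ (X ↘ Spec (CommRingCat.of k))))
  haveI : Coh.IsQCoh (Coh.structureModule (vI S).subscheme) := CohBase.isQCoh_structureModule
  refine (IntLib.finrank_push k (vI S).subschemeι rfl (Coh.structureModule (vI S).subscheme) 0).trans ?_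
  rw [DeltaBC.finrank_H0_eq_card_components k (vI S).subscheme]
  haveI : Subsingleton (_root_.ConnectedComponents (vI S).subscheme) :=
    ⟨fun a b => by
      obtain ⟨a, rfl⟩ := _root_.ConnectedComponents.surjective_coe a
      obtain ⟨b, rfl⟩ := _root_.ConnectedComponents.surjective_coe b
      exact _root_.ConnectedComponents.coe_eq_coe'.2 (by rw [PreconnectedSpace.connectedComponent_eq_univ]; trivial)⟩
  haveI : Nonempty (_root_.ConnectedComponents (vI S).subscheme) :=
    ⟨_root_.ConnectedComponents.mk (Classical.arbitrary _)⟩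
  exact Nat.card_unique

theorem euler_quot [IsAlgClosed k] (hdim : topologicalKrullDim X ≤ 1) {S : Closeds X} (hS : IsSub S) :
    Curv2.euler k X (ClSub.quotMod (vI S)) = 1 - gS k S := by
  rw [euler_eq_sub (k := k) hdim, h0_quot k hS]
  simp

theorem degS_top [IsReduced X] (L : X.Modules) : degS k L ⊤ = Curv2.deg k X L 1 := by
  unfold degS Curv2.deg
  rw [CurveLib.euler_iso (K := k) (eqToIso (congrArg (fun J => LJ J L) (vI_top (X := X))) ≪≫ ljBot L),
    CurveLib.euler_iso (K := k) ((tensorStructureIso (ClSub.quotMod (vI (⊤ : Closeds X)))).symm ≪≫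
      eqToIso (congrArg (fun J => LJ J (Coh.structureModule X)) (vI_top (X := X))) ≪≫ ljBot _)]
  simp

theorem gS_top [IsReduced X] : gS k (⊤ : Closeds X) = Curv2.genus k X :=
  (LinearEquiv.ofBijective _ (hMap_bijective_iso (k := k) ((tensorStructureIso (ClSub.quotMod (vI (⊤ : Closeds X)))).symm ≪≫
    eqToIso (congrArg (fun J => LJ J (Coh.structureModule X)) (vI_top (X := X))) ≪≫ ljBot _) 1)).finrank_eq

theorem degS_union {L : X.Modules} (hL : PicF.IsInvertible L) {A B S : Closeds X} (hS : A ⊔ B = S)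
    (hd : topologicalKrullDim ((A : Set X) ∩ B : Set X) ≤ 0) : degS k L S = degS k L A + degS k L B := by
  have h1 := euler_split (k := k) hL hS hd
  have h2 := euler_quotMod_split (k := k) hS hd
  unfold degS
  omega

include k in
/-- Induction by splitting off connected pieces. -/
theorem sub_induction (hdim : topologicalKrullDim X ≤ 1) {P : Closeds X → Prop}
    (hirr : ∀ S : Closeds X, IsSub S → IsIrreducible (S : Set X) → P S)
    (hsplit : ∀ A B S : Closeds X, IsSub S → IsSub A → IsSub B → A ⊔ B = S →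
      topologicalKrullDim ((A : Set X) ∩ B : Set X) ≤ 0 → P A → P B → P S)
    (S : Closeds X) (hS : IsSub S) : P S := by
  haveI := EulerIneqLib.isNoetherian_proper (X := X) k
  induction S using (WellFoundedLT.induction (α := Closeds X)) with
  | _ S ih =>
  by_cases hi : IsIrreducible (S : Set X)
  · exact hirr S hS hi
  obtain ⟨A, B, hA, hB, hAB, hAne, hBne, hd⟩ := exists_connected_split hdim S hS.1 hi
  have key : ∀ A B : Closeds X, _root_.IsConnected (A : Set X) → _root_.IsConnected (B : Set X) → A ⊔ B = S → B ≠ S →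
      ¬ topologicalKrullDim (A : Set X) ≤ 0 := by
    intro A B hA hB hAB hBne hd0
    obtain ⟨a, ha⟩ := hA.1
    have hsing : (A : Set X) ⊆ {a} := by
      intro z hz
      have hfin := CurveLib.finite_of_dim_le_zero A.isClosed hd0
      by_contra hza
      obtain ⟨w, -, hw1, hw2⟩ := isPreconnected_closed_iff.1 hA.2 ({a} : Set X) ((A : Set X) \ {a})
        (by rw [← CurveLib.closure_singleton_eq A.isClosed hd0 ha]; exact isClosed_closure)
        (by
          rw [← Set.biUnion_of_singleton ((A : Set X) \ {a})]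
          refine (hfin.subset Set.sdiff_subset).isClosed_biUnion fun v hv => ?_
          rw [← CurveLib.closure_singleton_eq A.isClosed hd0 hv.1]; exact isClosed_closure)
        (fun v hv => (em (v = a)).imp id fun h => ⟨hv, h⟩) ⟨a, ha, rfl⟩ ⟨z, hz, hz, hza⟩
      exact hw2.2 hw1
    obtain ⟨b, hb⟩ := hB.1
    obtain ⟨w, -, hw1, hw2⟩ := isPreconnected_closed_iff.1 hS.1.2 (A : Set X) (B : Set X) A.isClosed B.isClosed
      (by rw [← Closeds.coe_sup, hAB]) ⟨a, hAB.le (Or.inl ha), ha⟩ ⟨b, hAB.le (Or.inr hb), hb⟩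
    have haB : a ∈ B := Set.mem_singleton_iff.1 (hsing hw1) ▸ hw2
    exact hBne (le_antisymm (le_right hAB) (hAB ▸ sup_le (fun z hz => (Set.mem_singleton_iff.1 (hsing hz)) ▸ haB) le_rfl))
  have hA' : IsSub A := ⟨hA, key A B hA hB hAB hBne⟩
  have hB' : IsSub B := ⟨hB, key B A hB hA ((sup_comm B A).trans hAB) hAne⟩
  exact hsplit A B S hS hA' hB' hAB hd (ih A (lt_of_le_of_ne (le_left hAB) hAne) hA')
    (ih B (lt_of_le_of_ne (le_right hAB) hBne) hB')

theorem degS_irreducible {L : X.Modules} (hL : PicF.IsInvertible L) (hdim : topologicalKrullDim X ≤ 1) {S : Closeds X}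
    (hS : IsSub S) (hi : IsIrreducible (S : Set X)) :
    (∀ n : ℕ, degS k (CohB1.tensorPow L n) S = n * degS k L S) ∧ (CohB1.IsAmple L → 0 < degS k L S) := by
  haveI : IsIntegral (vI S).subscheme := isIntegral_vanishingIdeal S.isClosed hi
  letI : (vI S).subscheme.Over (Spec (CommRingCat.of k)) := ⟨(vI S).subschemeι ≫ (X ↘ Spec (CommRingCat.of k))⟩
  haveI : IsProper ((vI S).subscheme ↘ Spec (CommRingCat.of k)) :=
    inferInstanceAs (IsProper ((vI S).subschemeι ≫ (X ↘ Spec (CommRingCat.of k))))
  have hd : topologicalKrullDim (vI S).subscheme = 1 := dim_vI_eq_one hdim hS.2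
  have hL' := AmpleLib.isInvertible_pullback (vI S).subschemeι hL
  refine ⟨fun n => ?_, fun h => ?_⟩
  · rw [← deg_eq_degS k (AmpleLib.isInvertible_tensorPow hL n), ← deg_eq_degS k hL,
      deg_iso (k := k) (AmpleLib.pullPow (vI S).subschemeι L n), deg_tensorPow (k := k) hd.le hL']
  · rw [← deg_eq_degS k hL]
    exact (isAmple_iff_deg_pos (k := k) hd hL').1 (AmpleLib.isAmple_pullback _ h)

theorem degS_tensorPow {L : X.Modules} (hL : PicF.IsInvertible L) (hdim : topologicalKrullDim X ≤ 1) {S : Closeds X}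
    (hS : IsSub S) (n : ℕ) : degS k (CohB1.tensorPow L n) S = n * degS k L S := by
  refine sub_induction k hdim (P := fun S => degS k (CohB1.tensorPow L n) S = n * degS k L S)
    (fun S h hi => (degS_irreducible k hL hdim h hi).1 n) (fun A B S _ _ _ hAB hd hA hB => ?_) S hS
  rw [degS_union k (AmpleLib.isInvertible_tensorPow hL n) hAB hd, degS_union k hL hAB hd, hA, hB, mul_add]

theorem degS_pos_of_ample {L : X.Modules} (hL : PicF.IsInvertible L) (hdim : topologicalKrullDim X ≤ 1)
    (hamp : CohB1.IsAmple L) {S : Closeds X} (hS : IsSub S) : 0 < degS k L S := by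
  refine sub_induction k hdim (P := fun S => 0 < degS k L S)
    (fun S h hi => (degS_irreducible k hL hdim h hi).2 hamp) (fun A B S _ _ _ hAB hd hA hB => ?_) S hS
  rw [degS_union k hL hAB hd]
  omega

theorem isAmple_of_degS_pos {L : X.Modules} (hL : PicF.IsInvertible L) (hdim : topologicalKrullDim X ≤ 1)
    (h : ∀ S : Closeds X, IsSub S → IsIrreducible (S : Set X) → 0 < degS k L S) : CohB1.IsAmple L :=
  isAmple_of_deg_pos k hdim hL fun C hC hirr hd => by
    rw [show Scheme.IdealSheafData.vanishingIdeal (⟨C, hC⟩ : Closeds X) = vI ⟨C, hC⟩ from rfl, deg_eq_degS k hL]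
    exact h _ ⟨hirr.isConnected, by rw [Closeds.coe_mk, hd]; decide⟩ hirr

theorem isSub_top [ConnectedSpace X] (hdim : topologicalKrullDim X = 1) : IsSub (⊤ : Closeds X) := by
  refine ⟨by rw [Closeds.coe_top]; exact isConnected_univ, ?_⟩
  rw [Closeds.coe_top, (Homeomorph.Set.univ X).isHomeomorph.topologicalKrullDim_eq, hdim]
  decide

section Gorenstein

variable [IsReduced X] (hdim : topologicalKrullDim X = 1)
  [DCoh.HasRpush (X ↘ Spec (CommRingCat.of k))] (h : DCoh.RpushPreservesQCoh (X ↘ Spec (CommRingCat.of k)))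
  [DCoh.HasShriek (X ↘ Spec (CommRingCat.of k)) h] (OY : DCoh.DQCoh (Spec (CommRingCat.of k)))
  (hOY : Nonempty (OY.obj ≅ DCoh.inD (Spec (CommRingCat.of k)) (Coh.structureModule (Spec (CommRingCat.of k)))))
  (hGor : PicF.IsInvertible (DCoh.dualizingMod (X ↘ Spec (CommRingCat.of k)) h OY 1))

/-- The dualizing module. -/
local notation "ωX" => DCoh.dualizingMod (X ↘ Spec (CommRingCat.of k)) h OY 1

include hdim hOY hGor in
/-- `deg_S ω = 2 g_S - 2 + k_S`. -/
theorem degS_omega [IsAlgClosed k] {S : Closeds X} (hS : IsSub S) :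
    degS k ωX S = 2 * (gS k S : ℤ) - 2 + kc k S := by
  obtain ⟨tr, hω, -, hle⟩ := TwistShriek.exists_pair_dualizingMod k X h OY hOY (hdim.le.trans (by rfl))
  have h1 := adjunction (k := k) hdim.le hGor hω hle (sup_compl S) (dim_compl_inter k hdim.le S)
    (dense_of_isSub k hdim.le hS) (dense_compl S)
  unfold degS
  rw [h1, euler_quot k hdim.le hS]
  change (kc k S : ℤ) - _ - _ = _
  ring

/-- The numerical situation on a connected subcurve. -/
structure Num (G d g ks l w : ℤ) : Prop where
  g_nonneg : 0 ≤ g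
  ks_nonneg : 0 ≤ ks
  omega_eq : w = 2 * g - 2 + ks
  top_or : (ks = 0 ∧ w = G ∧ l = d) ∨ 1 ≤ ks
  lower : 2 * d * w - G * ks ≤ 2 * G * l
  upper : 2 * G * l ≤ 2 * d * w + G * ks

include hdim hOY hGor in
theorem omega_top [IsAlgClosed k] [ConnectedSpace X] :
    degS k ωX ⊤ = 2 * (Curv2.genus k X : ℤ) - 2 := by
  haveI := EulerIneqLib.isNoetherian_proper (X := X) k
  rw [degS_omega k hdim h OY hOY hGor (isSub_top hdim), gS_top]
  have h0 : kc k (⊤ : Closeds X) = 0 := by
    haveI : Subsingleton (Coh.HH X (ClSub.quotMod (vI (⊤ : Closeds X) ⊔ vI (compl ⊤))) 0) :=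
      subsingleton_H0_of_support_empty _ (Set.subset_empty_iff.1 ((IntLib.support_quotMod_subset _).trans (by
        rw [Scheme.IdealSheafData.support_sup, support_vanishingIdeal', support_vanishingIdeal']
        rintro z ⟨-, hz⟩
        have hz' : z ∈ closure (((⊤ : Closeds X) : Set X)ᶜ) := hz
        rw [Closeds.coe_top, Set.compl_univ, closure_empty] at hz'
        exact hz')))
    exact Module.finrank_zero_of_subsingleton
  rw [h0]
  simp

include hdim hOY hGor in
theorem num_of_balanced [IsAlgClosed k] [ConnectedSpace X] {L : X.Modules} (hL : PicF.IsInvertible L)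
    (hbal : ∀ J : X.IdealSheafData, IsReduced J.subscheme → ConnectedSpace J.subscheme →
      topologicalKrullDim J.subscheme = 1 →
      |2 * (2 * (Curv2.genus k X : ℤ) - 2) * @Curv2.deg k _ J.subscheme ⟨J.subschemeι ≫ (X ↘ (Spec (CommRingCat.of k)))⟩ ((Scheme.Modules.pullback J.subschemeι).obj L) 1
          - 2 * Curv2.deg k X L 1 * @Curv2.deg k _ J.subscheme ⟨J.subschemeι ≫ (X ↘ (Spec (CommRingCat.of k)))⟩ ((Scheme.Modules.pullback J.subschemeι).obj ωX) 1|
        ≤ (2 * (Curv2.genus k X : ℤ) - 2) * (Module.finrank k (Coh.HH X (ClSub.quotMod (J ⊔ (Scheme.IdealSheafData.vanishingIdeal ⟨closure ((J.support : Set X)ᶜ), isClosed_closure⟩))) 0) : ℤ))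
    {S : Closeds X} (hS : IsSub S) :
    Num (2 * (Curv2.genus k X : ℤ) - 2) (Curv2.deg k X L 1) (gS k S) (kc k S) (degS k L S) (degS k ωX S) := by
  have hb := hbal (vI S) (DVRCrit.isReduced_vanishingIdeal S) (connectedSpace_vI hS.1) (dim_vI_eq_one hdim.le hS.2)
  rw [deg_eq_degS k hL, deg_eq_degS k hGor] at hb
  have hk : (Module.finrank k (Coh.HH X (ClSub.quotMod (vI S ⊔ Scheme.IdealSheafData.vanishingIdeal
      ⟨closure ((((vI S).support : Closeds X) : Set X)ᶜ), isClosed_closure⟩)) 0) : ℤ) = kc k S := by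
    rw [intersection_eq]
  rw [hk] at hb
  obtain ⟨hlo, hhi⟩ := abs_le.1 hb
  have hw := degS_omega k hdim h OY hOY hGor hS
  refine ⟨Int.natCast_nonneg _, Int.natCast_nonneg _, hw, ?_, by linarith, by linarith⟩
  by_cases hT : S = ⊤
  · refine Or.inl ⟨?_, ?_, ?_⟩
    · subst hT
      have h2 := omega_top k hdim h OY hOY hGor
      rw [gS_top] at hw
      omega
    · rw [hT]; exact omega_top k hdim h OY hOY hGor
    · rw [hT, degS_top]
  · exact Or.inr (by exact_mod_cast kc_pos k hdim.le hS hT)

namespace Num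

variable {G d g ks l w : ℤ}

/-- A lower degree bound on a non-exceptional subcurve. -/
theorem gt_of_pos (h : Num G d g ks l w) (hG : 0 < G) {c : ℤ} (hc : c * G < 2 * d) (hw : 0 < w) :
    c * w - ks < 2 * l := by
  refine lt_of_mul_lt_mul_left ?_ hG.le
  nlinarith [h.lower, mul_lt_mul_of_pos_right hc hw]

theorem exceptional (h : Num G d g ks l w) (hG : 0 < G) (hw : w = 0) :
    g = 0 ∧ ks = 2 ∧ -1 ≤ l ∧ l ≤ 1 := by
  have h1 := h.omega_eq
  have h2 := h.g_nonneg
  have hks : g = 0 ∧ ks = 2 := by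
    rcases h.top_or with ⟨-, h4, -⟩ | h3
    · omega
    · omega
  refine ⟨hks.1, hks.2, ?_, ?_⟩
  · have h3 := h.lower
    rw [hw, hks.2] at h3
    nlinarith
  · have h3 := h.upper
    rw [hw, hks.2] at h3
    nlinarith

theorem omega_nonneg (h : Num G d g ks l w) (hG : 0 < G) (hd : G < 2 * d) (hl : 0 ≤ l) : 0 ≤ w := by
  by_contra hw
  have h1 := h.omega_eq
  have h2 := h.g_nonneg
  rcases h.top_or with ⟨-, h4, -⟩ | h3
  · omega
  · obtain rfl : ks = 1 := by omega
    obtain rfl : w = -1 := by omega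
    nlinarith [h.upper]

theorem two_genus_le (h : Num G d g ks l w) (hG : 0 < G) (hg : ∀ g', G = 2 * g' - 2 → ks = 0 → 2 * g' ≤ d)
    (hd : 3 * G < 2 * d) (hw : 0 ≤ w) (hl : 0 ≤ l) : 2 * g ≤ l := by
  have h1 := h.omega_eq
  have h2 := h.g_nonneg
  rcases lt_or_eq_of_le hw with hw' | hw'
  · rcases h.top_or with ⟨h3, h4, h5⟩ | h3
    · have h8 := hg g (by omega) h3
      omega
    · have h6 := h.gt_of_pos hG hd hw'
      omega
  · obtain ⟨hg0, -⟩ := h.exceptional hG hw'.symm
    omega

end Num

end Gorenstein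

end Groth.Agent.SubAdjLib
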